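/-
Sub-presentations of the presented Fischer group Fi₂₃ on the generator subsets
`a..i` (2·Fi₂₂), `b..i` (2 × O₇(3)), `b..h` (W(E₇)), used to bound the order from above; below
`W(E₇)` the chain continues with the sub-presentations of `Fi22Ord.Sub`.
-/
import Cfsg.Prelude.Def_Spor_Fi23
import Cfsg.Agent.Lib.Helper28.Fi22Ord.Sub

set_option autoImplicit false

namespace Cfsg.Agent.Lib.Helper28.Fi23Sub

namespace Q9

/-- The generators a, b, c, d, e, f, g, h, i. -/
inductive Gen
  | a
  | b
  | c
  | d
  | e
  | f
  | g
  | h
  | i
  deriving DecidableEq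

/-- the generator a as a word -/ abbrev a : FreeGroup Gen := FreeGroup.of Gen.a
/-- the generator b as a word -/ abbrev b : FreeGroup Gen := FreeGroup.of Gen.b
/-- the generator c as a word -/ abbrev c : FreeGroup Gen := FreeGroup.of Gen.c
/-- the generator d as a word -/ abbrev d : FreeGroup Gen := FreeGroup.of Gen.d
/-- the generator e as a word -/ abbrev e : FreeGroup Gen := FreeGroup.of Gen.e
/-- the generator f as a word -/ abbrev f : FreeGroup Gen := FreeGroup.of Gen.f
/-- the generator g as a word -/ abbrev g : FreeGroup Gen := FreeGroup.of Gen.g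
/-- the generator h as a word -/ abbrev h : FreeGroup Gen := FreeGroup.of Gen.h
/-- the generator i as a word -/ abbrev i : FreeGroup Gen := FreeGroup.of Gen.i

/-- The Coxeter graph restricted to these generators. -/
def edges : List (Gen × ℕ × Gen) :=
  [(.a, 3, .b), (.b, 3, .c), (.c, 3, .d), (.d, 3, .e), (.d, 3, .h), (.e, 3, .f), (.f, 3, .g), (.h, 3, .i)]

/-- The further relators that only involve these generators. -/
def extra : List (FreeGroup Gen) := [(d * c * b * d * e * f * d * h * i) ^ 10,
  (a * b * c * d * e * f * h) ^ 9]

/-- the inclusion of the generators -/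
def incl : Gen → Cfsg.Spor.Fi23.Gen
  | .a => .a
  | .b => .b
  | .c => .c
  | .d => .d
  | .e => .e
  | .f => .f
  | .g => .g
  | .h => .h
  | .i => .i

end Q9

namespace Q8

/-- The generators b, c, d, e, f, g, h, i. -/
inductive Gen
  | b
  | c
  | d
  | e
  | f
  | g
  | h
  | i
  deriving DecidableEq

/-- the generator b as a word -/ abbrev b : FreeGroup Gen := FreeGroup.of Gen.b
/-- the generator c as a word -/ abbrev c : FreeGroup Gen := FreeGroup.of Gen.c
/-- the generator d as a word -/ abbrev d : FreeGroup Gen := FreeGroup.of Gen.d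
/-- the generator e as a word -/ abbrev e : FreeGroup Gen := FreeGroup.of Gen.e
/-- the generator f as a word -/ abbrev f : FreeGroup Gen := FreeGroup.of Gen.f
/-- the generator g as a word -/ abbrev g : FreeGroup Gen := FreeGroup.of Gen.g
/-- the generator h as a word -/ abbrev h : FreeGroup Gen := FreeGroup.of Gen.h
/-- the generator i as a word -/ abbrev i : FreeGroup Gen := FreeGroup.of Gen.i

/-- The Coxeter graph restricted to these generators. -/
def edges : List (Gen × ℕ × Gen) :=
  [(.b, 3, .c), (.c, 3, .d), (.d, 3, .e), (.d, 3, .h), (.e, 3, .f), (.f, 3, .g), (.h, 3, .i)]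

/-- The further relators that only involve these generators. -/
def extra : List (FreeGroup Gen) := [(d * c * b * d * e * f * d * h * i) ^ 10]

/-- the inclusion of the generators -/
def incl : Gen → Q9.Gen
  | .b => .b
  | .c => .c
  | .d => .d
  | .e => .e
  | .f => .f
  | .g => .g
  | .h => .h
  | .i => .i

end Q8

namespace Q7

/-- The generators b, c, d, e, f, g, h. -/
inductive Gen
  | b
  | c
  | d
  | e
  | f
  | g
  | h
  deriving DecidableEq

/-- the generator b as a word -/ abbrev b : FreeGroup Gen := FreeGroup.of Gen.b
/-- the generator c as a word -/ abbrev c : FreeGroup Gen := FreeGroup.of Gen.c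
/-- the generator d as a word -/ abbrev d : FreeGroup Gen := FreeGroup.of Gen.d
/-- the generator e as a word -/ abbrev e : FreeGroup Gen := FreeGroup.of Gen.e
/-- the generator f as a word -/ abbrev f : FreeGroup Gen := FreeGroup.of Gen.f
/-- the generator g as a word -/ abbrev g : FreeGroup Gen := FreeGroup.of Gen.g
/-- the generator h as a word -/ abbrev h : FreeGroup Gen := FreeGroup.of Gen.h

/-- The Coxeter graph restricted to these generators. -/
def edges : List (Gen × ℕ × Gen) :=
  [(.b, 3, .c), (.c, 3, .d), (.d, 3, .e), (.d, 3, .h), (.e, 3, .f), (.f, 3, .g)]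

/-- The further relators that only involve these generators. -/
def extra : List (FreeGroup Gen) := []

/-- the inclusion of the generators -/
def incl : Gen → Q8.Gen
  | .b => .b
  | .c => .c
  | .d => .d
  | .e => .e
  | .f => .f
  | .g => .g
  | .h => .h

end Q7

/-- the inclusion of the `E₆` generators into the `E₇` generators -/
def inclE6 : Cfsg.Agent.Lib.Helper28.Fi22Sub.P6.Gen → Q7.Gen
  | .b => .b
  | .c => .c
  | .d => .d
  | .e => .e
  | .f => .f
  | .h => .h

end Cfsg.Agent.Lib.Helper28.Fi23Sub
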