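/-
The order of the presented Fischer group Fi₂₃: `|Fi₂₃| = 4089470473293004800`, and the action on
the 31671 cosets of `2·Fi₂₂` is faithful.
-/
import Cfsg.Agent.Lib.Helper28.OrdLemmas
import Cfsg.Agent.Lib.Helper28.Fi23x31671.Main
import Cfsg.Agent.Lib.Helper28.Fi23Ord.Chain
import Cfsg.Agent.Lib.Helper28.Fi23Ord.C14080.Main
import Cfsg.Agent.Lib.Helper28.Fi23Ord.C3159.Main
import Cfsg.Agent.Lib.Helper28.Fi23Ord.C56.Main
import Cfsg.Agent.Lib.Helper28.Fi22Ord.Order

set_option autoImplicit false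

namespace Cfsg.Agent.Lib.Helper28.Fi23Ord

open Cfsg.Agent.Lib.Helper28.TC
open Cfsg.Agent.Lib.Helper28.Ord
open Cfsg.Agent.Lib.Helper28.Fi22Sub
open Cfsg.Agent.Lib.Helper28.Fi23Sub

/-! ### The upper bound -/

theorem card_Q7 : Finite (PresentedGroup C56.rels) ∧
    Nat.card (PresentedGroup C56.rels) ≤ 56 * (27 * (16 * (120))) := by
  obtain ⟨hfin, hcard⟩ := Fi22Ord.card_P6
  obtain ⟨e, _, _⟩ := C56.cosetEquiv
  have hidx : (subH C56.rels C56.subS).index = 56 := (Nat.card_congr e).trans (Nat.card_fin _)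
  obtain ⟨ψ, hψ⟩ := exists_hom_of_words inclE6 C56.rels Fi22Ord.C27.rels C56.hinv
    (coxE P6.edges ++ Fi22Ord.C27.extraE) (fun r hr => (Fi22Ord.C27.rels_iff r).1 hr)
    (coxE Q7.edges ++ C56.extraE) (fun e he => (C56.rels_iff _).2 ⟨e, he, rfl⟩)
    (by decide +kernel)
  have hle : subH C56.rels C56.subS ≤ ψ.range := by
    apply subH_le_range inclE6 C56.rels Fi22Ord.C27.rels C56.subS ψ hψ
    rintro s (rfl | rfl | rfl | rfl | rfl | rfl)
    · exact ⟨P6.b, rfl⟩
    · exact ⟨P6.c, rfl⟩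
    · exact ⟨P6.d, rfl⟩
    · exact ⟨P6.e, rfl⟩
    · exact ⟨P6.f, rfl⟩
    · exact ⟨P6.h, rfl⟩
  obtain ⟨hf, hc⟩ := card_le_of_range ψ _ hle
  exact card_le_of_index _ 56 _ (by decide) hidx hf (le_trans hc hcard)

theorem card_Q8 : Finite (PresentedGroup C3159.rels) ∧
    Nat.card (PresentedGroup C3159.rels) ≤ 3159 * (56 * (27 * (16 * (120)))) := by
  obtain ⟨hfin, hcard⟩ := card_Q7
  obtain ⟨e, _, _⟩ := C3159.cosetEquiv
  have hidx : (subH C3159.rels C3159.subS).index = 3159 := (Nat.card_congr e).trans (Nat.card_fin _)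
  obtain ⟨ψ, hψ⟩ := exists_hom_of_words Q7.incl C3159.rels C56.rels C3159.hinv
    (coxE Q7.edges ++ C56.extraE) (fun r hr => (C56.rels_iff r).1 hr)
    (coxE Q8.edges ++ C3159.extraE) (fun e he => (C3159.rels_iff _).2 ⟨e, he, rfl⟩)
    (by decide +kernel)
  have hle : subH C3159.rels C3159.subS ≤ ψ.range := by
    apply subH_le_range Q7.incl C3159.rels C56.rels C3159.subS ψ hψ
    rintro s (rfl | rfl | rfl | rfl | rfl | rfl | rfl)
    · exact ⟨Q7.b, rfl⟩
    · exact ⟨Q7.c, rfl⟩
    · exact ⟨Q7.d, rfl⟩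
    · exact ⟨Q7.e, rfl⟩
    · exact ⟨Q7.f, rfl⟩
    · exact ⟨Q7.g, rfl⟩
    · exact ⟨Q7.h, rfl⟩
  obtain ⟨hf, hc⟩ := card_le_of_range ψ _ hle
  exact card_le_of_index _ 3159 _ (by decide) hidx hf (le_trans hc hcard)

theorem card_Q9 : Finite (PresentedGroup C14080.rels) ∧
    Nat.card (PresentedGroup C14080.rels) ≤ 14080 * (3159 * (56 * (27 * (16 * (120))))) := by
  obtain ⟨hfin, hcard⟩ := card_Q8
  obtain ⟨e, _, _⟩ := C14080.cosetEquiv
  have hidx : (subH C14080.rels C14080.subS).index = 14080 := (Nat.card_congr e).trans (Nat.card_fin _)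
  obtain ⟨ψ, hψ⟩ := exists_hom_of_words Q8.incl C14080.rels C3159.rels C14080.hinv
    (coxE Q8.edges ++ C3159.extraE) (fun r hr => (C3159.rels_iff r).1 hr)
    (coxE Q9.edges ++ C14080.extraE) (fun e he => (C14080.rels_iff _).2 ⟨e, he, rfl⟩)
    (by decide +kernel)
  have hle : subH C14080.rels C14080.subS ≤ ψ.range := by
    apply subH_le_range Q8.incl C14080.rels C3159.rels C14080.subS ψ hψ
    rintro s (rfl | rfl | rfl | rfl | rfl | rfl | rfl | rfl)
    · exact ⟨Q8.b, rfl⟩
    · exact ⟨Q8.c, rfl⟩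
    · exact ⟨Q8.d, rfl⟩
    · exact ⟨Q8.e, rfl⟩
    · exact ⟨Q8.f, rfl⟩
    · exact ⟨Q8.g, rfl⟩
    · exact ⟨Q8.h, rfl⟩
    · exact ⟨Q8.i, rfl⟩
  obtain ⟨hf, hc⟩ := card_le_of_range ψ _ hle
  exact card_le_of_index _ 14080 _ (by decide) hidx hf (le_trans hc hcard)

theorem card_Fi23_le : Finite (PresentedGroup Fi23x31671.rels) ∧
    Nat.card (PresentedGroup Fi23x31671.rels) ≤ 31671 * (14080 * (3159 * (56 * (27 * (16 * (120)))))) := by
  obtain ⟨hfin, hcard⟩ := card_Q9
  obtain ⟨e, _, _⟩ := Fi23x31671.cosetEquiv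
  have hidx : (subH Fi23x31671.rels Fi23x31671.subS).index = 31671 := (Nat.card_congr e).trans (Nat.card_fin _)
  obtain ⟨ψ, hψ⟩ := exists_hom_of_words Q9.incl Fi23x31671.rels C14080.rels Fi23x31671.hinv
    (coxE Q9.edges ++ C14080.extraE) (fun r hr => (C14080.rels_iff r).1 hr)
    (coxE Cfsg.Spor.Fi23.edges ++ Fi23x31671.extraE) (fun e he => (Fi23x31671.rels_iff _).2 ⟨e, he, rfl⟩)
    (by decide +kernel)
  have hle : subH Fi23x31671.rels Fi23x31671.subS ≤ ψ.range := by
    apply subH_le_range Q9.incl Fi23x31671.rels C14080.rels Fi23x31671.subS ψ hψ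
    rintro s (rfl | rfl | rfl | rfl | rfl | rfl | rfl | rfl | rfl)
    · exact ⟨Q9.a, rfl⟩
    · exact ⟨Q9.b, rfl⟩
    · exact ⟨Q9.c, rfl⟩
    · exact ⟨Q9.d, rfl⟩
    · exact ⟨Q9.e, rfl⟩
    · exact ⟨Q9.f, rfl⟩
    · exact ⟨Q9.g, rfl⟩
    · exact ⟨Q9.h, rfl⟩
    · exact ⟨Q9.i, rfl⟩
  obtain ⟨hf, hc⟩ := card_le_of_range ψ _ hle
  exact card_le_of_index _ 31671 _ (by decide) hidx hf (le_trans hc hcard)

/-! ### The lower bound -/

/-- the permutation representation on 31671 points -/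
noncomputable def phi : PresentedGroup Fi23x31671.rels →* Equiv.Perm (Fin Fi23x31671.nn) :=
  PresentedGroup.toGroup Fi23x31671.hrel

open Fi23x31671 in
theorem card_range_ge : 31671 * 28160 * 21840 * 7776 * 27 ≤ Nat.card phi.range := by
  have hfix2 := fixOK_spec tf _ _ ch2_fix
  have hfix3 := fixOK_spec tf _ _ ch3_fix
  have hfix4 := fixOK_spec tf _ _ ch4_fix
  have hfix5 := fixOK_spec tf _ _ ch5_fix
  have hb := chain_bound (A := Equiv.Perm (Fin nn)) (X := Fin nn)
    [(Subgroup.closure (wordPerms T chW1), ⟨chO1.root, ch1_rootlt⟩),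
     (Subgroup.closure (wordPerms T chW2), ⟨chO2.root, ch2_rootlt⟩),
     (Subgroup.closure (wordPerms T chW3), ⟨chO3.root, ch3_rootlt⟩),
     (Subgroup.closure (wordPerms T chW4), ⟨chO4.root, ch4_rootlt⟩),
     (Subgroup.closure (wordPerms T chW5), ⟨chO5.root, ch5_rootlt⟩)] phi.range
    (by
      intro p hp
      simp only [List.mem_cons, List.not_mem_nil, or_false] at hp
      rcases hp with rfl | rfl | rfl | rfl | rfl <;>
        exact closure_wordPerms_le_range T hrel _)
    (by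
      simp only [List.pairwise_cons, List.mem_cons, List.not_mem_nil, or_false, forall_eq_or_imp,
        forall_eq, IsEmpty.forall_iff, implies_true, List.Pairwise.nil, and_true]
      refine ⟨⟨?_, ?_, ?_, ?_⟩, ⟨?_, ?_, ?_⟩, ⟨?_, ?_⟩, ?_⟩
      · exact closure_wordPerms_le_stabilizer T _ _ (hfix2 0 (by simp))
      · exact closure_wordPerms_le_stabilizer T _ _ (hfix3 0 (by simp))
      · exact closure_wordPerms_le_stabilizer T _ _ (hfix4 0 (by simp))
      · exact closure_wordPerms_le_stabilizer T _ _ (hfix5 0 (by simp))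
      · exact closure_wordPerms_le_stabilizer T _ _ (hfix3 1 (by simp))
      · exact closure_wordPerms_le_stabilizer T _ _ (hfix4 1 (by simp))
      · exact closure_wordPerms_le_stabilizer T _ _ (hfix5 1 (by simp))
      · exact closure_wordPerms_le_stabilizer T _ _ (hfix4 224 (by simp))
      · exact closure_wordPerms_le_stabilizer T _ _ (hfix5 224 (by simp))
      · exact closure_wordPerms_le_stabilizer T _ _ (hfix5 1640 (by simp)))
  have h1 := orbit_ncard_closure T chW1 chO1 ch1_rootlt ch1_root chP1_all 15 31671 ch_nn_le_pow ch1_count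
  have h2 := orbit_ncard_closure T chW2 chO2 ch2_rootlt ch2_root chP2_all 15 28160 ch_nn_le_pow ch2_count
  have h3 := orbit_ncard_closure T chW3 chO3 ch3_rootlt ch3_root chP3_all 15 21840 ch_nn_le_pow ch3_count
  have h4 := orbit_ncard_closure T chW4 chO4 ch4_rootlt ch4_root chP4_all 15 7776 ch_nn_le_pow ch4_count
  have h5 := orbit_ncard_closure T chW5 chO5 ch5_rootlt ch5_root chP5_all 15 27 ch_nn_le_pow ch5_count
  simp only [List.map_cons, List.map_nil, List.prod_cons, List.prod_nil, h1, h2, h3, h4, h5] at hb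
  exact le_trans (by norm_num) hb

/-! ### The order -/

theorem finite_Fi23 : Finite (PresentedGroup Fi23x31671.rels) := card_Fi23_le.1

theorem card_Fi23 : Nat.card (PresentedGroup Fi23x31671.rels) = 4089470473293004800 := by
  have := finite_Fi23
  apply le_antisymm
  · exact le_trans card_Fi23_le.2 (by norm_num)
  · have h1 : Nat.card phi.range ≤ Nat.card (PresentedGroup Fi23x31671.rels) :=
      Nat.card_le_card_of_surjective _ phi.rangeRestrict_surjective
    exact le_trans (le_trans (by norm_num) card_range_ge) h1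

theorem phi_injective : Function.Injective phi := by
  have := finite_Fi23
  rw [← MonoidHom.ker_eq_bot_iff]
  have h1 : Nat.card phi.ker * Nat.card phi.range = Nat.card (PresentedGroup Fi23x31671.rels) := by
    rw [← Subgroup.index_ker, Subgroup.card_mul_index]
  have h2 : Nat.card phi.range ≤ Nat.card (PresentedGroup Fi23x31671.rels) :=
    Nat.card_le_card_of_surjective _ phi.rangeRestrict_surjective
  have h3 : Nat.card phi.range = 4089470473293004800 := by
    apply le_antisymm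
    · rw [← card_Fi23]; exact h2
    · exact le_trans (by norm_num) card_range_ge
  rw [h3, card_Fi23] at h1
  have h4 : Nat.card phi.ker = 1 :=
    Nat.eq_of_mul_eq_mul_right (by norm_num : 0 < 4089470473293004800) (by rw [h1, one_mul])
  exact Subgroup.card_eq_one.1 h4

end Cfsg.Agent.Lib.Helper28.Fi23Ord
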