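import Cfsg.Agent.Lib.Helper28.Fi23Ord.TRelDefs

set_option autoImplicit false
set_option linter.unusedVariables false
set_option Elab.async false

namespace Cfsg.Agent.Lib.Helper28.Fi23x31671

open Cfsg.Spor.Fi23 (Gen)
open Cfsg.Agent.Lib.Helper28.TC

noncomputable section

theorem tRelP_blk124 : allRange (guard nn tRelP) 5 (124 * 2 ^ 5) = true := by decide +kernel
theorem tRelP_blk125 : allRange (guard nn tRelP) 5 (125 * 2 ^ 5) = true := by decide +kernel
theorem tRelP_blk126 : allRange (guard nn tRelP) 5 (126 * 2 ^ 5) = true := by decide +kernel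
theorem tRelP_blk127 : allRange (guard nn tRelP) 5 (127 * 2 ^ 5) = true := by decide +kernel
theorem tRelP_blk128 : allRange (guard nn tRelP) 5 (128 * 2 ^ 5) = true := by decide +kernel
theorem tRelP_blk129 : allRange (guard nn tRelP) 5 (129 * 2 ^ 5) = true := by decide +kernel
theorem tRelP_blk130 : allRange (guard nn tRelP) 5 (130 * 2 ^ 5) = true := by decide +kernel
theorem tRelP_blk131 : allRange (guard nn tRelP) 5 (131 * 2 ^ 5) = true := by decide +kernel
theorem tRelP_blk132 : allRange (guard nn tRelP) 5 (132 * 2 ^ 5) = true := by decide +kernel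
theorem tRelP_blk133 : allRange (guard nn tRelP) 5 (133 * 2 ^ 5) = true := by decide +kernel
theorem tRelP_blk134 : allRange (guard nn tRelP) 5 (134 * 2 ^ 5) = true := by decide +kernel
theorem tRelP_blk135 : allRange (guard nn tRelP) 5 (135 * 2 ^ 5) = true := by decide +kernel
theorem tRelP_blk136 : allRange (guard nn tRelP) 5 (136 * 2 ^ 5) = true := by decide +kernel
theorem tRelP_blk137 : allRange (guard nn tRelP) 5 (137 * 2 ^ 5) = true := by decide +kernel
theorem tRelP_blk138 : allRange (guard nn tRelP) 5 (138 * 2 ^ 5) = true := by decide +kernel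
theorem tRelP_blk139 : allRange (guard nn tRelP) 5 (139 * 2 ^ 5) = true := by decide +kernel
theorem tRelP_blk140 : allRange (guard nn tRelP) 5 (140 * 2 ^ 5) = true := by decide +kernel
theorem tRelP_blk141 : allRange (guard nn tRelP) 5 (141 * 2 ^ 5) = true := by decide +kernel
theorem tRelP_blk142 : allRange (guard nn tRelP) 5 (142 * 2 ^ 5) = true := by decide +kernel
theorem tRelP_blk143 : allRange (guard nn tRelP) 5 (143 * 2 ^ 5) = true := by decide +kernel
theorem tRelP_blk144 : allRange (guard nn tRelP) 5 (144 * 2 ^ 5) = true := by decide +kernel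
theorem tRelP_blk145 : allRange (guard nn tRelP) 5 (145 * 2 ^ 5) = true := by decide +kernel
theorem tRelP_blk146 : allRange (guard nn tRelP) 5 (146 * 2 ^ 5) = true := by decide +kernel
theorem tRelP_blk147 : allRange (guard nn tRelP) 5 (147 * 2 ^ 5) = true := by decide +kernel
theorem tRelP_blk148 : allRange (guard nn tRelP) 5 (148 * 2 ^ 5) = true := by decide +kernel
theorem tRelP_blk149 : allRange (guard nn tRelP) 5 (149 * 2 ^ 5) = true := by decide +kernel
theorem tRelP_blk150 : allRange (guard nn tRelP) 5 (150 * 2 ^ 5) = true := by decide +kernel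
theorem tRelP_blk151 : allRange (guard nn tRelP) 5 (151 * 2 ^ 5) = true := by decide +kernel
theorem tRelP_blk152 : allRange (guard nn tRelP) 5 (152 * 2 ^ 5) = true := by decide +kernel
theorem tRelP_blk153 : allRange (guard nn tRelP) 5 (153 * 2 ^ 5) = true := by decide +kernel
theorem tRelP_blk154 : allRange (guard nn tRelP) 5 (154 * 2 ^ 5) = true := by decide +kernel
theorem tRelP_blk155 : allRange (guard nn tRelP) 5 (155 * 2 ^ 5) = true := by decide +kernel
theorem tRelP_blk156 : allRange (guard nn tRelP) 5 (156 * 2 ^ 5) = true := by decide +kernel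
theorem tRelP_blk157 : allRange (guard nn tRelP) 5 (157 * 2 ^ 5) = true := by decide +kernel
theorem tRelP_blk158 : allRange (guard nn tRelP) 5 (158 * 2 ^ 5) = true := by decide +kernel
theorem tRelP_blk159 : allRange (guard nn tRelP) 5 (159 * 2 ^ 5) = true := by decide +kernel
theorem tRelP_blk160 : allRange (guard nn tRelP) 5 (160 * 2 ^ 5) = true := by decide +kernel
theorem tRelP_blk161 : allRange (guard nn tRelP) 5 (161 * 2 ^ 5) = true := by decide +kernel
theorem tRelP_blk162 : allRange (guard nn tRelP) 5 (162 * 2 ^ 5) = true := by decide +kernel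
theorem tRelP_blk163 : allRange (guard nn tRelP) 5 (163 * 2 ^ 5) = true := by decide +kernel
theorem tRelP_blk164 : allRange (guard nn tRelP) 5 (164 * 2 ^ 5) = true := by decide +kernel
theorem tRelP_blk165 : allRange (guard nn tRelP) 5 (165 * 2 ^ 5) = true := by decide +kernel
theorem tRelP_blk166 : allRange (guard nn tRelP) 5 (166 * 2 ^ 5) = true := by decide +kernel
theorem tRelP_blk167 : allRange (guard nn tRelP) 5 (167 * 2 ^ 5) = true := by decide +kernel
theorem tRelP_blk168 : allRange (guard nn tRelP) 5 (168 * 2 ^ 5) = true := by decide +kernel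
theorem tRelP_blk169 : allRange (guard nn tRelP) 5 (169 * 2 ^ 5) = true := by decide +kernel
theorem tRelP_blk170 : allRange (guard nn tRelP) 5 (170 * 2 ^ 5) = true := by decide +kernel
theorem tRelP_blk171 : allRange (guard nn tRelP) 5 (171 * 2 ^ 5) = true := by decide +kernel
theorem tRelP_blk172 : allRange (guard nn tRelP) 5 (172 * 2 ^ 5) = true := by decide +kernel
theorem tRelP_blk173 : allRange (guard nn tRelP) 5 (173 * 2 ^ 5) = true := by decide +kernel
theorem tRelP_blk174 : allRange (guard nn tRelP) 5 (174 * 2 ^ 5) = true := by decide +kernel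
theorem tRelP_blk175 : allRange (guard nn tRelP) 5 (175 * 2 ^ 5) = true := by decide +kernel
theorem tRelP_blk176 : allRange (guard nn tRelP) 5 (176 * 2 ^ 5) = true := by decide +kernel
theorem tRelP_blk177 : allRange (guard nn tRelP) 5 (177 * 2 ^ 5) = true := by decide +kernel
theorem tRelP_blk178 : allRange (guard nn tRelP) 5 (178 * 2 ^ 5) = true := by decide +kernel
theorem tRelP_blk179 : allRange (guard nn tRelP) 5 (179 * 2 ^ 5) = true := by decide +kernel
theorem tRelP_blk180 : allRange (guard nn tRelP) 5 (180 * 2 ^ 5) = true := by decide +kernel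
theorem tRelP_blk181 : allRange (guard nn tRelP) 5 (181 * 2 ^ 5) = true := by decide +kernel
theorem tRelP_blk182 : allRange (guard nn tRelP) 5 (182 * 2 ^ 5) = true := by decide +kernel
theorem tRelP_blk183 : allRange (guard nn tRelP) 5 (183 * 2 ^ 5) = true := by decide +kernel
theorem tRelP_blk184 : allRange (guard nn tRelP) 5 (184 * 2 ^ 5) = true := by decide +kernel
theorem tRelP_blk185 : allRange (guard nn tRelP) 5 (185 * 2 ^ 5) = true := by decide +kernel
theorem tRelP_blk186 : allRange (guard nn tRelP) 5 (186 * 2 ^ 5) = true := by decide +kernel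
theorem tRelP_blk187 : allRange (guard nn tRelP) 5 (187 * 2 ^ 5) = true := by decide +kernel
theorem tRelP_blk188 : allRange (guard nn tRelP) 5 (188 * 2 ^ 5) = true := by decide +kernel
theorem tRelP_blk189 : allRange (guard nn tRelP) 5 (189 * 2 ^ 5) = true := by decide +kernel
theorem tRelP_blk190 : allRange (guard nn tRelP) 5 (190 * 2 ^ 5) = true := by decide +kernel
theorem tRelP_blk191 : allRange (guard nn tRelP) 5 (191 * 2 ^ 5) = true := by decide +kernel
theorem tRelP_blk192 : allRange (guard nn tRelP) 5 (192 * 2 ^ 5) = true := by decide +kernel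
theorem tRelP_blk193 : allRange (guard nn tRelP) 5 (193 * 2 ^ 5) = true := by decide +kernel
theorem tRelP_blk194 : allRange (guard nn tRelP) 5 (194 * 2 ^ 5) = true := by decide +kernel
theorem tRelP_blk195 : allRange (guard nn tRelP) 5 (195 * 2 ^ 5) = true := by decide +kernel
theorem tRelP_blk196 : allRange (guard nn tRelP) 5 (196 * 2 ^ 5) = true := by decide +kernel
theorem tRelP_blk197 : allRange (guard nn tRelP) 5 (197 * 2 ^ 5) = true := by decide +kernel
theorem tRelP_blk198 : allRange (guard nn tRelP) 5 (198 * 2 ^ 5) = true := by decide +kernel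
theorem tRelP_blk199 : allRange (guard nn tRelP) 5 (199 * 2 ^ 5) = true := by decide +kernel
theorem tRelP_blk200 : allRange (guard nn tRelP) 5 (200 * 2 ^ 5) = true := by decide +kernel
theorem tRelP_blk201 : allRange (guard nn tRelP) 5 (201 * 2 ^ 5) = true := by decide +kernel
theorem tRelP_blk202 : allRange (guard nn tRelP) 5 (202 * 2 ^ 5) = true := by decide +kernel
theorem tRelP_blk203 : allRange (guard nn tRelP) 5 (203 * 2 ^ 5) = true := by decide +kernel
theorem tRelP_blk204 : allRange (guard nn tRelP) 5 (204 * 2 ^ 5) = true := by decide +kernel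
theorem tRelP_blk205 : allRange (guard nn tRelP) 5 (205 * 2 ^ 5) = true := by decide +kernel
theorem tRelP_blk206 : allRange (guard nn tRelP) 5 (206 * 2 ^ 5) = true := by decide +kernel
theorem tRelP_blk207 : allRange (guard nn tRelP) 5 (207 * 2 ^ 5) = true := by decide +kernel
theorem tRelP_blk208 : allRange (guard nn tRelP) 5 (208 * 2 ^ 5) = true := by decide +kernel
theorem tRelP_blk209 : allRange (guard nn tRelP) 5 (209 * 2 ^ 5) = true := by decide +kernel
theorem tRelP_blk210 : allRange (guard nn tRelP) 5 (210 * 2 ^ 5) = true := by decide +kernel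
theorem tRelP_blk211 : allRange (guard nn tRelP) 5 (211 * 2 ^ 5) = true := by decide +kernel
theorem tRelP_blk212 : allRange (guard nn tRelP) 5 (212 * 2 ^ 5) = true := by decide +kernel
theorem tRelP_blk213 : allRange (guard nn tRelP) 5 (213 * 2 ^ 5) = true := by decide +kernel
theorem tRelP_blk214 : allRange (guard nn tRelP) 5 (214 * 2 ^ 5) = true := by decide +kernel
theorem tRelP_blk215 : allRange (guard nn tRelP) 5 (215 * 2 ^ 5) = true := by decide +kernel
theorem tRelP_blk216 : allRange (guard nn tRelP) 5 (216 * 2 ^ 5) = true := by decide +kernel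
theorem tRelP_blk217 : allRange (guard nn tRelP) 5 (217 * 2 ^ 5) = true := by decide +kernel
theorem tRelP_blk218 : allRange (guard nn tRelP) 5 (218 * 2 ^ 5) = true := by decide +kernel
theorem tRelP_blk219 : allRange (guard nn tRelP) 5 (219 * 2 ^ 5) = true := by decide +kernel
theorem tRelP_blk220 : allRange (guard nn tRelP) 5 (220 * 2 ^ 5) = true := by decide +kernel
theorem tRelP_blk221 : allRange (guard nn tRelP) 5 (221 * 2 ^ 5) = true := by decide +kernel
theorem tRelP_blk222 : allRange (guard nn tRelP) 5 (222 * 2 ^ 5) = true := by decide +kernel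
theorem tRelP_blk223 : allRange (guard nn tRelP) 5 (223 * 2 ^ 5) = true := by decide +kernel
theorem tRelP_blk224 : allRange (guard nn tRelP) 5 (224 * 2 ^ 5) = true := by decide +kernel
theorem tRelP_blk225 : allRange (guard nn tRelP) 5 (225 * 2 ^ 5) = true := by decide +kernel
theorem tRelP_blk226 : allRange (guard nn tRelP) 5 (226 * 2 ^ 5) = true := by decide +kernel
theorem tRelP_blk227 : allRange (guard nn tRelP) 5 (227 * 2 ^ 5) = true := by decide +kernel
theorem tRelP_blk228 : allRange (guard nn tRelP) 5 (228 * 2 ^ 5) = true := by decide +kernel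
theorem tRelP_blk229 : allRange (guard nn tRelP) 5 (229 * 2 ^ 5) = true := by decide +kernel
theorem tRelP_blk230 : allRange (guard nn tRelP) 5 (230 * 2 ^ 5) = true := by decide +kernel
theorem tRelP_blk231 : allRange (guard nn tRelP) 5 (231 * 2 ^ 5) = true := by decide +kernel
theorem tRelP_blk232 : allRange (guard nn tRelP) 5 (232 * 2 ^ 5) = true := by decide +kernel
theorem tRelP_blk233 : allRange (guard nn tRelP) 5 (233 * 2 ^ 5) = true := by decide +kernel
theorem tRelP_blk234 : allRange (guard nn tRelP) 5 (234 * 2 ^ 5) = true := by decide +kernel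
theorem tRelP_blk235 : allRange (guard nn tRelP) 5 (235 * 2 ^ 5) = true := by decide +kernel
theorem tRelP_blk236 : allRange (guard nn tRelP) 5 (236 * 2 ^ 5) = true := by decide +kernel
theorem tRelP_blk237 : allRange (guard nn tRelP) 5 (237 * 2 ^ 5) = true := by decide +kernel
theorem tRelP_blk238 : allRange (guard nn tRelP) 5 (238 * 2 ^ 5) = true := by decide +kernel
theorem tRelP_blk239 : allRange (guard nn tRelP) 5 (239 * 2 ^ 5) = true := by decide +kernel
theorem tRelP_blk240 : allRange (guard nn tRelP) 5 (240 * 2 ^ 5) = true := by decide +kernel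
theorem tRelP_blk241 : allRange (guard nn tRelP) 5 (241 * 2 ^ 5) = true := by decide +kernel
theorem tRelP_blk242 : allRange (guard nn tRelP) 5 (242 * 2 ^ 5) = true := by decide +kernel
theorem tRelP_blk243 : allRange (guard nn tRelP) 5 (243 * 2 ^ 5) = true := by decide +kernel
theorem tRelP_blk244 : allRange (guard nn tRelP) 5 (244 * 2 ^ 5) = true := by decide +kernel
theorem tRelP_blk245 : allRange (guard nn tRelP) 5 (245 * 2 ^ 5) = true := by decide +kernel
theorem tRelP_blk246 : allRange (guard nn tRelP) 5 (246 * 2 ^ 5) = true := by decide +kernel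
theorem tRelP_blk247 : allRange (guard nn tRelP) 5 (247 * 2 ^ 5) = true := by decide +kernel

end

end Cfsg.Agent.Lib.Helper28.Fi23x31671
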