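import Cfsg.Agent.Lib.Helper28.Fi23Ord.TRelDefs

set_option autoImplicit false
set_option linter.unusedVariables false
set_option Elab.async false

namespace Cfsg.Agent.Lib.Helper28.Fi23x31671

open Cfsg.Spor.Fi23 (Gen)
open Cfsg.Agent.Lib.Helper28.TC

noncomputable section

theorem tRelP_blk248 : allRange (guard nn tRelP) 5 (248 * 2 ^ 5) = true := by decide +kernel
theorem tRelP_blk249 : allRange (guard nn tRelP) 5 (249 * 2 ^ 5) = true := by decide +kernel
theorem tRelP_blk250 : allRange (guard nn tRelP) 5 (250 * 2 ^ 5) = true := by decide +kernel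
theorem tRelP_blk251 : allRange (guard nn tRelP) 5 (251 * 2 ^ 5) = true := by decide +kernel
theorem tRelP_blk252 : allRange (guard nn tRelP) 5 (252 * 2 ^ 5) = true := by decide +kernel
theorem tRelP_blk253 : allRange (guard nn tRelP) 5 (253 * 2 ^ 5) = true := by decide +kernel
theorem tRelP_blk254 : allRange (guard nn tRelP) 5 (254 * 2 ^ 5) = true := by decide +kernel
theorem tRelP_blk255 : allRange (guard nn tRelP) 5 (255 * 2 ^ 5) = true := by decide +kernel
theorem tRelP_blk256 : allRange (guard nn tRelP) 5 (256 * 2 ^ 5) = true := by decide +kernel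
theorem tRelP_blk257 : allRange (guard nn tRelP) 5 (257 * 2 ^ 5) = true := by decide +kernel
theorem tRelP_blk258 : allRange (guard nn tRelP) 5 (258 * 2 ^ 5) = true := by decide +kernel
theorem tRelP_blk259 : allRange (guard nn tRelP) 5 (259 * 2 ^ 5) = true := by decide +kernel
theorem tRelP_blk260 : allRange (guard nn tRelP) 5 (260 * 2 ^ 5) = true := by decide +kernel
theorem tRelP_blk261 : allRange (guard nn tRelP) 5 (261 * 2 ^ 5) = true := by decide +kernel
theorem tRelP_blk262 : allRange (guard nn tRelP) 5 (262 * 2 ^ 5) = true := by decide +kernel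
theorem tRelP_blk263 : allRange (guard nn tRelP) 5 (263 * 2 ^ 5) = true := by decide +kernel
theorem tRelP_blk264 : allRange (guard nn tRelP) 5 (264 * 2 ^ 5) = true := by decide +kernel
theorem tRelP_blk265 : allRange (guard nn tRelP) 5 (265 * 2 ^ 5) = true := by decide +kernel
theorem tRelP_blk266 : allRange (guard nn tRelP) 5 (266 * 2 ^ 5) = true := by decide +kernel
theorem tRelP_blk267 : allRange (guard nn tRelP) 5 (267 * 2 ^ 5) = true := by decide +kernel
theorem tRelP_blk268 : allRange (guard nn tRelP) 5 (268 * 2 ^ 5) = true := by decide +kernel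
theorem tRelP_blk269 : allRange (guard nn tRelP) 5 (269 * 2 ^ 5) = true := by decide +kernel
theorem tRelP_blk270 : allRange (guard nn tRelP) 5 (270 * 2 ^ 5) = true := by decide +kernel
theorem tRelP_blk271 : allRange (guard nn tRelP) 5 (271 * 2 ^ 5) = true := by decide +kernel
theorem tRelP_blk272 : allRange (guard nn tRelP) 5 (272 * 2 ^ 5) = true := by decide +kernel
theorem tRelP_blk273 : allRange (guard nn tRelP) 5 (273 * 2 ^ 5) = true := by decide +kernel
theorem tRelP_blk274 : allRange (guard nn tRelP) 5 (274 * 2 ^ 5) = true := by decide +kernel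
theorem tRelP_blk275 : allRange (guard nn tRelP) 5 (275 * 2 ^ 5) = true := by decide +kernel
theorem tRelP_blk276 : allRange (guard nn tRelP) 5 (276 * 2 ^ 5) = true := by decide +kernel
theorem tRelP_blk277 : allRange (guard nn tRelP) 5 (277 * 2 ^ 5) = true := by decide +kernel
theorem tRelP_blk278 : allRange (guard nn tRelP) 5 (278 * 2 ^ 5) = true := by decide +kernel
theorem tRelP_blk279 : allRange (guard nn tRelP) 5 (279 * 2 ^ 5) = true := by decide +kernel
theorem tRelP_blk280 : allRange (guard nn tRelP) 5 (280 * 2 ^ 5) = true := by decide +kernel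
theorem tRelP_blk281 : allRange (guard nn tRelP) 5 (281 * 2 ^ 5) = true := by decide +kernel
theorem tRelP_blk282 : allRange (guard nn tRelP) 5 (282 * 2 ^ 5) = true := by decide +kernel
theorem tRelP_blk283 : allRange (guard nn tRelP) 5 (283 * 2 ^ 5) = true := by decide +kernel
theorem tRelP_blk284 : allRange (guard nn tRelP) 5 (284 * 2 ^ 5) = true := by decide +kernel
theorem tRelP_blk285 : allRange (guard nn tRelP) 5 (285 * 2 ^ 5) = true := by decide +kernel
theorem tRelP_blk286 : allRange (guard nn tRelP) 5 (286 * 2 ^ 5) = true := by decide +kernel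
theorem tRelP_blk287 : allRange (guard nn tRelP) 5 (287 * 2 ^ 5) = true := by decide +kernel
theorem tRelP_blk288 : allRange (guard nn tRelP) 5 (288 * 2 ^ 5) = true := by decide +kernel
theorem tRelP_blk289 : allRange (guard nn tRelP) 5 (289 * 2 ^ 5) = true := by decide +kernel
theorem tRelP_blk290 : allRange (guard nn tRelP) 5 (290 * 2 ^ 5) = true := by decide +kernel
theorem tRelP_blk291 : allRange (guard nn tRelP) 5 (291 * 2 ^ 5) = true := by decide +kernel
theorem tRelP_blk292 : allRange (guard nn tRelP) 5 (292 * 2 ^ 5) = true := by decide +kernel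
theorem tRelP_blk293 : allRange (guard nn tRelP) 5 (293 * 2 ^ 5) = true := by decide +kernel
theorem tRelP_blk294 : allRange (guard nn tRelP) 5 (294 * 2 ^ 5) = true := by decide +kernel
theorem tRelP_blk295 : allRange (guard nn tRelP) 5 (295 * 2 ^ 5) = true := by decide +kernel
theorem tRelP_blk296 : allRange (guard nn tRelP) 5 (296 * 2 ^ 5) = true := by decide +kernel
theorem tRelP_blk297 : allRange (guard nn tRelP) 5 (297 * 2 ^ 5) = true := by decide +kernel
theorem tRelP_blk298 : allRange (guard nn tRelP) 5 (298 * 2 ^ 5) = true := by decide +kernel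
theorem tRelP_blk299 : allRange (guard nn tRelP) 5 (299 * 2 ^ 5) = true := by decide +kernel
theorem tRelP_blk300 : allRange (guard nn tRelP) 5 (300 * 2 ^ 5) = true := by decide +kernel
theorem tRelP_blk301 : allRange (guard nn tRelP) 5 (301 * 2 ^ 5) = true := by decide +kernel
theorem tRelP_blk302 : allRange (guard nn tRelP) 5 (302 * 2 ^ 5) = true := by decide +kernel
theorem tRelP_blk303 : allRange (guard nn tRelP) 5 (303 * 2 ^ 5) = true := by decide +kernel
theorem tRelP_blk304 : allRange (guard nn tRelP) 5 (304 * 2 ^ 5) = true := by decide +kernel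
theorem tRelP_blk305 : allRange (guard nn tRelP) 5 (305 * 2 ^ 5) = true := by decide +kernel
theorem tRelP_blk306 : allRange (guard nn tRelP) 5 (306 * 2 ^ 5) = true := by decide +kernel
theorem tRelP_blk307 : allRange (guard nn tRelP) 5 (307 * 2 ^ 5) = true := by decide +kernel
theorem tRelP_blk308 : allRange (guard nn tRelP) 5 (308 * 2 ^ 5) = true := by decide +kernel
theorem tRelP_blk309 : allRange (guard nn tRelP) 5 (309 * 2 ^ 5) = true := by decide +kernel
theorem tRelP_blk310 : allRange (guard nn tRelP) 5 (310 * 2 ^ 5) = true := by decide +kernel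
theorem tRelP_blk311 : allRange (guard nn tRelP) 5 (311 * 2 ^ 5) = true := by decide +kernel
theorem tRelP_blk312 : allRange (guard nn tRelP) 5 (312 * 2 ^ 5) = true := by decide +kernel
theorem tRelP_blk313 : allRange (guard nn tRelP) 5 (313 * 2 ^ 5) = true := by decide +kernel
theorem tRelP_blk314 : allRange (guard nn tRelP) 5 (314 * 2 ^ 5) = true := by decide +kernel
theorem tRelP_blk315 : allRange (guard nn tRelP) 5 (315 * 2 ^ 5) = true := by decide +kernel
theorem tRelP_blk316 : allRange (guard nn tRelP) 5 (316 * 2 ^ 5) = true := by decide +kernel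
theorem tRelP_blk317 : allRange (guard nn tRelP) 5 (317 * 2 ^ 5) = true := by decide +kernel
theorem tRelP_blk318 : allRange (guard nn tRelP) 5 (318 * 2 ^ 5) = true := by decide +kernel
theorem tRelP_blk319 : allRange (guard nn tRelP) 5 (319 * 2 ^ 5) = true := by decide +kernel
theorem tRelP_blk320 : allRange (guard nn tRelP) 5 (320 * 2 ^ 5) = true := by decide +kernel
theorem tRelP_blk321 : allRange (guard nn tRelP) 5 (321 * 2 ^ 5) = true := by decide +kernel
theorem tRelP_blk322 : allRange (guard nn tRelP) 5 (322 * 2 ^ 5) = true := by decide +kernel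
theorem tRelP_blk323 : allRange (guard nn tRelP) 5 (323 * 2 ^ 5) = true := by decide +kernel
theorem tRelP_blk324 : allRange (guard nn tRelP) 5 (324 * 2 ^ 5) = true := by decide +kernel
theorem tRelP_blk325 : allRange (guard nn tRelP) 5 (325 * 2 ^ 5) = true := by decide +kernel
theorem tRelP_blk326 : allRange (guard nn tRelP) 5 (326 * 2 ^ 5) = true := by decide +kernel
theorem tRelP_blk327 : allRange (guard nn tRelP) 5 (327 * 2 ^ 5) = true := by decide +kernel
theorem tRelP_blk328 : allRange (guard nn tRelP) 5 (328 * 2 ^ 5) = true := by decide +kernel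
theorem tRelP_blk329 : allRange (guard nn tRelP) 5 (329 * 2 ^ 5) = true := by decide +kernel
theorem tRelP_blk330 : allRange (guard nn tRelP) 5 (330 * 2 ^ 5) = true := by decide +kernel
theorem tRelP_blk331 : allRange (guard nn tRelP) 5 (331 * 2 ^ 5) = true := by decide +kernel
theorem tRelP_blk332 : allRange (guard nn tRelP) 5 (332 * 2 ^ 5) = true := by decide +kernel
theorem tRelP_blk333 : allRange (guard nn tRelP) 5 (333 * 2 ^ 5) = true := by decide +kernel
theorem tRelP_blk334 : allRange (guard nn tRelP) 5 (334 * 2 ^ 5) = true := by decide +kernel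
theorem tRelP_blk335 : allRange (guard nn tRelP) 5 (335 * 2 ^ 5) = true := by decide +kernel
theorem tRelP_blk336 : allRange (guard nn tRelP) 5 (336 * 2 ^ 5) = true := by decide +kernel
theorem tRelP_blk337 : allRange (guard nn tRelP) 5 (337 * 2 ^ 5) = true := by decide +kernel
theorem tRelP_blk338 : allRange (guard nn tRelP) 5 (338 * 2 ^ 5) = true := by decide +kernel
theorem tRelP_blk339 : allRange (guard nn tRelP) 5 (339 * 2 ^ 5) = true := by decide +kernel
theorem tRelP_blk340 : allRange (guard nn tRelP) 5 (340 * 2 ^ 5) = true := by decide +kernel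
theorem tRelP_blk341 : allRange (guard nn tRelP) 5 (341 * 2 ^ 5) = true := by decide +kernel
theorem tRelP_blk342 : allRange (guard nn tRelP) 5 (342 * 2 ^ 5) = true := by decide +kernel
theorem tRelP_blk343 : allRange (guard nn tRelP) 5 (343 * 2 ^ 5) = true := by decide +kernel
theorem tRelP_blk344 : allRange (guard nn tRelP) 5 (344 * 2 ^ 5) = true := by decide +kernel
theorem tRelP_blk345 : allRange (guard nn tRelP) 5 (345 * 2 ^ 5) = true := by decide +kernel
theorem tRelP_blk346 : allRange (guard nn tRelP) 5 (346 * 2 ^ 5) = true := by decide +kernel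
theorem tRelP_blk347 : allRange (guard nn tRelP) 5 (347 * 2 ^ 5) = true := by decide +kernel
theorem tRelP_blk348 : allRange (guard nn tRelP) 5 (348 * 2 ^ 5) = true := by decide +kernel
theorem tRelP_blk349 : allRange (guard nn tRelP) 5 (349 * 2 ^ 5) = true := by decide +kernel
theorem tRelP_blk350 : allRange (guard nn tRelP) 5 (350 * 2 ^ 5) = true := by decide +kernel
theorem tRelP_blk351 : allRange (guard nn tRelP) 5 (351 * 2 ^ 5) = true := by decide +kernel
theorem tRelP_blk352 : allRange (guard nn tRelP) 5 (352 * 2 ^ 5) = true := by decide +kernel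
theorem tRelP_blk353 : allRange (guard nn tRelP) 5 (353 * 2 ^ 5) = true := by decide +kernel
theorem tRelP_blk354 : allRange (guard nn tRelP) 5 (354 * 2 ^ 5) = true := by decide +kernel
theorem tRelP_blk355 : allRange (guard nn tRelP) 5 (355 * 2 ^ 5) = true := by decide +kernel
theorem tRelP_blk356 : allRange (guard nn tRelP) 5 (356 * 2 ^ 5) = true := by decide +kernel
theorem tRelP_blk357 : allRange (guard nn tRelP) 5 (357 * 2 ^ 5) = true := by decide +kernel
theorem tRelP_blk358 : allRange (guard nn tRelP) 5 (358 * 2 ^ 5) = true := by decide +kernel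
theorem tRelP_blk359 : allRange (guard nn tRelP) 5 (359 * 2 ^ 5) = true := by decide +kernel
theorem tRelP_blk360 : allRange (guard nn tRelP) 5 (360 * 2 ^ 5) = true := by decide +kernel
theorem tRelP_blk361 : allRange (guard nn tRelP) 5 (361 * 2 ^ 5) = true := by decide +kernel
theorem tRelP_blk362 : allRange (guard nn tRelP) 5 (362 * 2 ^ 5) = true := by decide +kernel
theorem tRelP_blk363 : allRange (guard nn tRelP) 5 (363 * 2 ^ 5) = true := by decide +kernel
theorem tRelP_blk364 : allRange (guard nn tRelP) 5 (364 * 2 ^ 5) = true := by decide +kernel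
theorem tRelP_blk365 : allRange (guard nn tRelP) 5 (365 * 2 ^ 5) = true := by decide +kernel
theorem tRelP_blk366 : allRange (guard nn tRelP) 5 (366 * 2 ^ 5) = true := by decide +kernel
theorem tRelP_blk367 : allRange (guard nn tRelP) 5 (367 * 2 ^ 5) = true := by decide +kernel
theorem tRelP_blk368 : allRange (guard nn tRelP) 5 (368 * 2 ^ 5) = true := by decide +kernel
theorem tRelP_blk369 : allRange (guard nn tRelP) 5 (369 * 2 ^ 5) = true := by decide +kernel
theorem tRelP_blk370 : allRange (guard nn tRelP) 5 (370 * 2 ^ 5) = true := by decide +kernel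
theorem tRelP_blk371 : allRange (guard nn tRelP) 5 (371 * 2 ^ 5) = true := by decide +kernel

end

end Cfsg.Agent.Lib.Helper28.Fi23x31671
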