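import Cfsg.Agent.Lib.Helper28.Fi23Ord.TRelDefs

set_option autoImplicit false
set_option linter.unusedVariables false
set_option Elab.async false

namespace Cfsg.Agent.Lib.Helper28.Fi23x31671

open Cfsg.Spor.Fi23 (Gen)
open Cfsg.Agent.Lib.Helper28.TC

noncomputable section

theorem tRelP_blk372 : allRange (guard nn tRelP) 5 (372 * 2 ^ 5) = true := by decide +kernel
theorem tRelP_blk373 : allRange (guard nn tRelP) 5 (373 * 2 ^ 5) = true := by decide +kernel
theorem tRelP_blk374 : allRange (guard nn tRelP) 5 (374 * 2 ^ 5) = true := by decide +kernel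
theorem tRelP_blk375 : allRange (guard nn tRelP) 5 (375 * 2 ^ 5) = true := by decide +kernel
theorem tRelP_blk376 : allRange (guard nn tRelP) 5 (376 * 2 ^ 5) = true := by decide +kernel
theorem tRelP_blk377 : allRange (guard nn tRelP) 5 (377 * 2 ^ 5) = true := by decide +kernel
theorem tRelP_blk378 : allRange (guard nn tRelP) 5 (378 * 2 ^ 5) = true := by decide +kernel
theorem tRelP_blk379 : allRange (guard nn tRelP) 5 (379 * 2 ^ 5) = true := by decide +kernel
theorem tRelP_blk380 : allRange (guard nn tRelP) 5 (380 * 2 ^ 5) = true := by decide +kernel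
theorem tRelP_blk381 : allRange (guard nn tRelP) 5 (381 * 2 ^ 5) = true := by decide +kernel
theorem tRelP_blk382 : allRange (guard nn tRelP) 5 (382 * 2 ^ 5) = true := by decide +kernel
theorem tRelP_blk383 : allRange (guard nn tRelP) 5 (383 * 2 ^ 5) = true := by decide +kernel
theorem tRelP_blk384 : allRange (guard nn tRelP) 5 (384 * 2 ^ 5) = true := by decide +kernel
theorem tRelP_blk385 : allRange (guard nn tRelP) 5 (385 * 2 ^ 5) = true := by decide +kernel
theorem tRelP_blk386 : allRange (guard nn tRelP) 5 (386 * 2 ^ 5) = true := by decide +kernel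
theorem tRelP_blk387 : allRange (guard nn tRelP) 5 (387 * 2 ^ 5) = true := by decide +kernel
theorem tRelP_blk388 : allRange (guard nn tRelP) 5 (388 * 2 ^ 5) = true := by decide +kernel
theorem tRelP_blk389 : allRange (guard nn tRelP) 5 (389 * 2 ^ 5) = true := by decide +kernel
theorem tRelP_blk390 : allRange (guard nn tRelP) 5 (390 * 2 ^ 5) = true := by decide +kernel
theorem tRelP_blk391 : allRange (guard nn tRelP) 5 (391 * 2 ^ 5) = true := by decide +kernel
theorem tRelP_blk392 : allRange (guard nn tRelP) 5 (392 * 2 ^ 5) = true := by decide +kernel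
theorem tRelP_blk393 : allRange (guard nn tRelP) 5 (393 * 2 ^ 5) = true := by decide +kernel
theorem tRelP_blk394 : allRange (guard nn tRelP) 5 (394 * 2 ^ 5) = true := by decide +kernel
theorem tRelP_blk395 : allRange (guard nn tRelP) 5 (395 * 2 ^ 5) = true := by decide +kernel
theorem tRelP_blk396 : allRange (guard nn tRelP) 5 (396 * 2 ^ 5) = true := by decide +kernel
theorem tRelP_blk397 : allRange (guard nn tRelP) 5 (397 * 2 ^ 5) = true := by decide +kernel
theorem tRelP_blk398 : allRange (guard nn tRelP) 5 (398 * 2 ^ 5) = true := by decide +kernel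
theorem tRelP_blk399 : allRange (guard nn tRelP) 5 (399 * 2 ^ 5) = true := by decide +kernel
theorem tRelP_blk400 : allRange (guard nn tRelP) 5 (400 * 2 ^ 5) = true := by decide +kernel
theorem tRelP_blk401 : allRange (guard nn tRelP) 5 (401 * 2 ^ 5) = true := by decide +kernel
theorem tRelP_blk402 : allRange (guard nn tRelP) 5 (402 * 2 ^ 5) = true := by decide +kernel
theorem tRelP_blk403 : allRange (guard nn tRelP) 5 (403 * 2 ^ 5) = true := by decide +kernel
theorem tRelP_blk404 : allRange (guard nn tRelP) 5 (404 * 2 ^ 5) = true := by decide +kernel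
theorem tRelP_blk405 : allRange (guard nn tRelP) 5 (405 * 2 ^ 5) = true := by decide +kernel
theorem tRelP_blk406 : allRange (guard nn tRelP) 5 (406 * 2 ^ 5) = true := by decide +kernel
theorem tRelP_blk407 : allRange (guard nn tRelP) 5 (407 * 2 ^ 5) = true := by decide +kernel
theorem tRelP_blk408 : allRange (guard nn tRelP) 5 (408 * 2 ^ 5) = true := by decide +kernel
theorem tRelP_blk409 : allRange (guard nn tRelP) 5 (409 * 2 ^ 5) = true := by decide +kernel
theorem tRelP_blk410 : allRange (guard nn tRelP) 5 (410 * 2 ^ 5) = true := by decide +kernel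
theorem tRelP_blk411 : allRange (guard nn tRelP) 5 (411 * 2 ^ 5) = true := by decide +kernel
theorem tRelP_blk412 : allRange (guard nn tRelP) 5 (412 * 2 ^ 5) = true := by decide +kernel
theorem tRelP_blk413 : allRange (guard nn tRelP) 5 (413 * 2 ^ 5) = true := by decide +kernel
theorem tRelP_blk414 : allRange (guard nn tRelP) 5 (414 * 2 ^ 5) = true := by decide +kernel
theorem tRelP_blk415 : allRange (guard nn tRelP) 5 (415 * 2 ^ 5) = true := by decide +kernel
theorem tRelP_blk416 : allRange (guard nn tRelP) 5 (416 * 2 ^ 5) = true := by decide +kernel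
theorem tRelP_blk417 : allRange (guard nn tRelP) 5 (417 * 2 ^ 5) = true := by decide +kernel
theorem tRelP_blk418 : allRange (guard nn tRelP) 5 (418 * 2 ^ 5) = true := by decide +kernel
theorem tRelP_blk419 : allRange (guard nn tRelP) 5 (419 * 2 ^ 5) = true := by decide +kernel
theorem tRelP_blk420 : allRange (guard nn tRelP) 5 (420 * 2 ^ 5) = true := by decide +kernel
theorem tRelP_blk421 : allRange (guard nn tRelP) 5 (421 * 2 ^ 5) = true := by decide +kernel
theorem tRelP_blk422 : allRange (guard nn tRelP) 5 (422 * 2 ^ 5) = true := by decide +kernel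
theorem tRelP_blk423 : allRange (guard nn tRelP) 5 (423 * 2 ^ 5) = true := by decide +kernel
theorem tRelP_blk424 : allRange (guard nn tRelP) 5 (424 * 2 ^ 5) = true := by decide +kernel
theorem tRelP_blk425 : allRange (guard nn tRelP) 5 (425 * 2 ^ 5) = true := by decide +kernel
theorem tRelP_blk426 : allRange (guard nn tRelP) 5 (426 * 2 ^ 5) = true := by decide +kernel
theorem tRelP_blk427 : allRange (guard nn tRelP) 5 (427 * 2 ^ 5) = true := by decide +kernel
theorem tRelP_blk428 : allRange (guard nn tRelP) 5 (428 * 2 ^ 5) = true := by decide +kernel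
theorem tRelP_blk429 : allRange (guard nn tRelP) 5 (429 * 2 ^ 5) = true := by decide +kernel
theorem tRelP_blk430 : allRange (guard nn tRelP) 5 (430 * 2 ^ 5) = true := by decide +kernel
theorem tRelP_blk431 : allRange (guard nn tRelP) 5 (431 * 2 ^ 5) = true := by decide +kernel
theorem tRelP_blk432 : allRange (guard nn tRelP) 5 (432 * 2 ^ 5) = true := by decide +kernel
theorem tRelP_blk433 : allRange (guard nn tRelP) 5 (433 * 2 ^ 5) = true := by decide +kernel
theorem tRelP_blk434 : allRange (guard nn tRelP) 5 (434 * 2 ^ 5) = true := by decide +kernel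
theorem tRelP_blk435 : allRange (guard nn tRelP) 5 (435 * 2 ^ 5) = true := by decide +kernel
theorem tRelP_blk436 : allRange (guard nn tRelP) 5 (436 * 2 ^ 5) = true := by decide +kernel
theorem tRelP_blk437 : allRange (guard nn tRelP) 5 (437 * 2 ^ 5) = true := by decide +kernel
theorem tRelP_blk438 : allRange (guard nn tRelP) 5 (438 * 2 ^ 5) = true := by decide +kernel
theorem tRelP_blk439 : allRange (guard nn tRelP) 5 (439 * 2 ^ 5) = true := by decide +kernel
theorem tRelP_blk440 : allRange (guard nn tRelP) 5 (440 * 2 ^ 5) = true := by decide +kernel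
theorem tRelP_blk441 : allRange (guard nn tRelP) 5 (441 * 2 ^ 5) = true := by decide +kernel
theorem tRelP_blk442 : allRange (guard nn tRelP) 5 (442 * 2 ^ 5) = true := by decide +kernel
theorem tRelP_blk443 : allRange (guard nn tRelP) 5 (443 * 2 ^ 5) = true := by decide +kernel
theorem tRelP_blk444 : allRange (guard nn tRelP) 5 (444 * 2 ^ 5) = true := by decide +kernel
theorem tRelP_blk445 : allRange (guard nn tRelP) 5 (445 * 2 ^ 5) = true := by decide +kernel
theorem tRelP_blk446 : allRange (guard nn tRelP) 5 (446 * 2 ^ 5) = true := by decide +kernel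
theorem tRelP_blk447 : allRange (guard nn tRelP) 5 (447 * 2 ^ 5) = true := by decide +kernel
theorem tRelP_blk448 : allRange (guard nn tRelP) 5 (448 * 2 ^ 5) = true := by decide +kernel
theorem tRelP_blk449 : allRange (guard nn tRelP) 5 (449 * 2 ^ 5) = true := by decide +kernel
theorem tRelP_blk450 : allRange (guard nn tRelP) 5 (450 * 2 ^ 5) = true := by decide +kernel
theorem tRelP_blk451 : allRange (guard nn tRelP) 5 (451 * 2 ^ 5) = true := by decide +kernel
theorem tRelP_blk452 : allRange (guard nn tRelP) 5 (452 * 2 ^ 5) = true := by decide +kernel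
theorem tRelP_blk453 : allRange (guard nn tRelP) 5 (453 * 2 ^ 5) = true := by decide +kernel
theorem tRelP_blk454 : allRange (guard nn tRelP) 5 (454 * 2 ^ 5) = true := by decide +kernel
theorem tRelP_blk455 : allRange (guard nn tRelP) 5 (455 * 2 ^ 5) = true := by decide +kernel
theorem tRelP_blk456 : allRange (guard nn tRelP) 5 (456 * 2 ^ 5) = true := by decide +kernel
theorem tRelP_blk457 : allRange (guard nn tRelP) 5 (457 * 2 ^ 5) = true := by decide +kernel
theorem tRelP_blk458 : allRange (guard nn tRelP) 5 (458 * 2 ^ 5) = true := by decide +kernel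
theorem tRelP_blk459 : allRange (guard nn tRelP) 5 (459 * 2 ^ 5) = true := by decide +kernel
theorem tRelP_blk460 : allRange (guard nn tRelP) 5 (460 * 2 ^ 5) = true := by decide +kernel
theorem tRelP_blk461 : allRange (guard nn tRelP) 5 (461 * 2 ^ 5) = true := by decide +kernel
theorem tRelP_blk462 : allRange (guard nn tRelP) 5 (462 * 2 ^ 5) = true := by decide +kernel
theorem tRelP_blk463 : allRange (guard nn tRelP) 5 (463 * 2 ^ 5) = true := by decide +kernel
theorem tRelP_blk464 : allRange (guard nn tRelP) 5 (464 * 2 ^ 5) = true := by decide +kernel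
theorem tRelP_blk465 : allRange (guard nn tRelP) 5 (465 * 2 ^ 5) = true := by decide +kernel
theorem tRelP_blk466 : allRange (guard nn tRelP) 5 (466 * 2 ^ 5) = true := by decide +kernel
theorem tRelP_blk467 : allRange (guard nn tRelP) 5 (467 * 2 ^ 5) = true := by decide +kernel
theorem tRelP_blk468 : allRange (guard nn tRelP) 5 (468 * 2 ^ 5) = true := by decide +kernel
theorem tRelP_blk469 : allRange (guard nn tRelP) 5 (469 * 2 ^ 5) = true := by decide +kernel
theorem tRelP_blk470 : allRange (guard nn tRelP) 5 (470 * 2 ^ 5) = true := by decide +kernel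
theorem tRelP_blk471 : allRange (guard nn tRelP) 5 (471 * 2 ^ 5) = true := by decide +kernel
theorem tRelP_blk472 : allRange (guard nn tRelP) 5 (472 * 2 ^ 5) = true := by decide +kernel
theorem tRelP_blk473 : allRange (guard nn tRelP) 5 (473 * 2 ^ 5) = true := by decide +kernel
theorem tRelP_blk474 : allRange (guard nn tRelP) 5 (474 * 2 ^ 5) = true := by decide +kernel
theorem tRelP_blk475 : allRange (guard nn tRelP) 5 (475 * 2 ^ 5) = true := by decide +kernel
theorem tRelP_blk476 : allRange (guard nn tRelP) 5 (476 * 2 ^ 5) = true := by decide +kernel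
theorem tRelP_blk477 : allRange (guard nn tRelP) 5 (477 * 2 ^ 5) = true := by decide +kernel
theorem tRelP_blk478 : allRange (guard nn tRelP) 5 (478 * 2 ^ 5) = true := by decide +kernel
theorem tRelP_blk479 : allRange (guard nn tRelP) 5 (479 * 2 ^ 5) = true := by decide +kernel
theorem tRelP_blk480 : allRange (guard nn tRelP) 5 (480 * 2 ^ 5) = true := by decide +kernel
theorem tRelP_blk481 : allRange (guard nn tRelP) 5 (481 * 2 ^ 5) = true := by decide +kernel
theorem tRelP_blk482 : allRange (guard nn tRelP) 5 (482 * 2 ^ 5) = true := by decide +kernel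
theorem tRelP_blk483 : allRange (guard nn tRelP) 5 (483 * 2 ^ 5) = true := by decide +kernel
theorem tRelP_blk484 : allRange (guard nn tRelP) 5 (484 * 2 ^ 5) = true := by decide +kernel
theorem tRelP_blk485 : allRange (guard nn tRelP) 5 (485 * 2 ^ 5) = true := by decide +kernel
theorem tRelP_blk486 : allRange (guard nn tRelP) 5 (486 * 2 ^ 5) = true := by decide +kernel
theorem tRelP_blk487 : allRange (guard nn tRelP) 5 (487 * 2 ^ 5) = true := by decide +kernel
theorem tRelP_blk488 : allRange (guard nn tRelP) 5 (488 * 2 ^ 5) = true := by decide +kernel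
theorem tRelP_blk489 : allRange (guard nn tRelP) 5 (489 * 2 ^ 5) = true := by decide +kernel
theorem tRelP_blk490 : allRange (guard nn tRelP) 5 (490 * 2 ^ 5) = true := by decide +kernel
theorem tRelP_blk491 : allRange (guard nn tRelP) 5 (491 * 2 ^ 5) = true := by decide +kernel
theorem tRelP_blk492 : allRange (guard nn tRelP) 5 (492 * 2 ^ 5) = true := by decide +kernel
theorem tRelP_blk493 : allRange (guard nn tRelP) 5 (493 * 2 ^ 5) = true := by decide +kernel
theorem tRelP_blk494 : allRange (guard nn tRelP) 5 (494 * 2 ^ 5) = true := by decide +kernel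
theorem tRelP_blk495 : allRange (guard nn tRelP) 5 (495 * 2 ^ 5) = true := by decide +kernel

end

end Cfsg.Agent.Lib.Helper28.Fi23x31671
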