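import Cfsg.Agent.Lib.Helper28.Fi23Ord.TRelDefs

set_option autoImplicit false
set_option linter.unusedVariables false
set_option Elab.async false

namespace Cfsg.Agent.Lib.Helper28.Fi23x31671

open Cfsg.Spor.Fi23 (Gen)
open Cfsg.Agent.Lib.Helper28.TC

noncomputable section

theorem tRelP_blk496 : allRange (guard nn tRelP) 5 (496 * 2 ^ 5) = true := by decide +kernel
theorem tRelP_blk497 : allRange (guard nn tRelP) 5 (497 * 2 ^ 5) = true := by decide +kernel
theorem tRelP_blk498 : allRange (guard nn tRelP) 5 (498 * 2 ^ 5) = true := by decide +kernel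
theorem tRelP_blk499 : allRange (guard nn tRelP) 5 (499 * 2 ^ 5) = true := by decide +kernel
theorem tRelP_blk500 : allRange (guard nn tRelP) 5 (500 * 2 ^ 5) = true := by decide +kernel
theorem tRelP_blk501 : allRange (guard nn tRelP) 5 (501 * 2 ^ 5) = true := by decide +kernel
theorem tRelP_blk502 : allRange (guard nn tRelP) 5 (502 * 2 ^ 5) = true := by decide +kernel
theorem tRelP_blk503 : allRange (guard nn tRelP) 5 (503 * 2 ^ 5) = true := by decide +kernel
theorem tRelP_blk504 : allRange (guard nn tRelP) 5 (504 * 2 ^ 5) = true := by decide +kernel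
theorem tRelP_blk505 : allRange (guard nn tRelP) 5 (505 * 2 ^ 5) = true := by decide +kernel
theorem tRelP_blk506 : allRange (guard nn tRelP) 5 (506 * 2 ^ 5) = true := by decide +kernel
theorem tRelP_blk507 : allRange (guard nn tRelP) 5 (507 * 2 ^ 5) = true := by decide +kernel
theorem tRelP_blk508 : allRange (guard nn tRelP) 5 (508 * 2 ^ 5) = true := by decide +kernel
theorem tRelP_blk509 : allRange (guard nn tRelP) 5 (509 * 2 ^ 5) = true := by decide +kernel
theorem tRelP_blk510 : allRange (guard nn tRelP) 5 (510 * 2 ^ 5) = true := by decide +kernel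
theorem tRelP_blk511 : allRange (guard nn tRelP) 5 (511 * 2 ^ 5) = true := by decide +kernel
theorem tRelP_blk512 : allRange (guard nn tRelP) 5 (512 * 2 ^ 5) = true := by decide +kernel
theorem tRelP_blk513 : allRange (guard nn tRelP) 5 (513 * 2 ^ 5) = true := by decide +kernel
theorem tRelP_blk514 : allRange (guard nn tRelP) 5 (514 * 2 ^ 5) = true := by decide +kernel
theorem tRelP_blk515 : allRange (guard nn tRelP) 5 (515 * 2 ^ 5) = true := by decide +kernel
theorem tRelP_blk516 : allRange (guard nn tRelP) 5 (516 * 2 ^ 5) = true := by decide +kernel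
theorem tRelP_blk517 : allRange (guard nn tRelP) 5 (517 * 2 ^ 5) = true := by decide +kernel
theorem tRelP_blk518 : allRange (guard nn tRelP) 5 (518 * 2 ^ 5) = true := by decide +kernel
theorem tRelP_blk519 : allRange (guard nn tRelP) 5 (519 * 2 ^ 5) = true := by decide +kernel
theorem tRelP_blk520 : allRange (guard nn tRelP) 5 (520 * 2 ^ 5) = true := by decide +kernel
theorem tRelP_blk521 : allRange (guard nn tRelP) 5 (521 * 2 ^ 5) = true := by decide +kernel
theorem tRelP_blk522 : allRange (guard nn tRelP) 5 (522 * 2 ^ 5) = true := by decide +kernel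
theorem tRelP_blk523 : allRange (guard nn tRelP) 5 (523 * 2 ^ 5) = true := by decide +kernel
theorem tRelP_blk524 : allRange (guard nn tRelP) 5 (524 * 2 ^ 5) = true := by decide +kernel
theorem tRelP_blk525 : allRange (guard nn tRelP) 5 (525 * 2 ^ 5) = true := by decide +kernel
theorem tRelP_blk526 : allRange (guard nn tRelP) 5 (526 * 2 ^ 5) = true := by decide +kernel
theorem tRelP_blk527 : allRange (guard nn tRelP) 5 (527 * 2 ^ 5) = true := by decide +kernel
theorem tRelP_blk528 : allRange (guard nn tRelP) 5 (528 * 2 ^ 5) = true := by decide +kernel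
theorem tRelP_blk529 : allRange (guard nn tRelP) 5 (529 * 2 ^ 5) = true := by decide +kernel
theorem tRelP_blk530 : allRange (guard nn tRelP) 5 (530 * 2 ^ 5) = true := by decide +kernel
theorem tRelP_blk531 : allRange (guard nn tRelP) 5 (531 * 2 ^ 5) = true := by decide +kernel
theorem tRelP_blk532 : allRange (guard nn tRelP) 5 (532 * 2 ^ 5) = true := by decide +kernel
theorem tRelP_blk533 : allRange (guard nn tRelP) 5 (533 * 2 ^ 5) = true := by decide +kernel
theorem tRelP_blk534 : allRange (guard nn tRelP) 5 (534 * 2 ^ 5) = true := by decide +kernel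
theorem tRelP_blk535 : allRange (guard nn tRelP) 5 (535 * 2 ^ 5) = true := by decide +kernel
theorem tRelP_blk536 : allRange (guard nn tRelP) 5 (536 * 2 ^ 5) = true := by decide +kernel
theorem tRelP_blk537 : allRange (guard nn tRelP) 5 (537 * 2 ^ 5) = true := by decide +kernel
theorem tRelP_blk538 : allRange (guard nn tRelP) 5 (538 * 2 ^ 5) = true := by decide +kernel
theorem tRelP_blk539 : allRange (guard nn tRelP) 5 (539 * 2 ^ 5) = true := by decide +kernel
theorem tRelP_blk540 : allRange (guard nn tRelP) 5 (540 * 2 ^ 5) = true := by decide +kernel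
theorem tRelP_blk541 : allRange (guard nn tRelP) 5 (541 * 2 ^ 5) = true := by decide +kernel
theorem tRelP_blk542 : allRange (guard nn tRelP) 5 (542 * 2 ^ 5) = true := by decide +kernel
theorem tRelP_blk543 : allRange (guard nn tRelP) 5 (543 * 2 ^ 5) = true := by decide +kernel
theorem tRelP_blk544 : allRange (guard nn tRelP) 5 (544 * 2 ^ 5) = true := by decide +kernel
theorem tRelP_blk545 : allRange (guard nn tRelP) 5 (545 * 2 ^ 5) = true := by decide +kernel
theorem tRelP_blk546 : allRange (guard nn tRelP) 5 (546 * 2 ^ 5) = true := by decide +kernel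
theorem tRelP_blk547 : allRange (guard nn tRelP) 5 (547 * 2 ^ 5) = true := by decide +kernel
theorem tRelP_blk548 : allRange (guard nn tRelP) 5 (548 * 2 ^ 5) = true := by decide +kernel
theorem tRelP_blk549 : allRange (guard nn tRelP) 5 (549 * 2 ^ 5) = true := by decide +kernel
theorem tRelP_blk550 : allRange (guard nn tRelP) 5 (550 * 2 ^ 5) = true := by decide +kernel
theorem tRelP_blk551 : allRange (guard nn tRelP) 5 (551 * 2 ^ 5) = true := by decide +kernel
theorem tRelP_blk552 : allRange (guard nn tRelP) 5 (552 * 2 ^ 5) = true := by decide +kernel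
theorem tRelP_blk553 : allRange (guard nn tRelP) 5 (553 * 2 ^ 5) = true := by decide +kernel
theorem tRelP_blk554 : allRange (guard nn tRelP) 5 (554 * 2 ^ 5) = true := by decide +kernel
theorem tRelP_blk555 : allRange (guard nn tRelP) 5 (555 * 2 ^ 5) = true := by decide +kernel
theorem tRelP_blk556 : allRange (guard nn tRelP) 5 (556 * 2 ^ 5) = true := by decide +kernel
theorem tRelP_blk557 : allRange (guard nn tRelP) 5 (557 * 2 ^ 5) = true := by decide +kernel
theorem tRelP_blk558 : allRange (guard nn tRelP) 5 (558 * 2 ^ 5) = true := by decide +kernel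
theorem tRelP_blk559 : allRange (guard nn tRelP) 5 (559 * 2 ^ 5) = true := by decide +kernel
theorem tRelP_blk560 : allRange (guard nn tRelP) 5 (560 * 2 ^ 5) = true := by decide +kernel
theorem tRelP_blk561 : allRange (guard nn tRelP) 5 (561 * 2 ^ 5) = true := by decide +kernel
theorem tRelP_blk562 : allRange (guard nn tRelP) 5 (562 * 2 ^ 5) = true := by decide +kernel
theorem tRelP_blk563 : allRange (guard nn tRelP) 5 (563 * 2 ^ 5) = true := by decide +kernel
theorem tRelP_blk564 : allRange (guard nn tRelP) 5 (564 * 2 ^ 5) = true := by decide +kernel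
theorem tRelP_blk565 : allRange (guard nn tRelP) 5 (565 * 2 ^ 5) = true := by decide +kernel
theorem tRelP_blk566 : allRange (guard nn tRelP) 5 (566 * 2 ^ 5) = true := by decide +kernel
theorem tRelP_blk567 : allRange (guard nn tRelP) 5 (567 * 2 ^ 5) = true := by decide +kernel
theorem tRelP_blk568 : allRange (guard nn tRelP) 5 (568 * 2 ^ 5) = true := by decide +kernel
theorem tRelP_blk569 : allRange (guard nn tRelP) 5 (569 * 2 ^ 5) = true := by decide +kernel
theorem tRelP_blk570 : allRange (guard nn tRelP) 5 (570 * 2 ^ 5) = true := by decide +kernel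
theorem tRelP_blk571 : allRange (guard nn tRelP) 5 (571 * 2 ^ 5) = true := by decide +kernel
theorem tRelP_blk572 : allRange (guard nn tRelP) 5 (572 * 2 ^ 5) = true := by decide +kernel
theorem tRelP_blk573 : allRange (guard nn tRelP) 5 (573 * 2 ^ 5) = true := by decide +kernel
theorem tRelP_blk574 : allRange (guard nn tRelP) 5 (574 * 2 ^ 5) = true := by decide +kernel
theorem tRelP_blk575 : allRange (guard nn tRelP) 5 (575 * 2 ^ 5) = true := by decide +kernel
theorem tRelP_blk576 : allRange (guard nn tRelP) 5 (576 * 2 ^ 5) = true := by decide +kernel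
theorem tRelP_blk577 : allRange (guard nn tRelP) 5 (577 * 2 ^ 5) = true := by decide +kernel
theorem tRelP_blk578 : allRange (guard nn tRelP) 5 (578 * 2 ^ 5) = true := by decide +kernel
theorem tRelP_blk579 : allRange (guard nn tRelP) 5 (579 * 2 ^ 5) = true := by decide +kernel
theorem tRelP_blk580 : allRange (guard nn tRelP) 5 (580 * 2 ^ 5) = true := by decide +kernel
theorem tRelP_blk581 : allRange (guard nn tRelP) 5 (581 * 2 ^ 5) = true := by decide +kernel
theorem tRelP_blk582 : allRange (guard nn tRelP) 5 (582 * 2 ^ 5) = true := by decide +kernel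
theorem tRelP_blk583 : allRange (guard nn tRelP) 5 (583 * 2 ^ 5) = true := by decide +kernel
theorem tRelP_blk584 : allRange (guard nn tRelP) 5 (584 * 2 ^ 5) = true := by decide +kernel
theorem tRelP_blk585 : allRange (guard nn tRelP) 5 (585 * 2 ^ 5) = true := by decide +kernel
theorem tRelP_blk586 : allRange (guard nn tRelP) 5 (586 * 2 ^ 5) = true := by decide +kernel
theorem tRelP_blk587 : allRange (guard nn tRelP) 5 (587 * 2 ^ 5) = true := by decide +kernel
theorem tRelP_blk588 : allRange (guard nn tRelP) 5 (588 * 2 ^ 5) = true := by decide +kernel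
theorem tRelP_blk589 : allRange (guard nn tRelP) 5 (589 * 2 ^ 5) = true := by decide +kernel
theorem tRelP_blk590 : allRange (guard nn tRelP) 5 (590 * 2 ^ 5) = true := by decide +kernel
theorem tRelP_blk591 : allRange (guard nn tRelP) 5 (591 * 2 ^ 5) = true := by decide +kernel
theorem tRelP_blk592 : allRange (guard nn tRelP) 5 (592 * 2 ^ 5) = true := by decide +kernel
theorem tRelP_blk593 : allRange (guard nn tRelP) 5 (593 * 2 ^ 5) = true := by decide +kernel
theorem tRelP_blk594 : allRange (guard nn tRelP) 5 (594 * 2 ^ 5) = true := by decide +kernel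
theorem tRelP_blk595 : allRange (guard nn tRelP) 5 (595 * 2 ^ 5) = true := by decide +kernel
theorem tRelP_blk596 : allRange (guard nn tRelP) 5 (596 * 2 ^ 5) = true := by decide +kernel
theorem tRelP_blk597 : allRange (guard nn tRelP) 5 (597 * 2 ^ 5) = true := by decide +kernel
theorem tRelP_blk598 : allRange (guard nn tRelP) 5 (598 * 2 ^ 5) = true := by decide +kernel
theorem tRelP_blk599 : allRange (guard nn tRelP) 5 (599 * 2 ^ 5) = true := by decide +kernel
theorem tRelP_blk600 : allRange (guard nn tRelP) 5 (600 * 2 ^ 5) = true := by decide +kernel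
theorem tRelP_blk601 : allRange (guard nn tRelP) 5 (601 * 2 ^ 5) = true := by decide +kernel
theorem tRelP_blk602 : allRange (guard nn tRelP) 5 (602 * 2 ^ 5) = true := by decide +kernel
theorem tRelP_blk603 : allRange (guard nn tRelP) 5 (603 * 2 ^ 5) = true := by decide +kernel
theorem tRelP_blk604 : allRange (guard nn tRelP) 5 (604 * 2 ^ 5) = true := by decide +kernel
theorem tRelP_blk605 : allRange (guard nn tRelP) 5 (605 * 2 ^ 5) = true := by decide +kernel
theorem tRelP_blk606 : allRange (guard nn tRelP) 5 (606 * 2 ^ 5) = true := by decide +kernel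
theorem tRelP_blk607 : allRange (guard nn tRelP) 5 (607 * 2 ^ 5) = true := by decide +kernel
theorem tRelP_blk608 : allRange (guard nn tRelP) 5 (608 * 2 ^ 5) = true := by decide +kernel
theorem tRelP_blk609 : allRange (guard nn tRelP) 5 (609 * 2 ^ 5) = true := by decide +kernel
theorem tRelP_blk610 : allRange (guard nn tRelP) 5 (610 * 2 ^ 5) = true := by decide +kernel
theorem tRelP_blk611 : allRange (guard nn tRelP) 5 (611 * 2 ^ 5) = true := by decide +kernel
theorem tRelP_blk612 : allRange (guard nn tRelP) 5 (612 * 2 ^ 5) = true := by decide +kernel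
theorem tRelP_blk613 : allRange (guard nn tRelP) 5 (613 * 2 ^ 5) = true := by decide +kernel
theorem tRelP_blk614 : allRange (guard nn tRelP) 5 (614 * 2 ^ 5) = true := by decide +kernel
theorem tRelP_blk615 : allRange (guard nn tRelP) 5 (615 * 2 ^ 5) = true := by decide +kernel
theorem tRelP_blk616 : allRange (guard nn tRelP) 5 (616 * 2 ^ 5) = true := by decide +kernel
theorem tRelP_blk617 : allRange (guard nn tRelP) 5 (617 * 2 ^ 5) = true := by decide +kernel
theorem tRelP_blk618 : allRange (guard nn tRelP) 5 (618 * 2 ^ 5) = true := by decide +kernel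
theorem tRelP_blk619 : allRange (guard nn tRelP) 5 (619 * 2 ^ 5) = true := by decide +kernel

end

end Cfsg.Agent.Lib.Helper28.Fi23x31671
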