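import Cfsg.Agent.Lib.Helper28.Fi23Ord.TRelDefs

set_option autoImplicit false
set_option linter.unusedVariables false
set_option Elab.async false

namespace Cfsg.Agent.Lib.Helper28.Fi23x31671

open Cfsg.Spor.Fi23 (Gen)
open Cfsg.Agent.Lib.Helper28.TC

noncomputable section

theorem tRelP_blk620 : allRange (guard nn tRelP) 5 (620 * 2 ^ 5) = true := by decide +kernel
theorem tRelP_blk621 : allRange (guard nn tRelP) 5 (621 * 2 ^ 5) = true := by decide +kernel
theorem tRelP_blk622 : allRange (guard nn tRelP) 5 (622 * 2 ^ 5) = true := by decide +kernel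
theorem tRelP_blk623 : allRange (guard nn tRelP) 5 (623 * 2 ^ 5) = true := by decide +kernel
theorem tRelP_blk624 : allRange (guard nn tRelP) 5 (624 * 2 ^ 5) = true := by decide +kernel
theorem tRelP_blk625 : allRange (guard nn tRelP) 5 (625 * 2 ^ 5) = true := by decide +kernel
theorem tRelP_blk626 : allRange (guard nn tRelP) 5 (626 * 2 ^ 5) = true := by decide +kernel
theorem tRelP_blk627 : allRange (guard nn tRelP) 5 (627 * 2 ^ 5) = true := by decide +kernel
theorem tRelP_blk628 : allRange (guard nn tRelP) 5 (628 * 2 ^ 5) = true := by decide +kernel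
theorem tRelP_blk629 : allRange (guard nn tRelP) 5 (629 * 2 ^ 5) = true := by decide +kernel
theorem tRelP_blk630 : allRange (guard nn tRelP) 5 (630 * 2 ^ 5) = true := by decide +kernel
theorem tRelP_blk631 : allRange (guard nn tRelP) 5 (631 * 2 ^ 5) = true := by decide +kernel
theorem tRelP_blk632 : allRange (guard nn tRelP) 5 (632 * 2 ^ 5) = true := by decide +kernel
theorem tRelP_blk633 : allRange (guard nn tRelP) 5 (633 * 2 ^ 5) = true := by decide +kernel
theorem tRelP_blk634 : allRange (guard nn tRelP) 5 (634 * 2 ^ 5) = true := by decide +kernel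
theorem tRelP_blk635 : allRange (guard nn tRelP) 5 (635 * 2 ^ 5) = true := by decide +kernel
theorem tRelP_blk636 : allRange (guard nn tRelP) 5 (636 * 2 ^ 5) = true := by decide +kernel
theorem tRelP_blk637 : allRange (guard nn tRelP) 5 (637 * 2 ^ 5) = true := by decide +kernel
theorem tRelP_blk638 : allRange (guard nn tRelP) 5 (638 * 2 ^ 5) = true := by decide +kernel
theorem tRelP_blk639 : allRange (guard nn tRelP) 5 (639 * 2 ^ 5) = true := by decide +kernel
theorem tRelP_blk640 : allRange (guard nn tRelP) 5 (640 * 2 ^ 5) = true := by decide +kernel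
theorem tRelP_blk641 : allRange (guard nn tRelP) 5 (641 * 2 ^ 5) = true := by decide +kernel
theorem tRelP_blk642 : allRange (guard nn tRelP) 5 (642 * 2 ^ 5) = true := by decide +kernel
theorem tRelP_blk643 : allRange (guard nn tRelP) 5 (643 * 2 ^ 5) = true := by decide +kernel
theorem tRelP_blk644 : allRange (guard nn tRelP) 5 (644 * 2 ^ 5) = true := by decide +kernel
theorem tRelP_blk645 : allRange (guard nn tRelP) 5 (645 * 2 ^ 5) = true := by decide +kernel
theorem tRelP_blk646 : allRange (guard nn tRelP) 5 (646 * 2 ^ 5) = true := by decide +kernel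
theorem tRelP_blk647 : allRange (guard nn tRelP) 5 (647 * 2 ^ 5) = true := by decide +kernel
theorem tRelP_blk648 : allRange (guard nn tRelP) 5 (648 * 2 ^ 5) = true := by decide +kernel
theorem tRelP_blk649 : allRange (guard nn tRelP) 5 (649 * 2 ^ 5) = true := by decide +kernel
theorem tRelP_blk650 : allRange (guard nn tRelP) 5 (650 * 2 ^ 5) = true := by decide +kernel
theorem tRelP_blk651 : allRange (guard nn tRelP) 5 (651 * 2 ^ 5) = true := by decide +kernel
theorem tRelP_blk652 : allRange (guard nn tRelP) 5 (652 * 2 ^ 5) = true := by decide +kernel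
theorem tRelP_blk653 : allRange (guard nn tRelP) 5 (653 * 2 ^ 5) = true := by decide +kernel
theorem tRelP_blk654 : allRange (guard nn tRelP) 5 (654 * 2 ^ 5) = true := by decide +kernel
theorem tRelP_blk655 : allRange (guard nn tRelP) 5 (655 * 2 ^ 5) = true := by decide +kernel
theorem tRelP_blk656 : allRange (guard nn tRelP) 5 (656 * 2 ^ 5) = true := by decide +kernel
theorem tRelP_blk657 : allRange (guard nn tRelP) 5 (657 * 2 ^ 5) = true := by decide +kernel
theorem tRelP_blk658 : allRange (guard nn tRelP) 5 (658 * 2 ^ 5) = true := by decide +kernel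
theorem tRelP_blk659 : allRange (guard nn tRelP) 5 (659 * 2 ^ 5) = true := by decide +kernel
theorem tRelP_blk660 : allRange (guard nn tRelP) 5 (660 * 2 ^ 5) = true := by decide +kernel
theorem tRelP_blk661 : allRange (guard nn tRelP) 5 (661 * 2 ^ 5) = true := by decide +kernel
theorem tRelP_blk662 : allRange (guard nn tRelP) 5 (662 * 2 ^ 5) = true := by decide +kernel
theorem tRelP_blk663 : allRange (guard nn tRelP) 5 (663 * 2 ^ 5) = true := by decide +kernel
theorem tRelP_blk664 : allRange (guard nn tRelP) 5 (664 * 2 ^ 5) = true := by decide +kernel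
theorem tRelP_blk665 : allRange (guard nn tRelP) 5 (665 * 2 ^ 5) = true := by decide +kernel
theorem tRelP_blk666 : allRange (guard nn tRelP) 5 (666 * 2 ^ 5) = true := by decide +kernel
theorem tRelP_blk667 : allRange (guard nn tRelP) 5 (667 * 2 ^ 5) = true := by decide +kernel
theorem tRelP_blk668 : allRange (guard nn tRelP) 5 (668 * 2 ^ 5) = true := by decide +kernel
theorem tRelP_blk669 : allRange (guard nn tRelP) 5 (669 * 2 ^ 5) = true := by decide +kernel
theorem tRelP_blk670 : allRange (guard nn tRelP) 5 (670 * 2 ^ 5) = true := by decide +kernel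
theorem tRelP_blk671 : allRange (guard nn tRelP) 5 (671 * 2 ^ 5) = true := by decide +kernel
theorem tRelP_blk672 : allRange (guard nn tRelP) 5 (672 * 2 ^ 5) = true := by decide +kernel
theorem tRelP_blk673 : allRange (guard nn tRelP) 5 (673 * 2 ^ 5) = true := by decide +kernel
theorem tRelP_blk674 : allRange (guard nn tRelP) 5 (674 * 2 ^ 5) = true := by decide +kernel
theorem tRelP_blk675 : allRange (guard nn tRelP) 5 (675 * 2 ^ 5) = true := by decide +kernel
theorem tRelP_blk676 : allRange (guard nn tRelP) 5 (676 * 2 ^ 5) = true := by decide +kernel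
theorem tRelP_blk677 : allRange (guard nn tRelP) 5 (677 * 2 ^ 5) = true := by decide +kernel
theorem tRelP_blk678 : allRange (guard nn tRelP) 5 (678 * 2 ^ 5) = true := by decide +kernel
theorem tRelP_blk679 : allRange (guard nn tRelP) 5 (679 * 2 ^ 5) = true := by decide +kernel
theorem tRelP_blk680 : allRange (guard nn tRelP) 5 (680 * 2 ^ 5) = true := by decide +kernel
theorem tRelP_blk681 : allRange (guard nn tRelP) 5 (681 * 2 ^ 5) = true := by decide +kernel
theorem tRelP_blk682 : allRange (guard nn tRelP) 5 (682 * 2 ^ 5) = true := by decide +kernel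
theorem tRelP_blk683 : allRange (guard nn tRelP) 5 (683 * 2 ^ 5) = true := by decide +kernel
theorem tRelP_blk684 : allRange (guard nn tRelP) 5 (684 * 2 ^ 5) = true := by decide +kernel
theorem tRelP_blk685 : allRange (guard nn tRelP) 5 (685 * 2 ^ 5) = true := by decide +kernel
theorem tRelP_blk686 : allRange (guard nn tRelP) 5 (686 * 2 ^ 5) = true := by decide +kernel
theorem tRelP_blk687 : allRange (guard nn tRelP) 5 (687 * 2 ^ 5) = true := by decide +kernel
theorem tRelP_blk688 : allRange (guard nn tRelP) 5 (688 * 2 ^ 5) = true := by decide +kernel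
theorem tRelP_blk689 : allRange (guard nn tRelP) 5 (689 * 2 ^ 5) = true := by decide +kernel
theorem tRelP_blk690 : allRange (guard nn tRelP) 5 (690 * 2 ^ 5) = true := by decide +kernel
theorem tRelP_blk691 : allRange (guard nn tRelP) 5 (691 * 2 ^ 5) = true := by decide +kernel
theorem tRelP_blk692 : allRange (guard nn tRelP) 5 (692 * 2 ^ 5) = true := by decide +kernel
theorem tRelP_blk693 : allRange (guard nn tRelP) 5 (693 * 2 ^ 5) = true := by decide +kernel
theorem tRelP_blk694 : allRange (guard nn tRelP) 5 (694 * 2 ^ 5) = true := by decide +kernel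
theorem tRelP_blk695 : allRange (guard nn tRelP) 5 (695 * 2 ^ 5) = true := by decide +kernel
theorem tRelP_blk696 : allRange (guard nn tRelP) 5 (696 * 2 ^ 5) = true := by decide +kernel
theorem tRelP_blk697 : allRange (guard nn tRelP) 5 (697 * 2 ^ 5) = true := by decide +kernel
theorem tRelP_blk698 : allRange (guard nn tRelP) 5 (698 * 2 ^ 5) = true := by decide +kernel
theorem tRelP_blk699 : allRange (guard nn tRelP) 5 (699 * 2 ^ 5) = true := by decide +kernel
theorem tRelP_blk700 : allRange (guard nn tRelP) 5 (700 * 2 ^ 5) = true := by decide +kernel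
theorem tRelP_blk701 : allRange (guard nn tRelP) 5 (701 * 2 ^ 5) = true := by decide +kernel
theorem tRelP_blk702 : allRange (guard nn tRelP) 5 (702 * 2 ^ 5) = true := by decide +kernel
theorem tRelP_blk703 : allRange (guard nn tRelP) 5 (703 * 2 ^ 5) = true := by decide +kernel
theorem tRelP_blk704 : allRange (guard nn tRelP) 5 (704 * 2 ^ 5) = true := by decide +kernel
theorem tRelP_blk705 : allRange (guard nn tRelP) 5 (705 * 2 ^ 5) = true := by decide +kernel
theorem tRelP_blk706 : allRange (guard nn tRelP) 5 (706 * 2 ^ 5) = true := by decide +kernel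
theorem tRelP_blk707 : allRange (guard nn tRelP) 5 (707 * 2 ^ 5) = true := by decide +kernel
theorem tRelP_blk708 : allRange (guard nn tRelP) 5 (708 * 2 ^ 5) = true := by decide +kernel
theorem tRelP_blk709 : allRange (guard nn tRelP) 5 (709 * 2 ^ 5) = true := by decide +kernel
theorem tRelP_blk710 : allRange (guard nn tRelP) 5 (710 * 2 ^ 5) = true := by decide +kernel
theorem tRelP_blk711 : allRange (guard nn tRelP) 5 (711 * 2 ^ 5) = true := by decide +kernel
theorem tRelP_blk712 : allRange (guard nn tRelP) 5 (712 * 2 ^ 5) = true := by decide +kernel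
theorem tRelP_blk713 : allRange (guard nn tRelP) 5 (713 * 2 ^ 5) = true := by decide +kernel
theorem tRelP_blk714 : allRange (guard nn tRelP) 5 (714 * 2 ^ 5) = true := by decide +kernel
theorem tRelP_blk715 : allRange (guard nn tRelP) 5 (715 * 2 ^ 5) = true := by decide +kernel
theorem tRelP_blk716 : allRange (guard nn tRelP) 5 (716 * 2 ^ 5) = true := by decide +kernel
theorem tRelP_blk717 : allRange (guard nn tRelP) 5 (717 * 2 ^ 5) = true := by decide +kernel
theorem tRelP_blk718 : allRange (guard nn tRelP) 5 (718 * 2 ^ 5) = true := by decide +kernel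
theorem tRelP_blk719 : allRange (guard nn tRelP) 5 (719 * 2 ^ 5) = true := by decide +kernel
theorem tRelP_blk720 : allRange (guard nn tRelP) 5 (720 * 2 ^ 5) = true := by decide +kernel
theorem tRelP_blk721 : allRange (guard nn tRelP) 5 (721 * 2 ^ 5) = true := by decide +kernel
theorem tRelP_blk722 : allRange (guard nn tRelP) 5 (722 * 2 ^ 5) = true := by decide +kernel
theorem tRelP_blk723 : allRange (guard nn tRelP) 5 (723 * 2 ^ 5) = true := by decide +kernel
theorem tRelP_blk724 : allRange (guard nn tRelP) 5 (724 * 2 ^ 5) = true := by decide +kernel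
theorem tRelP_blk725 : allRange (guard nn tRelP) 5 (725 * 2 ^ 5) = true := by decide +kernel
theorem tRelP_blk726 : allRange (guard nn tRelP) 5 (726 * 2 ^ 5) = true := by decide +kernel
theorem tRelP_blk727 : allRange (guard nn tRelP) 5 (727 * 2 ^ 5) = true := by decide +kernel
theorem tRelP_blk728 : allRange (guard nn tRelP) 5 (728 * 2 ^ 5) = true := by decide +kernel
theorem tRelP_blk729 : allRange (guard nn tRelP) 5 (729 * 2 ^ 5) = true := by decide +kernel
theorem tRelP_blk730 : allRange (guard nn tRelP) 5 (730 * 2 ^ 5) = true := by decide +kernel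
theorem tRelP_blk731 : allRange (guard nn tRelP) 5 (731 * 2 ^ 5) = true := by decide +kernel
theorem tRelP_blk732 : allRange (guard nn tRelP) 5 (732 * 2 ^ 5) = true := by decide +kernel
theorem tRelP_blk733 : allRange (guard nn tRelP) 5 (733 * 2 ^ 5) = true := by decide +kernel
theorem tRelP_blk734 : allRange (guard nn tRelP) 5 (734 * 2 ^ 5) = true := by decide +kernel
theorem tRelP_blk735 : allRange (guard nn tRelP) 5 (735 * 2 ^ 5) = true := by decide +kernel
theorem tRelP_blk736 : allRange (guard nn tRelP) 5 (736 * 2 ^ 5) = true := by decide +kernel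
theorem tRelP_blk737 : allRange (guard nn tRelP) 5 (737 * 2 ^ 5) = true := by decide +kernel
theorem tRelP_blk738 : allRange (guard nn tRelP) 5 (738 * 2 ^ 5) = true := by decide +kernel
theorem tRelP_blk739 : allRange (guard nn tRelP) 5 (739 * 2 ^ 5) = true := by decide +kernel
theorem tRelP_blk740 : allRange (guard nn tRelP) 5 (740 * 2 ^ 5) = true := by decide +kernel
theorem tRelP_blk741 : allRange (guard nn tRelP) 5 (741 * 2 ^ 5) = true := by decide +kernel
theorem tRelP_blk742 : allRange (guard nn tRelP) 5 (742 * 2 ^ 5) = true := by decide +kernel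
theorem tRelP_blk743 : allRange (guard nn tRelP) 5 (743 * 2 ^ 5) = true := by decide +kernel

end

end Cfsg.Agent.Lib.Helper28.Fi23x31671
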