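import Cfsg.Agent.Lib.Helper28.Fi23Ord.TRelDefs

set_option autoImplicit false
set_option linter.unusedVariables false
set_option Elab.async false

namespace Cfsg.Agent.Lib.Helper28.Fi23x31671

open Cfsg.Spor.Fi23 (Gen)
open Cfsg.Agent.Lib.Helper28.TC

noncomputable section

theorem tRelP_blk744 : allRange (guard nn tRelP) 5 (744 * 2 ^ 5) = true := by decide +kernel
theorem tRelP_blk745 : allRange (guard nn tRelP) 5 (745 * 2 ^ 5) = true := by decide +kernel
theorem tRelP_blk746 : allRange (guard nn tRelP) 5 (746 * 2 ^ 5) = true := by decide +kernel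
theorem tRelP_blk747 : allRange (guard nn tRelP) 5 (747 * 2 ^ 5) = true := by decide +kernel
theorem tRelP_blk748 : allRange (guard nn tRelP) 5 (748 * 2 ^ 5) = true := by decide +kernel
theorem tRelP_blk749 : allRange (guard nn tRelP) 5 (749 * 2 ^ 5) = true := by decide +kernel
theorem tRelP_blk750 : allRange (guard nn tRelP) 5 (750 * 2 ^ 5) = true := by decide +kernel
theorem tRelP_blk751 : allRange (guard nn tRelP) 5 (751 * 2 ^ 5) = true := by decide +kernel
theorem tRelP_blk752 : allRange (guard nn tRelP) 5 (752 * 2 ^ 5) = true := by decide +kernel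
theorem tRelP_blk753 : allRange (guard nn tRelP) 5 (753 * 2 ^ 5) = true := by decide +kernel
theorem tRelP_blk754 : allRange (guard nn tRelP) 5 (754 * 2 ^ 5) = true := by decide +kernel
theorem tRelP_blk755 : allRange (guard nn tRelP) 5 (755 * 2 ^ 5) = true := by decide +kernel
theorem tRelP_blk756 : allRange (guard nn tRelP) 5 (756 * 2 ^ 5) = true := by decide +kernel
theorem tRelP_blk757 : allRange (guard nn tRelP) 5 (757 * 2 ^ 5) = true := by decide +kernel
theorem tRelP_blk758 : allRange (guard nn tRelP) 5 (758 * 2 ^ 5) = true := by decide +kernel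
theorem tRelP_blk759 : allRange (guard nn tRelP) 5 (759 * 2 ^ 5) = true := by decide +kernel
theorem tRelP_blk760 : allRange (guard nn tRelP) 5 (760 * 2 ^ 5) = true := by decide +kernel
theorem tRelP_blk761 : allRange (guard nn tRelP) 5 (761 * 2 ^ 5) = true := by decide +kernel
theorem tRelP_blk762 : allRange (guard nn tRelP) 5 (762 * 2 ^ 5) = true := by decide +kernel
theorem tRelP_blk763 : allRange (guard nn tRelP) 5 (763 * 2 ^ 5) = true := by decide +kernel
theorem tRelP_blk764 : allRange (guard nn tRelP) 5 (764 * 2 ^ 5) = true := by decide +kernel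
theorem tRelP_blk765 : allRange (guard nn tRelP) 5 (765 * 2 ^ 5) = true := by decide +kernel
theorem tRelP_blk766 : allRange (guard nn tRelP) 5 (766 * 2 ^ 5) = true := by decide +kernel
theorem tRelP_blk767 : allRange (guard nn tRelP) 5 (767 * 2 ^ 5) = true := by decide +kernel
theorem tRelP_blk768 : allRange (guard nn tRelP) 5 (768 * 2 ^ 5) = true := by decide +kernel
theorem tRelP_blk769 : allRange (guard nn tRelP) 5 (769 * 2 ^ 5) = true := by decide +kernel
theorem tRelP_blk770 : allRange (guard nn tRelP) 5 (770 * 2 ^ 5) = true := by decide +kernel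
theorem tRelP_blk771 : allRange (guard nn tRelP) 5 (771 * 2 ^ 5) = true := by decide +kernel
theorem tRelP_blk772 : allRange (guard nn tRelP) 5 (772 * 2 ^ 5) = true := by decide +kernel
theorem tRelP_blk773 : allRange (guard nn tRelP) 5 (773 * 2 ^ 5) = true := by decide +kernel
theorem tRelP_blk774 : allRange (guard nn tRelP) 5 (774 * 2 ^ 5) = true := by decide +kernel
theorem tRelP_blk775 : allRange (guard nn tRelP) 5 (775 * 2 ^ 5) = true := by decide +kernel
theorem tRelP_blk776 : allRange (guard nn tRelP) 5 (776 * 2 ^ 5) = true := by decide +kernel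
theorem tRelP_blk777 : allRange (guard nn tRelP) 5 (777 * 2 ^ 5) = true := by decide +kernel
theorem tRelP_blk778 : allRange (guard nn tRelP) 5 (778 * 2 ^ 5) = true := by decide +kernel
theorem tRelP_blk779 : allRange (guard nn tRelP) 5 (779 * 2 ^ 5) = true := by decide +kernel
theorem tRelP_blk780 : allRange (guard nn tRelP) 5 (780 * 2 ^ 5) = true := by decide +kernel
theorem tRelP_blk781 : allRange (guard nn tRelP) 5 (781 * 2 ^ 5) = true := by decide +kernel
theorem tRelP_blk782 : allRange (guard nn tRelP) 5 (782 * 2 ^ 5) = true := by decide +kernel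
theorem tRelP_blk783 : allRange (guard nn tRelP) 5 (783 * 2 ^ 5) = true := by decide +kernel
theorem tRelP_blk784 : allRange (guard nn tRelP) 5 (784 * 2 ^ 5) = true := by decide +kernel
theorem tRelP_blk785 : allRange (guard nn tRelP) 5 (785 * 2 ^ 5) = true := by decide +kernel
theorem tRelP_blk786 : allRange (guard nn tRelP) 5 (786 * 2 ^ 5) = true := by decide +kernel
theorem tRelP_blk787 : allRange (guard nn tRelP) 5 (787 * 2 ^ 5) = true := by decide +kernel
theorem tRelP_blk788 : allRange (guard nn tRelP) 5 (788 * 2 ^ 5) = true := by decide +kernel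
theorem tRelP_blk789 : allRange (guard nn tRelP) 5 (789 * 2 ^ 5) = true := by decide +kernel
theorem tRelP_blk790 : allRange (guard nn tRelP) 5 (790 * 2 ^ 5) = true := by decide +kernel
theorem tRelP_blk791 : allRange (guard nn tRelP) 5 (791 * 2 ^ 5) = true := by decide +kernel
theorem tRelP_blk792 : allRange (guard nn tRelP) 5 (792 * 2 ^ 5) = true := by decide +kernel
theorem tRelP_blk793 : allRange (guard nn tRelP) 5 (793 * 2 ^ 5) = true := by decide +kernel
theorem tRelP_blk794 : allRange (guard nn tRelP) 5 (794 * 2 ^ 5) = true := by decide +kernel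
theorem tRelP_blk795 : allRange (guard nn tRelP) 5 (795 * 2 ^ 5) = true := by decide +kernel
theorem tRelP_blk796 : allRange (guard nn tRelP) 5 (796 * 2 ^ 5) = true := by decide +kernel
theorem tRelP_blk797 : allRange (guard nn tRelP) 5 (797 * 2 ^ 5) = true := by decide +kernel
theorem tRelP_blk798 : allRange (guard nn tRelP) 5 (798 * 2 ^ 5) = true := by decide +kernel
theorem tRelP_blk799 : allRange (guard nn tRelP) 5 (799 * 2 ^ 5) = true := by decide +kernel
theorem tRelP_blk800 : allRange (guard nn tRelP) 5 (800 * 2 ^ 5) = true := by decide +kernel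
theorem tRelP_blk801 : allRange (guard nn tRelP) 5 (801 * 2 ^ 5) = true := by decide +kernel
theorem tRelP_blk802 : allRange (guard nn tRelP) 5 (802 * 2 ^ 5) = true := by decide +kernel
theorem tRelP_blk803 : allRange (guard nn tRelP) 5 (803 * 2 ^ 5) = true := by decide +kernel
theorem tRelP_blk804 : allRange (guard nn tRelP) 5 (804 * 2 ^ 5) = true := by decide +kernel
theorem tRelP_blk805 : allRange (guard nn tRelP) 5 (805 * 2 ^ 5) = true := by decide +kernel
theorem tRelP_blk806 : allRange (guard nn tRelP) 5 (806 * 2 ^ 5) = true := by decide +kernel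
theorem tRelP_blk807 : allRange (guard nn tRelP) 5 (807 * 2 ^ 5) = true := by decide +kernel
theorem tRelP_blk808 : allRange (guard nn tRelP) 5 (808 * 2 ^ 5) = true := by decide +kernel
theorem tRelP_blk809 : allRange (guard nn tRelP) 5 (809 * 2 ^ 5) = true := by decide +kernel
theorem tRelP_blk810 : allRange (guard nn tRelP) 5 (810 * 2 ^ 5) = true := by decide +kernel
theorem tRelP_blk811 : allRange (guard nn tRelP) 5 (811 * 2 ^ 5) = true := by decide +kernel
theorem tRelP_blk812 : allRange (guard nn tRelP) 5 (812 * 2 ^ 5) = true := by decide +kernel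
theorem tRelP_blk813 : allRange (guard nn tRelP) 5 (813 * 2 ^ 5) = true := by decide +kernel
theorem tRelP_blk814 : allRange (guard nn tRelP) 5 (814 * 2 ^ 5) = true := by decide +kernel
theorem tRelP_blk815 : allRange (guard nn tRelP) 5 (815 * 2 ^ 5) = true := by decide +kernel
theorem tRelP_blk816 : allRange (guard nn tRelP) 5 (816 * 2 ^ 5) = true := by decide +kernel
theorem tRelP_blk817 : allRange (guard nn tRelP) 5 (817 * 2 ^ 5) = true := by decide +kernel
theorem tRelP_blk818 : allRange (guard nn tRelP) 5 (818 * 2 ^ 5) = true := by decide +kernel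
theorem tRelP_blk819 : allRange (guard nn tRelP) 5 (819 * 2 ^ 5) = true := by decide +kernel
theorem tRelP_blk820 : allRange (guard nn tRelP) 5 (820 * 2 ^ 5) = true := by decide +kernel
theorem tRelP_blk821 : allRange (guard nn tRelP) 5 (821 * 2 ^ 5) = true := by decide +kernel
theorem tRelP_blk822 : allRange (guard nn tRelP) 5 (822 * 2 ^ 5) = true := by decide +kernel
theorem tRelP_blk823 : allRange (guard nn tRelP) 5 (823 * 2 ^ 5) = true := by decide +kernel
theorem tRelP_blk824 : allRange (guard nn tRelP) 5 (824 * 2 ^ 5) = true := by decide +kernel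
theorem tRelP_blk825 : allRange (guard nn tRelP) 5 (825 * 2 ^ 5) = true := by decide +kernel
theorem tRelP_blk826 : allRange (guard nn tRelP) 5 (826 * 2 ^ 5) = true := by decide +kernel
theorem tRelP_blk827 : allRange (guard nn tRelP) 5 (827 * 2 ^ 5) = true := by decide +kernel
theorem tRelP_blk828 : allRange (guard nn tRelP) 5 (828 * 2 ^ 5) = true := by decide +kernel
theorem tRelP_blk829 : allRange (guard nn tRelP) 5 (829 * 2 ^ 5) = true := by decide +kernel
theorem tRelP_blk830 : allRange (guard nn tRelP) 5 (830 * 2 ^ 5) = true := by decide +kernel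
theorem tRelP_blk831 : allRange (guard nn tRelP) 5 (831 * 2 ^ 5) = true := by decide +kernel
theorem tRelP_blk832 : allRange (guard nn tRelP) 5 (832 * 2 ^ 5) = true := by decide +kernel
theorem tRelP_blk833 : allRange (guard nn tRelP) 5 (833 * 2 ^ 5) = true := by decide +kernel
theorem tRelP_blk834 : allRange (guard nn tRelP) 5 (834 * 2 ^ 5) = true := by decide +kernel
theorem tRelP_blk835 : allRange (guard nn tRelP) 5 (835 * 2 ^ 5) = true := by decide +kernel
theorem tRelP_blk836 : allRange (guard nn tRelP) 5 (836 * 2 ^ 5) = true := by decide +kernel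
theorem tRelP_blk837 : allRange (guard nn tRelP) 5 (837 * 2 ^ 5) = true := by decide +kernel
theorem tRelP_blk838 : allRange (guard nn tRelP) 5 (838 * 2 ^ 5) = true := by decide +kernel
theorem tRelP_blk839 : allRange (guard nn tRelP) 5 (839 * 2 ^ 5) = true := by decide +kernel
theorem tRelP_blk840 : allRange (guard nn tRelP) 5 (840 * 2 ^ 5) = true := by decide +kernel
theorem tRelP_blk841 : allRange (guard nn tRelP) 5 (841 * 2 ^ 5) = true := by decide +kernel
theorem tRelP_blk842 : allRange (guard nn tRelP) 5 (842 * 2 ^ 5) = true := by decide +kernel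
theorem tRelP_blk843 : allRange (guard nn tRelP) 5 (843 * 2 ^ 5) = true := by decide +kernel
theorem tRelP_blk844 : allRange (guard nn tRelP) 5 (844 * 2 ^ 5) = true := by decide +kernel
theorem tRelP_blk845 : allRange (guard nn tRelP) 5 (845 * 2 ^ 5) = true := by decide +kernel
theorem tRelP_blk846 : allRange (guard nn tRelP) 5 (846 * 2 ^ 5) = true := by decide +kernel
theorem tRelP_blk847 : allRange (guard nn tRelP) 5 (847 * 2 ^ 5) = true := by decide +kernel
theorem tRelP_blk848 : allRange (guard nn tRelP) 5 (848 * 2 ^ 5) = true := by decide +kernel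
theorem tRelP_blk849 : allRange (guard nn tRelP) 5 (849 * 2 ^ 5) = true := by decide +kernel
theorem tRelP_blk850 : allRange (guard nn tRelP) 5 (850 * 2 ^ 5) = true := by decide +kernel
theorem tRelP_blk851 : allRange (guard nn tRelP) 5 (851 * 2 ^ 5) = true := by decide +kernel
theorem tRelP_blk852 : allRange (guard nn tRelP) 5 (852 * 2 ^ 5) = true := by decide +kernel
theorem tRelP_blk853 : allRange (guard nn tRelP) 5 (853 * 2 ^ 5) = true := by decide +kernel
theorem tRelP_blk854 : allRange (guard nn tRelP) 5 (854 * 2 ^ 5) = true := by decide +kernel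
theorem tRelP_blk855 : allRange (guard nn tRelP) 5 (855 * 2 ^ 5) = true := by decide +kernel
theorem tRelP_blk856 : allRange (guard nn tRelP) 5 (856 * 2 ^ 5) = true := by decide +kernel
theorem tRelP_blk857 : allRange (guard nn tRelP) 5 (857 * 2 ^ 5) = true := by decide +kernel
theorem tRelP_blk858 : allRange (guard nn tRelP) 5 (858 * 2 ^ 5) = true := by decide +kernel
theorem tRelP_blk859 : allRange (guard nn tRelP) 5 (859 * 2 ^ 5) = true := by decide +kernel
theorem tRelP_blk860 : allRange (guard nn tRelP) 5 (860 * 2 ^ 5) = true := by decide +kernel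
theorem tRelP_blk861 : allRange (guard nn tRelP) 5 (861 * 2 ^ 5) = true := by decide +kernel
theorem tRelP_blk862 : allRange (guard nn tRelP) 5 (862 * 2 ^ 5) = true := by decide +kernel
theorem tRelP_blk863 : allRange (guard nn tRelP) 5 (863 * 2 ^ 5) = true := by decide +kernel
theorem tRelP_blk864 : allRange (guard nn tRelP) 5 (864 * 2 ^ 5) = true := by decide +kernel
theorem tRelP_blk865 : allRange (guard nn tRelP) 5 (865 * 2 ^ 5) = true := by decide +kernel
theorem tRelP_blk866 : allRange (guard nn tRelP) 5 (866 * 2 ^ 5) = true := by decide +kernel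
theorem tRelP_blk867 : allRange (guard nn tRelP) 5 (867 * 2 ^ 5) = true := by decide +kernel

end

end Cfsg.Agent.Lib.Helper28.Fi23x31671
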