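import Cfsg.Agent.Lib.Helper28.Fi23Ord.TRelDefs

set_option autoImplicit false
set_option linter.unusedVariables false
set_option Elab.async false

namespace Cfsg.Agent.Lib.Helper28.Fi23x31671

open Cfsg.Spor.Fi23 (Gen)
open Cfsg.Agent.Lib.Helper28.TC

noncomputable section

theorem tRelP_blk868 : allRange (guard nn tRelP) 5 (868 * 2 ^ 5) = true := by decide +kernel
theorem tRelP_blk869 : allRange (guard nn tRelP) 5 (869 * 2 ^ 5) = true := by decide +kernel
theorem tRelP_blk870 : allRange (guard nn tRelP) 5 (870 * 2 ^ 5) = true := by decide +kernel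
theorem tRelP_blk871 : allRange (guard nn tRelP) 5 (871 * 2 ^ 5) = true := by decide +kernel
theorem tRelP_blk872 : allRange (guard nn tRelP) 5 (872 * 2 ^ 5) = true := by decide +kernel
theorem tRelP_blk873 : allRange (guard nn tRelP) 5 (873 * 2 ^ 5) = true := by decide +kernel
theorem tRelP_blk874 : allRange (guard nn tRelP) 5 (874 * 2 ^ 5) = true := by decide +kernel
theorem tRelP_blk875 : allRange (guard nn tRelP) 5 (875 * 2 ^ 5) = true := by decide +kernel
theorem tRelP_blk876 : allRange (guard nn tRelP) 5 (876 * 2 ^ 5) = true := by decide +kernel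
theorem tRelP_blk877 : allRange (guard nn tRelP) 5 (877 * 2 ^ 5) = true := by decide +kernel
theorem tRelP_blk878 : allRange (guard nn tRelP) 5 (878 * 2 ^ 5) = true := by decide +kernel
theorem tRelP_blk879 : allRange (guard nn tRelP) 5 (879 * 2 ^ 5) = true := by decide +kernel
theorem tRelP_blk880 : allRange (guard nn tRelP) 5 (880 * 2 ^ 5) = true := by decide +kernel
theorem tRelP_blk881 : allRange (guard nn tRelP) 5 (881 * 2 ^ 5) = true := by decide +kernel
theorem tRelP_blk882 : allRange (guard nn tRelP) 5 (882 * 2 ^ 5) = true := by decide +kernel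
theorem tRelP_blk883 : allRange (guard nn tRelP) 5 (883 * 2 ^ 5) = true := by decide +kernel
theorem tRelP_blk884 : allRange (guard nn tRelP) 5 (884 * 2 ^ 5) = true := by decide +kernel
theorem tRelP_blk885 : allRange (guard nn tRelP) 5 (885 * 2 ^ 5) = true := by decide +kernel
theorem tRelP_blk886 : allRange (guard nn tRelP) 5 (886 * 2 ^ 5) = true := by decide +kernel
theorem tRelP_blk887 : allRange (guard nn tRelP) 5 (887 * 2 ^ 5) = true := by decide +kernel
theorem tRelP_blk888 : allRange (guard nn tRelP) 5 (888 * 2 ^ 5) = true := by decide +kernel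
theorem tRelP_blk889 : allRange (guard nn tRelP) 5 (889 * 2 ^ 5) = true := by decide +kernel
theorem tRelP_blk890 : allRange (guard nn tRelP) 5 (890 * 2 ^ 5) = true := by decide +kernel
theorem tRelP_blk891 : allRange (guard nn tRelP) 5 (891 * 2 ^ 5) = true := by decide +kernel
theorem tRelP_blk892 : allRange (guard nn tRelP) 5 (892 * 2 ^ 5) = true := by decide +kernel
theorem tRelP_blk893 : allRange (guard nn tRelP) 5 (893 * 2 ^ 5) = true := by decide +kernel
theorem tRelP_blk894 : allRange (guard nn tRelP) 5 (894 * 2 ^ 5) = true := by decide +kernel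
theorem tRelP_blk895 : allRange (guard nn tRelP) 5 (895 * 2 ^ 5) = true := by decide +kernel
theorem tRelP_blk896 : allRange (guard nn tRelP) 5 (896 * 2 ^ 5) = true := by decide +kernel
theorem tRelP_blk897 : allRange (guard nn tRelP) 5 (897 * 2 ^ 5) = true := by decide +kernel
theorem tRelP_blk898 : allRange (guard nn tRelP) 5 (898 * 2 ^ 5) = true := by decide +kernel
theorem tRelP_blk899 : allRange (guard nn tRelP) 5 (899 * 2 ^ 5) = true := by decide +kernel
theorem tRelP_blk900 : allRange (guard nn tRelP) 5 (900 * 2 ^ 5) = true := by decide +kernel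
theorem tRelP_blk901 : allRange (guard nn tRelP) 5 (901 * 2 ^ 5) = true := by decide +kernel
theorem tRelP_blk902 : allRange (guard nn tRelP) 5 (902 * 2 ^ 5) = true := by decide +kernel
theorem tRelP_blk903 : allRange (guard nn tRelP) 5 (903 * 2 ^ 5) = true := by decide +kernel
theorem tRelP_blk904 : allRange (guard nn tRelP) 5 (904 * 2 ^ 5) = true := by decide +kernel
theorem tRelP_blk905 : allRange (guard nn tRelP) 5 (905 * 2 ^ 5) = true := by decide +kernel
theorem tRelP_blk906 : allRange (guard nn tRelP) 5 (906 * 2 ^ 5) = true := by decide +kernel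
theorem tRelP_blk907 : allRange (guard nn tRelP) 5 (907 * 2 ^ 5) = true := by decide +kernel
theorem tRelP_blk908 : allRange (guard nn tRelP) 5 (908 * 2 ^ 5) = true := by decide +kernel
theorem tRelP_blk909 : allRange (guard nn tRelP) 5 (909 * 2 ^ 5) = true := by decide +kernel
theorem tRelP_blk910 : allRange (guard nn tRelP) 5 (910 * 2 ^ 5) = true := by decide +kernel
theorem tRelP_blk911 : allRange (guard nn tRelP) 5 (911 * 2 ^ 5) = true := by decide +kernel
theorem tRelP_blk912 : allRange (guard nn tRelP) 5 (912 * 2 ^ 5) = true := by decide +kernel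
theorem tRelP_blk913 : allRange (guard nn tRelP) 5 (913 * 2 ^ 5) = true := by decide +kernel
theorem tRelP_blk914 : allRange (guard nn tRelP) 5 (914 * 2 ^ 5) = true := by decide +kernel
theorem tRelP_blk915 : allRange (guard nn tRelP) 5 (915 * 2 ^ 5) = true := by decide +kernel
theorem tRelP_blk916 : allRange (guard nn tRelP) 5 (916 * 2 ^ 5) = true := by decide +kernel
theorem tRelP_blk917 : allRange (guard nn tRelP) 5 (917 * 2 ^ 5) = true := by decide +kernel
theorem tRelP_blk918 : allRange (guard nn tRelP) 5 (918 * 2 ^ 5) = true := by decide +kernel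
theorem tRelP_blk919 : allRange (guard nn tRelP) 5 (919 * 2 ^ 5) = true := by decide +kernel
theorem tRelP_blk920 : allRange (guard nn tRelP) 5 (920 * 2 ^ 5) = true := by decide +kernel
theorem tRelP_blk921 : allRange (guard nn tRelP) 5 (921 * 2 ^ 5) = true := by decide +kernel
theorem tRelP_blk922 : allRange (guard nn tRelP) 5 (922 * 2 ^ 5) = true := by decide +kernel
theorem tRelP_blk923 : allRange (guard nn tRelP) 5 (923 * 2 ^ 5) = true := by decide +kernel
theorem tRelP_blk924 : allRange (guard nn tRelP) 5 (924 * 2 ^ 5) = true := by decide +kernel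
theorem tRelP_blk925 : allRange (guard nn tRelP) 5 (925 * 2 ^ 5) = true := by decide +kernel
theorem tRelP_blk926 : allRange (guard nn tRelP) 5 (926 * 2 ^ 5) = true := by decide +kernel
theorem tRelP_blk927 : allRange (guard nn tRelP) 5 (927 * 2 ^ 5) = true := by decide +kernel
theorem tRelP_blk928 : allRange (guard nn tRelP) 5 (928 * 2 ^ 5) = true := by decide +kernel
theorem tRelP_blk929 : allRange (guard nn tRelP) 5 (929 * 2 ^ 5) = true := by decide +kernel
theorem tRelP_blk930 : allRange (guard nn tRelP) 5 (930 * 2 ^ 5) = true := by decide +kernel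
theorem tRelP_blk931 : allRange (guard nn tRelP) 5 (931 * 2 ^ 5) = true := by decide +kernel
theorem tRelP_blk932 : allRange (guard nn tRelP) 5 (932 * 2 ^ 5) = true := by decide +kernel
theorem tRelP_blk933 : allRange (guard nn tRelP) 5 (933 * 2 ^ 5) = true := by decide +kernel
theorem tRelP_blk934 : allRange (guard nn tRelP) 5 (934 * 2 ^ 5) = true := by decide +kernel
theorem tRelP_blk935 : allRange (guard nn tRelP) 5 (935 * 2 ^ 5) = true := by decide +kernel
theorem tRelP_blk936 : allRange (guard nn tRelP) 5 (936 * 2 ^ 5) = true := by decide +kernel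
theorem tRelP_blk937 : allRange (guard nn tRelP) 5 (937 * 2 ^ 5) = true := by decide +kernel
theorem tRelP_blk938 : allRange (guard nn tRelP) 5 (938 * 2 ^ 5) = true := by decide +kernel
theorem tRelP_blk939 : allRange (guard nn tRelP) 5 (939 * 2 ^ 5) = true := by decide +kernel
theorem tRelP_blk940 : allRange (guard nn tRelP) 5 (940 * 2 ^ 5) = true := by decide +kernel
theorem tRelP_blk941 : allRange (guard nn tRelP) 5 (941 * 2 ^ 5) = true := by decide +kernel
theorem tRelP_blk942 : allRange (guard nn tRelP) 5 (942 * 2 ^ 5) = true := by decide +kernel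
theorem tRelP_blk943 : allRange (guard nn tRelP) 5 (943 * 2 ^ 5) = true := by decide +kernel
theorem tRelP_blk944 : allRange (guard nn tRelP) 5 (944 * 2 ^ 5) = true := by decide +kernel
theorem tRelP_blk945 : allRange (guard nn tRelP) 5 (945 * 2 ^ 5) = true := by decide +kernel
theorem tRelP_blk946 : allRange (guard nn tRelP) 5 (946 * 2 ^ 5) = true := by decide +kernel
theorem tRelP_blk947 : allRange (guard nn tRelP) 5 (947 * 2 ^ 5) = true := by decide +kernel
theorem tRelP_blk948 : allRange (guard nn tRelP) 5 (948 * 2 ^ 5) = true := by decide +kernel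
theorem tRelP_blk949 : allRange (guard nn tRelP) 5 (949 * 2 ^ 5) = true := by decide +kernel
theorem tRelP_blk950 : allRange (guard nn tRelP) 5 (950 * 2 ^ 5) = true := by decide +kernel
theorem tRelP_blk951 : allRange (guard nn tRelP) 5 (951 * 2 ^ 5) = true := by decide +kernel
theorem tRelP_blk952 : allRange (guard nn tRelP) 5 (952 * 2 ^ 5) = true := by decide +kernel
theorem tRelP_blk953 : allRange (guard nn tRelP) 5 (953 * 2 ^ 5) = true := by decide +kernel
theorem tRelP_blk954 : allRange (guard nn tRelP) 5 (954 * 2 ^ 5) = true := by decide +kernel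
theorem tRelP_blk955 : allRange (guard nn tRelP) 5 (955 * 2 ^ 5) = true := by decide +kernel
theorem tRelP_blk956 : allRange (guard nn tRelP) 5 (956 * 2 ^ 5) = true := by decide +kernel
theorem tRelP_blk957 : allRange (guard nn tRelP) 5 (957 * 2 ^ 5) = true := by decide +kernel
theorem tRelP_blk958 : allRange (guard nn tRelP) 5 (958 * 2 ^ 5) = true := by decide +kernel
theorem tRelP_blk959 : allRange (guard nn tRelP) 5 (959 * 2 ^ 5) = true := by decide +kernel
theorem tRelP_blk960 : allRange (guard nn tRelP) 5 (960 * 2 ^ 5) = true := by decide +kernel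
theorem tRelP_blk961 : allRange (guard nn tRelP) 5 (961 * 2 ^ 5) = true := by decide +kernel
theorem tRelP_blk962 : allRange (guard nn tRelP) 5 (962 * 2 ^ 5) = true := by decide +kernel
theorem tRelP_blk963 : allRange (guard nn tRelP) 5 (963 * 2 ^ 5) = true := by decide +kernel
theorem tRelP_blk964 : allRange (guard nn tRelP) 5 (964 * 2 ^ 5) = true := by decide +kernel
theorem tRelP_blk965 : allRange (guard nn tRelP) 5 (965 * 2 ^ 5) = true := by decide +kernel
theorem tRelP_blk966 : allRange (guard nn tRelP) 5 (966 * 2 ^ 5) = true := by decide +kernel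
theorem tRelP_blk967 : allRange (guard nn tRelP) 5 (967 * 2 ^ 5) = true := by decide +kernel
theorem tRelP_blk968 : allRange (guard nn tRelP) 5 (968 * 2 ^ 5) = true := by decide +kernel
theorem tRelP_blk969 : allRange (guard nn tRelP) 5 (969 * 2 ^ 5) = true := by decide +kernel
theorem tRelP_blk970 : allRange (guard nn tRelP) 5 (970 * 2 ^ 5) = true := by decide +kernel
theorem tRelP_blk971 : allRange (guard nn tRelP) 5 (971 * 2 ^ 5) = true := by decide +kernel
theorem tRelP_blk972 : allRange (guard nn tRelP) 5 (972 * 2 ^ 5) = true := by decide +kernel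
theorem tRelP_blk973 : allRange (guard nn tRelP) 5 (973 * 2 ^ 5) = true := by decide +kernel
theorem tRelP_blk974 : allRange (guard nn tRelP) 5 (974 * 2 ^ 5) = true := by decide +kernel
theorem tRelP_blk975 : allRange (guard nn tRelP) 5 (975 * 2 ^ 5) = true := by decide +kernel
theorem tRelP_blk976 : allRange (guard nn tRelP) 5 (976 * 2 ^ 5) = true := by decide +kernel
theorem tRelP_blk977 : allRange (guard nn tRelP) 5 (977 * 2 ^ 5) = true := by decide +kernel
theorem tRelP_blk978 : allRange (guard nn tRelP) 5 (978 * 2 ^ 5) = true := by decide +kernel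
theorem tRelP_blk979 : allRange (guard nn tRelP) 5 (979 * 2 ^ 5) = true := by decide +kernel
theorem tRelP_blk980 : allRange (guard nn tRelP) 5 (980 * 2 ^ 5) = true := by decide +kernel
theorem tRelP_blk981 : allRange (guard nn tRelP) 5 (981 * 2 ^ 5) = true := by decide +kernel
theorem tRelP_blk982 : allRange (guard nn tRelP) 5 (982 * 2 ^ 5) = true := by decide +kernel
theorem tRelP_blk983 : allRange (guard nn tRelP) 5 (983 * 2 ^ 5) = true := by decide +kernel
theorem tRelP_blk984 : allRange (guard nn tRelP) 5 (984 * 2 ^ 5) = true := by decide +kernel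
theorem tRelP_blk985 : allRange (guard nn tRelP) 5 (985 * 2 ^ 5) = true := by decide +kernel
theorem tRelP_blk986 : allRange (guard nn tRelP) 5 (986 * 2 ^ 5) = true := by decide +kernel
theorem tRelP_blk987 : allRange (guard nn tRelP) 5 (987 * 2 ^ 5) = true := by decide +kernel
theorem tRelP_blk988 : allRange (guard nn tRelP) 5 (988 * 2 ^ 5) = true := by decide +kernel
theorem tRelP_blk989 : allRange (guard nn tRelP) 5 (989 * 2 ^ 5) = true := by decide +kernel

end

end Cfsg.Agent.Lib.Helper28.Fi23x31671
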