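import Cfsg.Agent.Lib.Helper28.Fi23Ord.TRelB0
import Cfsg.Agent.Lib.Helper28.Fi23Ord.TRelB1
import Cfsg.Agent.Lib.Helper28.Fi23Ord.TRelB2
import Cfsg.Agent.Lib.Helper28.Fi23Ord.TRelB3
import Cfsg.Agent.Lib.Helper28.Fi23Ord.TRelB4
import Cfsg.Agent.Lib.Helper28.Fi23Ord.TRelB5
import Cfsg.Agent.Lib.Helper28.Fi23Ord.TRelB6
import Cfsg.Agent.Lib.Helper28.Fi23Ord.TRelB7

set_option autoImplicit false
set_option linter.unusedVariables false
set_option Elab.async false

namespace Cfsg.Agent.Lib.Helper28.Fi23x31671

open Cfsg.Spor.Fi23 (Gen)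
open Cfsg.Agent.Lib.Helper28.TC

noncomputable section

theorem tRelP_all : ∀ i, i < nn → tRelP i = true := by
  refine all_of_blocks nn tRelP 5 990 (by decide) ?_
  intro k hk
  interval_cases k
  · exact tRelP_blk0
  · exact tRelP_blk1
  · exact tRelP_blk2
  · exact tRelP_blk3
  · exact tRelP_blk4
  · exact tRelP_blk5
  · exact tRelP_blk6
  · exact tRelP_blk7
  · exact tRelP_blk8
  · exact tRelP_blk9
  · exact tRelP_blk10
  · exact tRelP_blk11
  · exact tRelP_blk12
  · exact tRelP_blk13
  · exact tRelP_blk14
  · exact tRelP_blk15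
  · exact tRelP_blk16
  · exact tRelP_blk17
  · exact tRelP_blk18
  · exact tRelP_blk19
  · exact tRelP_blk20
  · exact tRelP_blk21
  · exact tRelP_blk22
  · exact tRelP_blk23
  · exact tRelP_blk24
  · exact tRelP_blk25
  · exact tRelP_blk26
  · exact tRelP_blk27
  · exact tRelP_blk28
  · exact tRelP_blk29
  · exact tRelP_blk30
  · exact tRelP_blk31
  · exact tRelP_blk32
  · exact tRelP_blk33
  · exact tRelP_blk34
  · exact tRelP_blk35
  · exact tRelP_blk36
  · exact tRelP_blk37
  · exact tRelP_blk38
  · exact tRelP_blk39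
  · exact tRelP_blk40
  · exact tRelP_blk41
  · exact tRelP_blk42
  · exact tRelP_blk43
  · exact tRelP_blk44
  · exact tRelP_blk45
  · exact tRelP_blk46
  · exact tRelP_blk47
  · exact tRelP_blk48
  · exact tRelP_blk49
  · exact tRelP_blk50
  · exact tRelP_blk51
  · exact tRelP_blk52
  · exact tRelP_blk53
  · exact tRelP_blk54
  · exact tRelP_blk55
  · exact tRelP_blk56
  · exact tRelP_blk57
  · exact tRelP_blk58
  · exact tRelP_blk59
  · exact tRelP_blk60
  · exact tRelP_blk61
  · exact tRelP_blk62
  · exact tRelP_blk63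
  · exact tRelP_blk64
  · exact tRelP_blk65
  · exact tRelP_blk66
  · exact tRelP_blk67
  · exact tRelP_blk68
  · exact tRelP_blk69
  · exact tRelP_blk70
  · exact tRelP_blk71
  · exact tRelP_blk72
  · exact tRelP_blk73
  · exact tRelP_blk74
  · exact tRelP_blk75
  · exact tRelP_blk76
  · exact tRelP_blk77
  · exact tRelP_blk78
  · exact tRelP_blk79
  · exact tRelP_blk80
  · exact tRelP_blk81
  · exact tRelP_blk82
  · exact tRelP_blk83
  · exact tRelP_blk84
  · exact tRelP_blk85
  · exact tRelP_blk86
  · exact tRelP_blk87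
  · exact tRelP_blk88
  · exact tRelP_blk89
  · exact tRelP_blk90
  · exact tRelP_blk91
  · exact tRelP_blk92
  · exact tRelP_blk93
  · exact tRelP_blk94
  · exact tRelP_blk95
  · exact tRelP_blk96
  · exact tRelP_blk97
  · exact tRelP_blk98
  · exact tRelP_blk99
  · exact tRelP_blk100
  · exact tRelP_blk101
  · exact tRelP_blk102
  · exact tRelP_blk103
  · exact tRelP_blk104
  · exact tRelP_blk105
  · exact tRelP_blk106
  · exact tRelP_blk107
  · exact tRelP_blk108
  · exact tRelP_blk109
  · exact tRelP_blk110
  · exact tRelP_blk111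
  · exact tRelP_blk112
  · exact tRelP_blk113
  · exact tRelP_blk114
  · exact tRelP_blk115
  · exact tRelP_blk116
  · exact tRelP_blk117
  · exact tRelP_blk118
  · exact tRelP_blk119
  · exact tRelP_blk120
  · exact tRelP_blk121
  · exact tRelP_blk122
  · exact tRelP_blk123
  · exact tRelP_blk124
  · exact tRelP_blk125
  · exact tRelP_blk126
  · exact tRelP_blk127
  · exact tRelP_blk128
  · exact tRelP_blk129
  · exact tRelP_blk130
  · exact tRelP_blk131
  · exact tRelP_blk132
  · exact tRelP_blk133
  · exact tRelP_blk134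
  · exact tRelP_blk135
  · exact tRelP_blk136
  · exact tRelP_blk137
  · exact tRelP_blk138
  · exact tRelP_blk139
  · exact tRelP_blk140
  · exact tRelP_blk141
  · exact tRelP_blk142
  · exact tRelP_blk143
  · exact tRelP_blk144
  · exact tRelP_blk145
  · exact tRelP_blk146
  · exact tRelP_blk147
  · exact tRelP_blk148
  · exact tRelP_blk149
  · exact tRelP_blk150
  · exact tRelP_blk151
  · exact tRelP_blk152
  · exact tRelP_blk153
  · exact tRelP_blk154
  · exact tRelP_blk155
  · exact tRelP_blk156
  · exact tRelP_blk157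
  · exact tRelP_blk158
  · exact tRelP_blk159
  · exact tRelP_blk160
  · exact tRelP_blk161
  · exact tRelP_blk162
  · exact tRelP_blk163
  · exact tRelP_blk164
  · exact tRelP_blk165
  · exact tRelP_blk166
  · exact tRelP_blk167
  · exact tRelP_blk168
  · exact tRelP_blk169
  · exact tRelP_blk170
  · exact tRelP_blk171
  · exact tRelP_blk172
  · exact tRelP_blk173
  · exact tRelP_blk174
  · exact tRelP_blk175
  · exact tRelP_blk176
  · exact tRelP_blk177
  · exact tRelP_blk178
  · exact tRelP_blk179
  · exact tRelP_blk180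
  · exact tRelP_blk181
  · exact tRelP_blk182
  · exact tRelP_blk183
  · exact tRelP_blk184
  · exact tRelP_blk185
  · exact tRelP_blk186
  · exact tRelP_blk187
  · exact tRelP_blk188
  · exact tRelP_blk189
  · exact tRelP_blk190
  · exact tRelP_blk191
  · exact tRelP_blk192
  · exact tRelP_blk193
  · exact tRelP_blk194
  · exact tRelP_blk195
  · exact tRelP_blk196
  · exact tRelP_blk197
  · exact tRelP_blk198
  · exact tRelP_blk199
  · exact tRelP_blk200
  · exact tRelP_blk201
  · exact tRelP_blk202
  · exact tRelP_blk203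
  · exact tRelP_blk204
  · exact tRelP_blk205
  · exact tRelP_blk206
  · exact tRelP_blk207
  · exact tRelP_blk208
  · exact tRelP_blk209
  · exact tRelP_blk210
  · exact tRelP_blk211
  · exact tRelP_blk212
  · exact tRelP_blk213
  · exact tRelP_blk214
  · exact tRelP_blk215
  · exact tRelP_blk216
  · exact tRelP_blk217
  · exact tRelP_blk218
  · exact tRelP_blk219
  · exact tRelP_blk220
  · exact tRelP_blk221
  · exact tRelP_blk222
  · exact tRelP_blk223
  · exact tRelP_blk224
  · exact tRelP_blk225
  · exact tRelP_blk226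
  · exact tRelP_blk227
  · exact tRelP_blk228
  · exact tRelP_blk229
  · exact tRelP_blk230
  · exact tRelP_blk231
  · exact tRelP_blk232
  · exact tRelP_blk233
  · exact tRelP_blk234
  · exact tRelP_blk235
  · exact tRelP_blk236
  · exact tRelP_blk237
  · exact tRelP_blk238
  · exact tRelP_blk239
  · exact tRelP_blk240
  · exact tRelP_blk241
  · exact tRelP_blk242
  · exact tRelP_blk243
  · exact tRelP_blk244
  · exact tRelP_blk245
  · exact tRelP_blk246
  · exact tRelP_blk247
  · exact tRelP_blk248
  · exact tRelP_blk249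
  · exact tRelP_blk250
  · exact tRelP_blk251
  · exact tRelP_blk252
  · exact tRelP_blk253
  · exact tRelP_blk254
  · exact tRelP_blk255
  · exact tRelP_blk256
  · exact tRelP_blk257
  · exact tRelP_blk258
  · exact tRelP_blk259
  · exact tRelP_blk260
  · exact tRelP_blk261
  · exact tRelP_blk262
  · exact tRelP_blk263
  · exact tRelP_blk264
  · exact tRelP_blk265
  · exact tRelP_blk266
  · exact tRelP_blk267
  · exact tRelP_blk268
  · exact tRelP_blk269
  · exact tRelP_blk270
  · exact tRelP_blk271
  · exact tRelP_blk272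
  · exact tRelP_blk273
  · exact tRelP_blk274
  · exact tRelP_blk275
  · exact tRelP_blk276
  · exact tRelP_blk277
  · exact tRelP_blk278
  · exact tRelP_blk279
  · exact tRelP_blk280
  · exact tRelP_blk281
  · exact tRelP_blk282
  · exact tRelP_blk283
  · exact tRelP_blk284
  · exact tRelP_blk285
  · exact tRelP_blk286
  · exact tRelP_blk287
  · exact tRelP_blk288
  · exact tRelP_blk289
  · exact tRelP_blk290
  · exact tRelP_blk291
  · exact tRelP_blk292
  · exact tRelP_blk293
  · exact tRelP_blk294
  · exact tRelP_blk295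
  · exact tRelP_blk296
  · exact tRelP_blk297
  · exact tRelP_blk298
  · exact tRelP_blk299
  · exact tRelP_blk300
  · exact tRelP_blk301
  · exact tRelP_blk302
  · exact tRelP_blk303
  · exact tRelP_blk304
  · exact tRelP_blk305
  · exact tRelP_blk306
  · exact tRelP_blk307
  · exact tRelP_blk308
  · exact tRelP_blk309
  · exact tRelP_blk310
  · exact tRelP_blk311
  · exact tRelP_blk312
  · exact tRelP_blk313
  · exact tRelP_blk314
  · exact tRelP_blk315
  · exact tRelP_blk316
  · exact tRelP_blk317
  · exact tRelP_blk318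
  · exact tRelP_blk319
  · exact tRelP_blk320
  · exact tRelP_blk321
  · exact tRelP_blk322
  · exact tRelP_blk323
  · exact tRelP_blk324
  · exact tRelP_blk325
  · exact tRelP_blk326
  · exact tRelP_blk327
  · exact tRelP_blk328
  · exact tRelP_blk329
  · exact tRelP_blk330
  · exact tRelP_blk331
  · exact tRelP_blk332
  · exact tRelP_blk333
  · exact tRelP_blk334
  · exact tRelP_blk335
  · exact tRelP_blk336
  · exact tRelP_blk337
  · exact tRelP_blk338
  · exact tRelP_blk339
  · exact tRelP_blk340
  · exact tRelP_blk341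
  · exact tRelP_blk342
  · exact tRelP_blk343
  · exact tRelP_blk344
  · exact tRelP_blk345
  · exact tRelP_blk346
  · exact tRelP_blk347
  · exact tRelP_blk348
  · exact tRelP_blk349
  · exact tRelP_blk350
  · exact tRelP_blk351
  · exact tRelP_blk352
  · exact tRelP_blk353
  · exact tRelP_blk354
  · exact tRelP_blk355
  · exact tRelP_blk356
  · exact tRelP_blk357
  · exact tRelP_blk358
  · exact tRelP_blk359
  · exact tRelP_blk360
  · exact tRelP_blk361
  · exact tRelP_blk362
  · exact tRelP_blk363
  · exact tRelP_blk364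
  · exact tRelP_blk365
  · exact tRelP_blk366
  · exact tRelP_blk367
  · exact tRelP_blk368
  · exact tRelP_blk369
  · exact tRelP_blk370
  · exact tRelP_blk371
  · exact tRelP_blk372
  · exact tRelP_blk373
  · exact tRelP_blk374
  · exact tRelP_blk375
  · exact tRelP_blk376
  · exact tRelP_blk377
  · exact tRelP_blk378
  · exact tRelP_blk379
  · exact tRelP_blk380
  · exact tRelP_blk381
  · exact tRelP_blk382
  · exact tRelP_blk383
  · exact tRelP_blk384
  · exact tRelP_blk385
  · exact tRelP_blk386
  · exact tRelP_blk387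
  · exact tRelP_blk388
  · exact tRelP_blk389
  · exact tRelP_blk390
  · exact tRelP_blk391
  · exact tRelP_blk392
  · exact tRelP_blk393
  · exact tRelP_blk394
  · exact tRelP_blk395
  · exact tRelP_blk396
  · exact tRelP_blk397
  · exact tRelP_blk398
  · exact tRelP_blk399
  · exact tRelP_blk400
  · exact tRelP_blk401
  · exact tRelP_blk402
  · exact tRelP_blk403
  · exact tRelP_blk404
  · exact tRelP_blk405
  · exact tRelP_blk406
  · exact tRelP_blk407
  · exact tRelP_blk408
  · exact tRelP_blk409
  · exact tRelP_blk410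
  · exact tRelP_blk411
  · exact tRelP_blk412
  · exact tRelP_blk413
  · exact tRelP_blk414
  · exact tRelP_blk415
  · exact tRelP_blk416
  · exact tRelP_blk417
  · exact tRelP_blk418
  · exact tRelP_blk419
  · exact tRelP_blk420
  · exact tRelP_blk421
  · exact tRelP_blk422
  · exact tRelP_blk423
  · exact tRelP_blk424
  · exact tRelP_blk425
  · exact tRelP_blk426
  · exact tRelP_blk427
  · exact tRelP_blk428
  · exact tRelP_blk429
  · exact tRelP_blk430
  · exact tRelP_blk431
  · exact tRelP_blk432
  · exact tRelP_blk433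
  · exact tRelP_blk434
  · exact tRelP_blk435
  · exact tRelP_blk436
  · exact tRelP_blk437
  · exact tRelP_blk438
  · exact tRelP_blk439
  · exact tRelP_blk440
  · exact tRelP_blk441
  · exact tRelP_blk442
  · exact tRelP_blk443
  · exact tRelP_blk444
  · exact tRelP_blk445
  · exact tRelP_blk446
  · exact tRelP_blk447
  · exact tRelP_blk448
  · exact tRelP_blk449
  · exact tRelP_blk450
  · exact tRelP_blk451
  · exact tRelP_blk452
  · exact tRelP_blk453
  · exact tRelP_blk454
  · exact tRelP_blk455
  · exact tRelP_blk456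
  · exact tRelP_blk457
  · exact tRelP_blk458
  · exact tRelP_blk459
  · exact tRelP_blk460
  · exact tRelP_blk461
  · exact tRelP_blk462
  · exact tRelP_blk463
  · exact tRelP_blk464
  · exact tRelP_blk465
  · exact tRelP_blk466
  · exact tRelP_blk467
  · exact tRelP_blk468
  · exact tRelP_blk469
  · exact tRelP_blk470
  · exact tRelP_blk471
  · exact tRelP_blk472
  · exact tRelP_blk473
  · exact tRelP_blk474
  · exact tRelP_blk475
  · exact tRelP_blk476
  · exact tRelP_blk477
  · exact tRelP_blk478
  · exact tRelP_blk479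
  · exact tRelP_blk480
  · exact tRelP_blk481
  · exact tRelP_blk482
  · exact tRelP_blk483
  · exact tRelP_blk484
  · exact tRelP_blk485
  · exact tRelP_blk486
  · exact tRelP_blk487
  · exact tRelP_blk488
  · exact tRelP_blk489
  · exact tRelP_blk490
  · exact tRelP_blk491
  · exact tRelP_blk492
  · exact tRelP_blk493
  · exact tRelP_blk494
  · exact tRelP_blk495
  · exact tRelP_blk496
  · exact tRelP_blk497
  · exact tRelP_blk498
  · exact tRelP_blk499
  · exact tRelP_blk500
  · exact tRelP_blk501
  · exact tRelP_blk502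
  · exact tRelP_blk503
  · exact tRelP_blk504
  · exact tRelP_blk505
  · exact tRelP_blk506
  · exact tRelP_blk507
  · exact tRelP_blk508
  · exact tRelP_blk509
  · exact tRelP_blk510
  · exact tRelP_blk511
  · exact tRelP_blk512
  · exact tRelP_blk513
  · exact tRelP_blk514
  · exact tRelP_blk515
  · exact tRelP_blk516
  · exact tRelP_blk517
  · exact tRelP_blk518
  · exact tRelP_blk519
  · exact tRelP_blk520
  · exact tRelP_blk521
  · exact tRelP_blk522
  · exact tRelP_blk523
  · exact tRelP_blk524
  · exact tRelP_blk525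
  · exact tRelP_blk526
  · exact tRelP_blk527
  · exact tRelP_blk528
  · exact tRelP_blk529
  · exact tRelP_blk530
  · exact tRelP_blk531
  · exact tRelP_blk532
  · exact tRelP_blk533
  · exact tRelP_blk534
  · exact tRelP_blk535
  · exact tRelP_blk536
  · exact tRelP_blk537
  · exact tRelP_blk538
  · exact tRelP_blk539
  · exact tRelP_blk540
  · exact tRelP_blk541
  · exact tRelP_blk542
  · exact tRelP_blk543
  · exact tRelP_blk544
  · exact tRelP_blk545
  · exact tRelP_blk546
  · exact tRelP_blk547
  · exact tRelP_blk548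
  · exact tRelP_blk549
  · exact tRelP_blk550
  · exact tRelP_blk551
  · exact tRelP_blk552
  · exact tRelP_blk553
  · exact tRelP_blk554
  · exact tRelP_blk555
  · exact tRelP_blk556
  · exact tRelP_blk557
  · exact tRelP_blk558
  · exact tRelP_blk559
  · exact tRelP_blk560
  · exact tRelP_blk561
  · exact tRelP_blk562
  · exact tRelP_blk563
  · exact tRelP_blk564
  · exact tRelP_blk565
  · exact tRelP_blk566
  · exact tRelP_blk567
  · exact tRelP_blk568
  · exact tRelP_blk569
  · exact tRelP_blk570
  · exact tRelP_blk571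
  · exact tRelP_blk572
  · exact tRelP_blk573
  · exact tRelP_blk574
  · exact tRelP_blk575
  · exact tRelP_blk576
  · exact tRelP_blk577
  · exact tRelP_blk578
  · exact tRelP_blk579
  · exact tRelP_blk580
  · exact tRelP_blk581
  · exact tRelP_blk582
  · exact tRelP_blk583
  · exact tRelP_blk584
  · exact tRelP_blk585
  · exact tRelP_blk586
  · exact tRelP_blk587
  · exact tRelP_blk588
  · exact tRelP_blk589
  · exact tRelP_blk590
  · exact tRelP_blk591
  · exact tRelP_blk592
  · exact tRelP_blk593
  · exact tRelP_blk594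
  · exact tRelP_blk595
  · exact tRelP_blk596
  · exact tRelP_blk597
  · exact tRelP_blk598
  · exact tRelP_blk599
  · exact tRelP_blk600
  · exact tRelP_blk601
  · exact tRelP_blk602
  · exact tRelP_blk603
  · exact tRelP_blk604
  · exact tRelP_blk605
  · exact tRelP_blk606
  · exact tRelP_blk607
  · exact tRelP_blk608
  · exact tRelP_blk609
  · exact tRelP_blk610
  · exact tRelP_blk611
  · exact tRelP_blk612
  · exact tRelP_blk613
  · exact tRelP_blk614
  · exact tRelP_blk615
  · exact tRelP_blk616
  · exact tRelP_blk617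
  · exact tRelP_blk618
  · exact tRelP_blk619
  · exact tRelP_blk620
  · exact tRelP_blk621
  · exact tRelP_blk622
  · exact tRelP_blk623
  · exact tRelP_blk624
  · exact tRelP_blk625
  · exact tRelP_blk626
  · exact tRelP_blk627
  · exact tRelP_blk628
  · exact tRelP_blk629
  · exact tRelP_blk630
  · exact tRelP_blk631
  · exact tRelP_blk632
  · exact tRelP_blk633
  · exact tRelP_blk634
  · exact tRelP_blk635
  · exact tRelP_blk636
  · exact tRelP_blk637
  · exact tRelP_blk638
  · exact tRelP_blk639
  · exact tRelP_blk640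
  · exact tRelP_blk641
  · exact tRelP_blk642
  · exact tRelP_blk643
  · exact tRelP_blk644
  · exact tRelP_blk645
  · exact tRelP_blk646
  · exact tRelP_blk647
  · exact tRelP_blk648
  · exact tRelP_blk649
  · exact tRelP_blk650
  · exact tRelP_blk651
  · exact tRelP_blk652
  · exact tRelP_blk653
  · exact tRelP_blk654
  · exact tRelP_blk655
  · exact tRelP_blk656
  · exact tRelP_blk657
  · exact tRelP_blk658
  · exact tRelP_blk659
  · exact tRelP_blk660
  · exact tRelP_blk661
  · exact tRelP_blk662
  · exact tRelP_blk663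
  · exact tRelP_blk664
  · exact tRelP_blk665
  · exact tRelP_blk666
  · exact tRelP_blk667
  · exact tRelP_blk668
  · exact tRelP_blk669
  · exact tRelP_blk670
  · exact tRelP_blk671
  · exact tRelP_blk672
  · exact tRelP_blk673
  · exact tRelP_blk674
  · exact tRelP_blk675
  · exact tRelP_blk676
  · exact tRelP_blk677
  · exact tRelP_blk678
  · exact tRelP_blk679
  · exact tRelP_blk680
  · exact tRelP_blk681
  · exact tRelP_blk682
  · exact tRelP_blk683
  · exact tRelP_blk684
  · exact tRelP_blk685
  · exact tRelP_blk686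
  · exact tRelP_blk687
  · exact tRelP_blk688
  · exact tRelP_blk689
  · exact tRelP_blk690
  · exact tRelP_blk691
  · exact tRelP_blk692
  · exact tRelP_blk693
  · exact tRelP_blk694
  · exact tRelP_blk695
  · exact tRelP_blk696
  · exact tRelP_blk697
  · exact tRelP_blk698
  · exact tRelP_blk699
  · exact tRelP_blk700
  · exact tRelP_blk701
  · exact tRelP_blk702
  · exact tRelP_blk703
  · exact tRelP_blk704
  · exact tRelP_blk705
  · exact tRelP_blk706
  · exact tRelP_blk707
  · exact tRelP_blk708
  · exact tRelP_blk709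
  · exact tRelP_blk710
  · exact tRelP_blk711
  · exact tRelP_blk712
  · exact tRelP_blk713
  · exact tRelP_blk714
  · exact tRelP_blk715
  · exact tRelP_blk716
  · exact tRelP_blk717
  · exact tRelP_blk718
  · exact tRelP_blk719
  · exact tRelP_blk720
  · exact tRelP_blk721
  · exact tRelP_blk722
  · exact tRelP_blk723
  · exact tRelP_blk724
  · exact tRelP_blk725
  · exact tRelP_blk726
  · exact tRelP_blk727
  · exact tRelP_blk728
  · exact tRelP_blk729
  · exact tRelP_blk730
  · exact tRelP_blk731
  · exact tRelP_blk732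
  · exact tRelP_blk733
  · exact tRelP_blk734
  · exact tRelP_blk735
  · exact tRelP_blk736
  · exact tRelP_blk737
  · exact tRelP_blk738
  · exact tRelP_blk739
  · exact tRelP_blk740
  · exact tRelP_blk741
  · exact tRelP_blk742
  · exact tRelP_blk743
  · exact tRelP_blk744
  · exact tRelP_blk745
  · exact tRelP_blk746
  · exact tRelP_blk747
  · exact tRelP_blk748
  · exact tRelP_blk749
  · exact tRelP_blk750
  · exact tRelP_blk751
  · exact tRelP_blk752
  · exact tRelP_blk753
  · exact tRelP_blk754
  · exact tRelP_blk755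
  · exact tRelP_blk756
  · exact tRelP_blk757
  · exact tRelP_blk758
  · exact tRelP_blk759
  · exact tRelP_blk760
  · exact tRelP_blk761
  · exact tRelP_blk762
  · exact tRelP_blk763
  · exact tRelP_blk764
  · exact tRelP_blk765
  · exact tRelP_blk766
  · exact tRelP_blk767
  · exact tRelP_blk768
  · exact tRelP_blk769
  · exact tRelP_blk770
  · exact tRelP_blk771
  · exact tRelP_blk772
  · exact tRelP_blk773
  · exact tRelP_blk774
  · exact tRelP_blk775
  · exact tRelP_blk776
  · exact tRelP_blk777
  · exact tRelP_blk778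
  · exact tRelP_blk779
  · exact tRelP_blk780
  · exact tRelP_blk781
  · exact tRelP_blk782
  · exact tRelP_blk783
  · exact tRelP_blk784
  · exact tRelP_blk785
  · exact tRelP_blk786
  · exact tRelP_blk787
  · exact tRelP_blk788
  · exact tRelP_blk789
  · exact tRelP_blk790
  · exact tRelP_blk791
  · exact tRelP_blk792
  · exact tRelP_blk793
  · exact tRelP_blk794
  · exact tRelP_blk795
  · exact tRelP_blk796
  · exact tRelP_blk797
  · exact tRelP_blk798
  · exact tRelP_blk799
  · exact tRelP_blk800
  · exact tRelP_blk801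
  · exact tRelP_blk802
  · exact tRelP_blk803
  · exact tRelP_blk804
  · exact tRelP_blk805
  · exact tRelP_blk806
  · exact tRelP_blk807
  · exact tRelP_blk808
  · exact tRelP_blk809
  · exact tRelP_blk810
  · exact tRelP_blk811
  · exact tRelP_blk812
  · exact tRelP_blk813
  · exact tRelP_blk814
  · exact tRelP_blk815
  · exact tRelP_blk816
  · exact tRelP_blk817
  · exact tRelP_blk818
  · exact tRelP_blk819
  · exact tRelP_blk820
  · exact tRelP_blk821
  · exact tRelP_blk822
  · exact tRelP_blk823
  · exact tRelP_blk824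
  · exact tRelP_blk825
  · exact tRelP_blk826
  · exact tRelP_blk827
  · exact tRelP_blk828
  · exact tRelP_blk829
  · exact tRelP_blk830
  · exact tRelP_blk831
  · exact tRelP_blk832
  · exact tRelP_blk833
  · exact tRelP_blk834
  · exact tRelP_blk835
  · exact tRelP_blk836
  · exact tRelP_blk837
  · exact tRelP_blk838
  · exact tRelP_blk839
  · exact tRelP_blk840
  · exact tRelP_blk841
  · exact tRelP_blk842
  · exact tRelP_blk843
  · exact tRelP_blk844
  · exact tRelP_blk845
  · exact tRelP_blk846
  · exact tRelP_blk847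
  · exact tRelP_blk848
  · exact tRelP_blk849
  · exact tRelP_blk850
  · exact tRelP_blk851
  · exact tRelP_blk852
  · exact tRelP_blk853
  · exact tRelP_blk854
  · exact tRelP_blk855
  · exact tRelP_blk856
  · exact tRelP_blk857
  · exact tRelP_blk858
  · exact tRelP_blk859
  · exact tRelP_blk860
  · exact tRelP_blk861
  · exact tRelP_blk862
  · exact tRelP_blk863
  · exact tRelP_blk864
  · exact tRelP_blk865
  · exact tRelP_blk866
  · exact tRelP_blk867
  · exact tRelP_blk868
  · exact tRelP_blk869
  · exact tRelP_blk870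
  · exact tRelP_blk871
  · exact tRelP_blk872
  · exact tRelP_blk873
  · exact tRelP_blk874
  · exact tRelP_blk875
  · exact tRelP_blk876
  · exact tRelP_blk877
  · exact tRelP_blk878
  · exact tRelP_blk879
  · exact tRelP_blk880
  · exact tRelP_blk881
  · exact tRelP_blk882
  · exact tRelP_blk883
  · exact tRelP_blk884
  · exact tRelP_blk885
  · exact tRelP_blk886
  · exact tRelP_blk887
  · exact tRelP_blk888
  · exact tRelP_blk889
  · exact tRelP_blk890
  · exact tRelP_blk891
  · exact tRelP_blk892
  · exact tRelP_blk893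
  · exact tRelP_blk894
  · exact tRelP_blk895
  · exact tRelP_blk896
  · exact tRelP_blk897
  · exact tRelP_blk898
  · exact tRelP_blk899
  · exact tRelP_blk900
  · exact tRelP_blk901
  · exact tRelP_blk902
  · exact tRelP_blk903
  · exact tRelP_blk904
  · exact tRelP_blk905
  · exact tRelP_blk906
  · exact tRelP_blk907
  · exact tRelP_blk908
  · exact tRelP_blk909
  · exact tRelP_blk910
  · exact tRelP_blk911
  · exact tRelP_blk912
  · exact tRelP_blk913
  · exact tRelP_blk914
  · exact tRelP_blk915
  · exact tRelP_blk916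
  · exact tRelP_blk917
  · exact tRelP_blk918
  · exact tRelP_blk919
  · exact tRelP_blk920
  · exact tRelP_blk921
  · exact tRelP_blk922
  · exact tRelP_blk923
  · exact tRelP_blk924
  · exact tRelP_blk925
  · exact tRelP_blk926
  · exact tRelP_blk927
  · exact tRelP_blk928
  · exact tRelP_blk929
  · exact tRelP_blk930
  · exact tRelP_blk931
  · exact tRelP_blk932
  · exact tRelP_blk933
  · exact tRelP_blk934
  · exact tRelP_blk935
  · exact tRelP_blk936
  · exact tRelP_blk937
  · exact tRelP_blk938
  · exact tRelP_blk939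
  · exact tRelP_blk940
  · exact tRelP_blk941
  · exact tRelP_blk942
  · exact tRelP_blk943
  · exact tRelP_blk944
  · exact tRelP_blk945
  · exact tRelP_blk946
  · exact tRelP_blk947
  · exact tRelP_blk948
  · exact tRelP_blk949
  · exact tRelP_blk950
  · exact tRelP_blk951
  · exact tRelP_blk952
  · exact tRelP_blk953
  · exact tRelP_blk954
  · exact tRelP_blk955
  · exact tRelP_blk956
  · exact tRelP_blk957
  · exact tRelP_blk958
  · exact tRelP_blk959
  · exact tRelP_blk960
  · exact tRelP_blk961
  · exact tRelP_blk962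
  · exact tRelP_blk963
  · exact tRelP_blk964
  · exact tRelP_blk965
  · exact tRelP_blk966
  · exact tRelP_blk967
  · exact tRelP_blk968
  · exact tRelP_blk969
  · exact tRelP_blk970
  · exact tRelP_blk971
  · exact tRelP_blk972
  · exact tRelP_blk973
  · exact tRelP_blk974
  · exact tRelP_blk975
  · exact tRelP_blk976
  · exact tRelP_blk977
  · exact tRelP_blk978
  · exact tRelP_blk979
  · exact tRelP_blk980
  · exact tRelP_blk981
  · exact tRelP_blk982
  · exact tRelP_blk983
  · exact tRelP_blk984
  · exact tRelP_blk985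
  · exact tRelP_blk986
  · exact tRelP_blk987
  · exact tRelP_blk988
  · exact tRelP_blk989

end

end Cfsg.Agent.Lib.Helper28.Fi23x31671
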