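import Cfsg.Agent.Lib.Helper28.Fi23x31671.Defs
import Cfsg.Agent.Lib.Helper28.TCOrbit

set_option autoImplicit false
set_option linter.unusedVariables false
set_option Elab.async false

namespace Cfsg.Agent.Lib.Helper28.Fi23x31671

open Cfsg.Spor.Fi23 (Gen)
open Cfsg.Agent.Lib.Helper28.TC

noncomputable section

/-- the word `(b c d e f g h)^9` followed by the word of `t` -/
def ztRel : List (List Gen) := [
  [Gen.b, Gen.c, Gen.d, Gen.e, Gen.f, Gen.g, Gen.h, Gen.b, Gen.c, Gen.d, Gen.e, Gen.f, Gen.g, Gen.h, Gen.b, Gen.c, Gen.d, Gen.e, Gen.f, Gen.g, Gen.h, Gen.b, Gen.c, Gen.d, Gen.e, Gen.f, Gen.g, Gen.h, Gen.b, Gen.c, Gen.d, Gen.e, Gen.f, Gen.g, Gen.h, Gen.b, Gen.c, Gen.d, Gen.e, Gen.f, Gen.g, Gen.h, Gen.b, Gen.c, Gen.d, Gen.e, Gen.f, Gen.g, Gen.h, Gen.b, Gen.c, Gen.d, Gen.e, Gen.f, Gen.g, Gen.h, Gen.b, Gen.c, Gen.d, Gen.e, Gen.f, Gen.g, Gen.h, Gen.j, Gen.g, Gen.f, Gen.e, Gen.d, Gen.c, Gen.b, Gen.h, Gen.d, Gen.c, Gen.e, Gen.d, Gen.f, Gen.e, Gen.g, Gen.f, Gen.j, Gen.g, Gen.h, Gen.d, Gen.c, Gen.b, Gen.e, Gen.d, Gen.c,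 Gen.f, Gen.e, Gen.h, Gen.d, Gen.h, Gen.e, Gen.f, Gen.c, Gen.d, Gen.e, Gen.b, Gen.c, Gen.d, Gen.h, Gen.g, Gen.j, Gen.f, Gen.g, Gen.e, Gen.f, Gen.d, Gen.e, Gen.c, Gen.d, Gen.h, Gen.b, Gen.c, Gen.d, Gen.e, Gen.f, Gen.g, Gen.j]]
def ztRelP (i : ℕ) : Bool := relRowOK tf ztRel i
theorem ztRelP_blk0 : allRange (guard nn ztRelP) 6 (0 * 2 ^ 6) = true := by decide +kernel
theorem ztRelP_blk1 : allRange (guard nn ztRelP) 6 (1 * 2 ^ 6) = true := by decide +kernel
theorem ztRelP_blk2 : allRange (guard nn ztRelP) 6 (2 * 2 ^ 6) = true := by decide +kernel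
theorem ztRelP_blk3 : allRange (guard nn ztRelP) 6 (3 * 2 ^ 6) = true := by decide +kernel
theorem ztRelP_blk4 : allRange (guard nn ztRelP) 6 (4 * 2 ^ 6) = true := by decide +kernel
theorem ztRelP_blk5 : allRange (guard nn ztRelP) 6 (5 * 2 ^ 6) = true := by decide +kernel
theorem ztRelP_blk6 : allRange (guard nn ztRelP) 6 (6 * 2 ^ 6) = true := by decide +kernel
theorem ztRelP_blk7 : allRange (guard nn ztRelP) 6 (7 * 2 ^ 6) = true := by decide +kernel
theorem ztRelP_blk8 : allRange (guard nn ztRelP) 6 (8 * 2 ^ 6) = true := by decide +kernel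
theorem ztRelP_blk9 : allRange (guard nn ztRelP) 6 (9 * 2 ^ 6) = true := by decide +kernel
theorem ztRelP_blk10 : allRange (guard nn ztRelP) 6 (10 * 2 ^ 6) = true := by decide +kernel
theorem ztRelP_blk11 : allRange (guard nn ztRelP) 6 (11 * 2 ^ 6) = true := by decide +kernel
theorem ztRelP_blk12 : allRange (guard nn ztRelP) 6 (12 * 2 ^ 6) = true := by decide +kernel
theorem ztRelP_blk13 : allRange (guard nn ztRelP) 6 (13 * 2 ^ 6) = true := by decide +kernel
theorem ztRelP_blk14 : allRange (guard nn ztRelP) 6 (14 * 2 ^ 6) = true := by decide +kernel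
theorem ztRelP_blk15 : allRange (guard nn ztRelP) 6 (15 * 2 ^ 6) = true := by decide +kernel
theorem ztRelP_blk16 : allRange (guard nn ztRelP) 6 (16 * 2 ^ 6) = true := by decide +kernel
theorem ztRelP_blk17 : allRange (guard nn ztRelP) 6 (17 * 2 ^ 6) = true := by decide +kernel
theorem ztRelP_blk18 : allRange (guard nn ztRelP) 6 (18 * 2 ^ 6) = true := by decide +kernel
theorem ztRelP_blk19 : allRange (guard nn ztRelP) 6 (19 * 2 ^ 6) = true := by decide +kernel
theorem ztRelP_blk20 : allRange (guard nn ztRelP) 6 (20 * 2 ^ 6) = true := by decide +kernel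
theorem ztRelP_blk21 : allRange (guard nn ztRelP) 6 (21 * 2 ^ 6) = true := by decide +kernel
theorem ztRelP_blk22 : allRange (guard nn ztRelP) 6 (22 * 2 ^ 6) = true := by decide +kernel
theorem ztRelP_blk23 : allRange (guard nn ztRelP) 6 (23 * 2 ^ 6) = true := by decide +kernel
theorem ztRelP_blk24 : allRange (guard nn ztRelP) 6 (24 * 2 ^ 6) = true := by decide +kernel
theorem ztRelP_blk25 : allRange (guard nn ztRelP) 6 (25 * 2 ^ 6) = true := by decide +kernel
theorem ztRelP_blk26 : allRange (guard nn ztRelP) 6 (26 * 2 ^ 6) = true := by decide +kernel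
theorem ztRelP_blk27 : allRange (guard nn ztRelP) 6 (27 * 2 ^ 6) = true := by decide +kernel
theorem ztRelP_blk28 : allRange (guard nn ztRelP) 6 (28 * 2 ^ 6) = true := by decide +kernel
theorem ztRelP_blk29 : allRange (guard nn ztRelP) 6 (29 * 2 ^ 6) = true := by decide +kernel
theorem ztRelP_blk30 : allRange (guard nn ztRelP) 6 (30 * 2 ^ 6) = true := by decide +kernel
theorem ztRelP_blk31 : allRange (guard nn ztRelP) 6 (31 * 2 ^ 6) = true := by decide +kernel
theorem ztRelP_blk32 : allRange (guard nn ztRelP) 6 (32 * 2 ^ 6) = true := by decide +kernel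
theorem ztRelP_blk33 : allRange (guard nn ztRelP) 6 (33 * 2 ^ 6) = true := by decide +kernel
theorem ztRelP_blk34 : allRange (guard nn ztRelP) 6 (34 * 2 ^ 6) = true := by decide +kernel
theorem ztRelP_blk35 : allRange (guard nn ztRelP) 6 (35 * 2 ^ 6) = true := by decide +kernel
theorem ztRelP_blk36 : allRange (guard nn ztRelP) 6 (36 * 2 ^ 6) = true := by decide +kernel
theorem ztRelP_blk37 : allRange (guard nn ztRelP) 6 (37 * 2 ^ 6) = true := by decide +kernel
theorem ztRelP_blk38 : allRange (guard nn ztRelP) 6 (38 * 2 ^ 6) = true := by decide +kernel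
theorem ztRelP_blk39 : allRange (guard nn ztRelP) 6 (39 * 2 ^ 6) = true := by decide +kernel
theorem ztRelP_blk40 : allRange (guard nn ztRelP) 6 (40 * 2 ^ 6) = true := by decide +kernel
theorem ztRelP_blk41 : allRange (guard nn ztRelP) 6 (41 * 2 ^ 6) = true := by decide +kernel
theorem ztRelP_blk42 : allRange (guard nn ztRelP) 6 (42 * 2 ^ 6) = true := by decide +kernel
theorem ztRelP_blk43 : allRange (guard nn ztRelP) 6 (43 * 2 ^ 6) = true := by decide +kernel
theorem ztRelP_blk44 : allRange (guard nn ztRelP) 6 (44 * 2 ^ 6) = true := by decide +kernel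
theorem ztRelP_blk45 : allRange (guard nn ztRelP) 6 (45 * 2 ^ 6) = true := by decide +kernel
theorem ztRelP_blk46 : allRange (guard nn ztRelP) 6 (46 * 2 ^ 6) = true := by decide +kernel
theorem ztRelP_blk47 : allRange (guard nn ztRelP) 6 (47 * 2 ^ 6) = true := by decide +kernel
theorem ztRelP_blk48 : allRange (guard nn ztRelP) 6 (48 * 2 ^ 6) = true := by decide +kernel
theorem ztRelP_blk49 : allRange (guard nn ztRelP) 6 (49 * 2 ^ 6) = true := by decide +kernel
theorem ztRelP_blk50 : allRange (guard nn ztRelP) 6 (50 * 2 ^ 6) = true := by decide +kernel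
theorem ztRelP_blk51 : allRange (guard nn ztRelP) 6 (51 * 2 ^ 6) = true := by decide +kernel
theorem ztRelP_blk52 : allRange (guard nn ztRelP) 6 (52 * 2 ^ 6) = true := by decide +kernel
theorem ztRelP_blk53 : allRange (guard nn ztRelP) 6 (53 * 2 ^ 6) = true := by decide +kernel
theorem ztRelP_blk54 : allRange (guard nn ztRelP) 6 (54 * 2 ^ 6) = true := by decide +kernel
theorem ztRelP_blk55 : allRange (guard nn ztRelP) 6 (55 * 2 ^ 6) = true := by decide +kernel
theorem ztRelP_blk56 : allRange (guard nn ztRelP) 6 (56 * 2 ^ 6) = true := by decide +kernel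
theorem ztRelP_blk57 : allRange (guard nn ztRelP) 6 (57 * 2 ^ 6) = true := by decide +kernel
theorem ztRelP_blk58 : allRange (guard nn ztRelP) 6 (58 * 2 ^ 6) = true := by decide +kernel
theorem ztRelP_blk59 : allRange (guard nn ztRelP) 6 (59 * 2 ^ 6) = true := by decide +kernel
theorem ztRelP_blk60 : allRange (guard nn ztRelP) 6 (60 * 2 ^ 6) = true := by decide +kernel
theorem ztRelP_blk61 : allRange (guard nn ztRelP) 6 (61 * 2 ^ 6) = true := by decide +kernel
theorem ztRelP_blk62 : allRange (guard nn ztRelP) 6 (62 * 2 ^ 6) = true := by decide +kernel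
theorem ztRelP_blk63 : allRange (guard nn ztRelP) 6 (63 * 2 ^ 6) = true := by decide +kernel
theorem ztRelP_blk64 : allRange (guard nn ztRelP) 6 (64 * 2 ^ 6) = true := by decide +kernel
theorem ztRelP_blk65 : allRange (guard nn ztRelP) 6 (65 * 2 ^ 6) = true := by decide +kernel
theorem ztRelP_blk66 : allRange (guard nn ztRelP) 6 (66 * 2 ^ 6) = true := by decide +kernel
theorem ztRelP_blk67 : allRange (guard nn ztRelP) 6 (67 * 2 ^ 6) = true := by decide +kernel
theorem ztRelP_blk68 : allRange (guard nn ztRelP) 6 (68 * 2 ^ 6) = true := by decide +kernel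
theorem ztRelP_blk69 : allRange (guard nn ztRelP) 6 (69 * 2 ^ 6) = true := by decide +kernel
theorem ztRelP_blk70 : allRange (guard nn ztRelP) 6 (70 * 2 ^ 6) = true := by decide +kernel
theorem ztRelP_blk71 : allRange (guard nn ztRelP) 6 (71 * 2 ^ 6) = true := by decide +kernel
theorem ztRelP_blk72 : allRange (guard nn ztRelP) 6 (72 * 2 ^ 6) = true := by decide +kernel
theorem ztRelP_blk73 : allRange (guard nn ztRelP) 6 (73 * 2 ^ 6) = true := by decide +kernel
theorem ztRelP_blk74 : allRange (guard nn ztRelP) 6 (74 * 2 ^ 6) = true := by decide +kernel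
theorem ztRelP_blk75 : allRange (guard nn ztRelP) 6 (75 * 2 ^ 6) = true := by decide +kernel
theorem ztRelP_blk76 : allRange (guard nn ztRelP) 6 (76 * 2 ^ 6) = true := by decide +kernel
theorem ztRelP_blk77 : allRange (guard nn ztRelP) 6 (77 * 2 ^ 6) = true := by decide +kernel
theorem ztRelP_blk78 : allRange (guard nn ztRelP) 6 (78 * 2 ^ 6) = true := by decide +kernel
theorem ztRelP_blk79 : allRange (guard nn ztRelP) 6 (79 * 2 ^ 6) = true := by decide +kernel
theorem ztRelP_blk80 : allRange (guard nn ztRelP) 6 (80 * 2 ^ 6) = true := by decide +kernel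
theorem ztRelP_blk81 : allRange (guard nn ztRelP) 6 (81 * 2 ^ 6) = true := by decide +kernel
theorem ztRelP_blk82 : allRange (guard nn ztRelP) 6 (82 * 2 ^ 6) = true := by decide +kernel
theorem ztRelP_blk83 : allRange (guard nn ztRelP) 6 (83 * 2 ^ 6) = true := by decide +kernel
theorem ztRelP_blk84 : allRange (guard nn ztRelP) 6 (84 * 2 ^ 6) = true := by decide +kernel
theorem ztRelP_blk85 : allRange (guard nn ztRelP) 6 (85 * 2 ^ 6) = true := by decide +kernel
theorem ztRelP_blk86 : allRange (guard nn ztRelP) 6 (86 * 2 ^ 6) = true := by decide +kernel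
theorem ztRelP_blk87 : allRange (guard nn ztRelP) 6 (87 * 2 ^ 6) = true := by decide +kernel
theorem ztRelP_blk88 : allRange (guard nn ztRelP) 6 (88 * 2 ^ 6) = true := by decide +kernel
theorem ztRelP_blk89 : allRange (guard nn ztRelP) 6 (89 * 2 ^ 6) = true := by decide +kernel
theorem ztRelP_blk90 : allRange (guard nn ztRelP) 6 (90 * 2 ^ 6) = true := by decide +kernel
theorem ztRelP_blk91 : allRange (guard nn ztRelP) 6 (91 * 2 ^ 6) = true := by decide +kernel
theorem ztRelP_blk92 : allRange (guard nn ztRelP) 6 (92 * 2 ^ 6) = true := by decide +kernel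
theorem ztRelP_blk93 : allRange (guard nn ztRelP) 6 (93 * 2 ^ 6) = true := by decide +kernel
theorem ztRelP_blk94 : allRange (guard nn ztRelP) 6 (94 * 2 ^ 6) = true := by decide +kernel
theorem ztRelP_blk95 : allRange (guard nn ztRelP) 6 (95 * 2 ^ 6) = true := by decide +kernel
theorem ztRelP_blk96 : allRange (guard nn ztRelP) 6 (96 * 2 ^ 6) = true := by decide +kernel
theorem ztRelP_blk97 : allRange (guard nn ztRelP) 6 (97 * 2 ^ 6) = true := by decide +kernel
theorem ztRelP_blk98 : allRange (guard nn ztRelP) 6 (98 * 2 ^ 6) = true := by decide +kernel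
theorem ztRelP_blk99 : allRange (guard nn ztRelP) 6 (99 * 2 ^ 6) = true := by decide +kernel
theorem ztRelP_blk100 : allRange (guard nn ztRelP) 6 (100 * 2 ^ 6) = true := by decide +kernel
theorem ztRelP_blk101 : allRange (guard nn ztRelP) 6 (101 * 2 ^ 6) = true := by decide +kernel
theorem ztRelP_blk102 : allRange (guard nn ztRelP) 6 (102 * 2 ^ 6) = true := by decide +kernel
theorem ztRelP_blk103 : allRange (guard nn ztRelP) 6 (103 * 2 ^ 6) = true := by decide +kernel
theorem ztRelP_blk104 : allRange (guard nn ztRelP) 6 (104 * 2 ^ 6) = true := by decide +kernel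
theorem ztRelP_blk105 : allRange (guard nn ztRelP) 6 (105 * 2 ^ 6) = true := by decide +kernel
theorem ztRelP_blk106 : allRange (guard nn ztRelP) 6 (106 * 2 ^ 6) = true := by decide +kernel
theorem ztRelP_blk107 : allRange (guard nn ztRelP) 6 (107 * 2 ^ 6) = true := by decide +kernel
theorem ztRelP_blk108 : allRange (guard nn ztRelP) 6 (108 * 2 ^ 6) = true := by decide +kernel
theorem ztRelP_blk109 : allRange (guard nn ztRelP) 6 (109 * 2 ^ 6) = true := by decide +kernel
theorem ztRelP_blk110 : allRange (guard nn ztRelP) 6 (110 * 2 ^ 6) = true := by decide +kernel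
theorem ztRelP_blk111 : allRange (guard nn ztRelP) 6 (111 * 2 ^ 6) = true := by decide +kernel
theorem ztRelP_blk112 : allRange (guard nn ztRelP) 6 (112 * 2 ^ 6) = true := by decide +kernel
theorem ztRelP_blk113 : allRange (guard nn ztRelP) 6 (113 * 2 ^ 6) = true := by decide +kernel
theorem ztRelP_blk114 : allRange (guard nn ztRelP) 6 (114 * 2 ^ 6) = true := by decide +kernel
theorem ztRelP_blk115 : allRange (guard nn ztRelP) 6 (115 * 2 ^ 6) = true := by decide +kernel
theorem ztRelP_blk116 : allRange (guard nn ztRelP) 6 (116 * 2 ^ 6) = true := by decide +kernel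
theorem ztRelP_blk117 : allRange (guard nn ztRelP) 6 (117 * 2 ^ 6) = true := by decide +kernel
theorem ztRelP_blk118 : allRange (guard nn ztRelP) 6 (118 * 2 ^ 6) = true := by decide +kernel
theorem ztRelP_blk119 : allRange (guard nn ztRelP) 6 (119 * 2 ^ 6) = true := by decide +kernel
theorem ztRelP_blk120 : allRange (guard nn ztRelP) 6 (120 * 2 ^ 6) = true := by decide +kernel
theorem ztRelP_blk121 : allRange (guard nn ztRelP) 6 (121 * 2 ^ 6) = true := by decide +kernel
theorem ztRelP_blk122 : allRange (guard nn ztRelP) 6 (122 * 2 ^ 6) = true := by decide +kernel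
theorem ztRelP_blk123 : allRange (guard nn ztRelP) 6 (123 * 2 ^ 6) = true := by decide +kernel
theorem ztRelP_blk124 : allRange (guard nn ztRelP) 6 (124 * 2 ^ 6) = true := by decide +kernel
theorem ztRelP_blk125 : allRange (guard nn ztRelP) 6 (125 * 2 ^ 6) = true := by decide +kernel
theorem ztRelP_blk126 : allRange (guard nn ztRelP) 6 (126 * 2 ^ 6) = true := by decide +kernel
theorem ztRelP_blk127 : allRange (guard nn ztRelP) 6 (127 * 2 ^ 6) = true := by decide +kernel
theorem ztRelP_blk128 : allRange (guard nn ztRelP) 6 (128 * 2 ^ 6) = true := by decide +kernel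
theorem ztRelP_blk129 : allRange (guard nn ztRelP) 6 (129 * 2 ^ 6) = true := by decide +kernel
theorem ztRelP_blk130 : allRange (guard nn ztRelP) 6 (130 * 2 ^ 6) = true := by decide +kernel
theorem ztRelP_blk131 : allRange (guard nn ztRelP) 6 (131 * 2 ^ 6) = true := by decide +kernel
theorem ztRelP_blk132 : allRange (guard nn ztRelP) 6 (132 * 2 ^ 6) = true := by decide +kernel
theorem ztRelP_blk133 : allRange (guard nn ztRelP) 6 (133 * 2 ^ 6) = true := by decide +kernel
theorem ztRelP_blk134 : allRange (guard nn ztRelP) 6 (134 * 2 ^ 6) = true := by decide +kernel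
theorem ztRelP_blk135 : allRange (guard nn ztRelP) 6 (135 * 2 ^ 6) = true := by decide +kernel
theorem ztRelP_blk136 : allRange (guard nn ztRelP) 6 (136 * 2 ^ 6) = true := by decide +kernel
theorem ztRelP_blk137 : allRange (guard nn ztRelP) 6 (137 * 2 ^ 6) = true := by decide +kernel
theorem ztRelP_blk138 : allRange (guard nn ztRelP) 6 (138 * 2 ^ 6) = true := by decide +kernel
theorem ztRelP_blk139 : allRange (guard nn ztRelP) 6 (139 * 2 ^ 6) = true := by decide +kernel
theorem ztRelP_blk140 : allRange (guard nn ztRelP) 6 (140 * 2 ^ 6) = true := by decide +kernel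
theorem ztRelP_blk141 : allRange (guard nn ztRelP) 6 (141 * 2 ^ 6) = true := by decide +kernel
theorem ztRelP_blk142 : allRange (guard nn ztRelP) 6 (142 * 2 ^ 6) = true := by decide +kernel
theorem ztRelP_blk143 : allRange (guard nn ztRelP) 6 (143 * 2 ^ 6) = true := by decide +kernel
theorem ztRelP_blk144 : allRange (guard nn ztRelP) 6 (144 * 2 ^ 6) = true := by decide +kernel
theorem ztRelP_blk145 : allRange (guard nn ztRelP) 6 (145 * 2 ^ 6) = true := by decide +kernel
theorem ztRelP_blk146 : allRange (guard nn ztRelP) 6 (146 * 2 ^ 6) = true := by decide +kernel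
theorem ztRelP_blk147 : allRange (guard nn ztRelP) 6 (147 * 2 ^ 6) = true := by decide +kernel
theorem ztRelP_blk148 : allRange (guard nn ztRelP) 6 (148 * 2 ^ 6) = true := by decide +kernel
theorem ztRelP_blk149 : allRange (guard nn ztRelP) 6 (149 * 2 ^ 6) = true := by decide +kernel
theorem ztRelP_blk150 : allRange (guard nn ztRelP) 6 (150 * 2 ^ 6) = true := by decide +kernel
theorem ztRelP_blk151 : allRange (guard nn ztRelP) 6 (151 * 2 ^ 6) = true := by decide +kernel
theorem ztRelP_blk152 : allRange (guard nn ztRelP) 6 (152 * 2 ^ 6) = true := by decide +kernel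
theorem ztRelP_blk153 : allRange (guard nn ztRelP) 6 (153 * 2 ^ 6) = true := by decide +kernel
theorem ztRelP_blk154 : allRange (guard nn ztRelP) 6 (154 * 2 ^ 6) = true := by decide +kernel
theorem ztRelP_blk155 : allRange (guard nn ztRelP) 6 (155 * 2 ^ 6) = true := by decide +kernel
theorem ztRelP_blk156 : allRange (guard nn ztRelP) 6 (156 * 2 ^ 6) = true := by decide +kernel
theorem ztRelP_blk157 : allRange (guard nn ztRelP) 6 (157 * 2 ^ 6) = true := by decide +kernel
theorem ztRelP_blk158 : allRange (guard nn ztRelP) 6 (158 * 2 ^ 6) = true := by decide +kernel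
theorem ztRelP_blk159 : allRange (guard nn ztRelP) 6 (159 * 2 ^ 6) = true := by decide +kernel
theorem ztRelP_blk160 : allRange (guard nn ztRelP) 6 (160 * 2 ^ 6) = true := by decide +kernel
theorem ztRelP_blk161 : allRange (guard nn ztRelP) 6 (161 * 2 ^ 6) = true := by decide +kernel
theorem ztRelP_blk162 : allRange (guard nn ztRelP) 6 (162 * 2 ^ 6) = true := by decide +kernel
theorem ztRelP_blk163 : allRange (guard nn ztRelP) 6 (163 * 2 ^ 6) = true := by decide +kernel
theorem ztRelP_blk164 : allRange (guard nn ztRelP) 6 (164 * 2 ^ 6) = true := by decide +kernel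
theorem ztRelP_blk165 : allRange (guard nn ztRelP) 6 (165 * 2 ^ 6) = true := by decide +kernel
theorem ztRelP_blk166 : allRange (guard nn ztRelP) 6 (166 * 2 ^ 6) = true := by decide +kernel
theorem ztRelP_blk167 : allRange (guard nn ztRelP) 6 (167 * 2 ^ 6) = true := by decide +kernel
theorem ztRelP_blk168 : allRange (guard nn ztRelP) 6 (168 * 2 ^ 6) = true := by decide +kernel
theorem ztRelP_blk169 : allRange (guard nn ztRelP) 6 (169 * 2 ^ 6) = true := by decide +kernel
theorem ztRelP_blk170 : allRange (guard nn ztRelP) 6 (170 * 2 ^ 6) = true := by decide +kernel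
theorem ztRelP_blk171 : allRange (guard nn ztRelP) 6 (171 * 2 ^ 6) = true := by decide +kernel
theorem ztRelP_blk172 : allRange (guard nn ztRelP) 6 (172 * 2 ^ 6) = true := by decide +kernel
theorem ztRelP_blk173 : allRange (guard nn ztRelP) 6 (173 * 2 ^ 6) = true := by decide +kernel
theorem ztRelP_blk174 : allRange (guard nn ztRelP) 6 (174 * 2 ^ 6) = true := by decide +kernel
theorem ztRelP_blk175 : allRange (guard nn ztRelP) 6 (175 * 2 ^ 6) = true := by decide +kernel
theorem ztRelP_blk176 : allRange (guard nn ztRelP) 6 (176 * 2 ^ 6) = true := by decide +kernel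
theorem ztRelP_blk177 : allRange (guard nn ztRelP) 6 (177 * 2 ^ 6) = true := by decide +kernel
theorem ztRelP_blk178 : allRange (guard nn ztRelP) 6 (178 * 2 ^ 6) = true := by decide +kernel
theorem ztRelP_blk179 : allRange (guard nn ztRelP) 6 (179 * 2 ^ 6) = true := by decide +kernel
theorem ztRelP_blk180 : allRange (guard nn ztRelP) 6 (180 * 2 ^ 6) = true := by decide +kernel
theorem ztRelP_blk181 : allRange (guard nn ztRelP) 6 (181 * 2 ^ 6) = true := by decide +kernel
theorem ztRelP_blk182 : allRange (guard nn ztRelP) 6 (182 * 2 ^ 6) = true := by decide +kernel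
theorem ztRelP_blk183 : allRange (guard nn ztRelP) 6 (183 * 2 ^ 6) = true := by decide +kernel
theorem ztRelP_blk184 : allRange (guard nn ztRelP) 6 (184 * 2 ^ 6) = true := by decide +kernel
theorem ztRelP_blk185 : allRange (guard nn ztRelP) 6 (185 * 2 ^ 6) = true := by decide +kernel
theorem ztRelP_blk186 : allRange (guard nn ztRelP) 6 (186 * 2 ^ 6) = true := by decide +kernel
theorem ztRelP_blk187 : allRange (guard nn ztRelP) 6 (187 * 2 ^ 6) = true := by decide +kernel
theorem ztRelP_blk188 : allRange (guard nn ztRelP) 6 (188 * 2 ^ 6) = true := by decide +kernel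
theorem ztRelP_blk189 : allRange (guard nn ztRelP) 6 (189 * 2 ^ 6) = true := by decide +kernel
theorem ztRelP_blk190 : allRange (guard nn ztRelP) 6 (190 * 2 ^ 6) = true := by decide +kernel
theorem ztRelP_blk191 : allRange (guard nn ztRelP) 6 (191 * 2 ^ 6) = true := by decide +kernel
theorem ztRelP_blk192 : allRange (guard nn ztRelP) 6 (192 * 2 ^ 6) = true := by decide +kernel
theorem ztRelP_blk193 : allRange (guard nn ztRelP) 6 (193 * 2 ^ 6) = true := by decide +kernel
theorem ztRelP_blk194 : allRange (guard nn ztRelP) 6 (194 * 2 ^ 6) = true := by decide +kernel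
theorem ztRelP_blk195 : allRange (guard nn ztRelP) 6 (195 * 2 ^ 6) = true := by decide +kernel
theorem ztRelP_blk196 : allRange (guard nn ztRelP) 6 (196 * 2 ^ 6) = true := by decide +kernel
theorem ztRelP_blk197 : allRange (guard nn ztRelP) 6 (197 * 2 ^ 6) = true := by decide +kernel
theorem ztRelP_blk198 : allRange (guard nn ztRelP) 6 (198 * 2 ^ 6) = true := by decide +kernel
theorem ztRelP_blk199 : allRange (guard nn ztRelP) 6 (199 * 2 ^ 6) = true := by decide +kernel
theorem ztRelP_blk200 : allRange (guard nn ztRelP) 6 (200 * 2 ^ 6) = true := by decide +kernel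
theorem ztRelP_blk201 : allRange (guard nn ztRelP) 6 (201 * 2 ^ 6) = true := by decide +kernel
theorem ztRelP_blk202 : allRange (guard nn ztRelP) 6 (202 * 2 ^ 6) = true := by decide +kernel
theorem ztRelP_blk203 : allRange (guard nn ztRelP) 6 (203 * 2 ^ 6) = true := by decide +kernel
theorem ztRelP_blk204 : allRange (guard nn ztRelP) 6 (204 * 2 ^ 6) = true := by decide +kernel
theorem ztRelP_blk205 : allRange (guard nn ztRelP) 6 (205 * 2 ^ 6) = true := by decide +kernel
theorem ztRelP_blk206 : allRange (guard nn ztRelP) 6 (206 * 2 ^ 6) = true := by decide +kernel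
theorem ztRelP_blk207 : allRange (guard nn ztRelP) 6 (207 * 2 ^ 6) = true := by decide +kernel
theorem ztRelP_blk208 : allRange (guard nn ztRelP) 6 (208 * 2 ^ 6) = true := by decide +kernel
theorem ztRelP_blk209 : allRange (guard nn ztRelP) 6 (209 * 2 ^ 6) = true := by decide +kernel
theorem ztRelP_blk210 : allRange (guard nn ztRelP) 6 (210 * 2 ^ 6) = true := by decide +kernel
theorem ztRelP_blk211 : allRange (guard nn ztRelP) 6 (211 * 2 ^ 6) = true := by decide +kernel
theorem ztRelP_blk212 : allRange (guard nn ztRelP) 6 (212 * 2 ^ 6) = true := by decide +kernel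
theorem ztRelP_blk213 : allRange (guard nn ztRelP) 6 (213 * 2 ^ 6) = true := by decide +kernel
theorem ztRelP_blk214 : allRange (guard nn ztRelP) 6 (214 * 2 ^ 6) = true := by decide +kernel
theorem ztRelP_blk215 : allRange (guard nn ztRelP) 6 (215 * 2 ^ 6) = true := by decide +kernel
theorem ztRelP_blk216 : allRange (guard nn ztRelP) 6 (216 * 2 ^ 6) = true := by decide +kernel
theorem ztRelP_blk217 : allRange (guard nn ztRelP) 6 (217 * 2 ^ 6) = true := by decide +kernel
theorem ztRelP_blk218 : allRange (guard nn ztRelP) 6 (218 * 2 ^ 6) = true := by decide +kernel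
theorem ztRelP_blk219 : allRange (guard nn ztRelP) 6 (219 * 2 ^ 6) = true := by decide +kernel
theorem ztRelP_blk220 : allRange (guard nn ztRelP) 6 (220 * 2 ^ 6) = true := by decide +kernel
theorem ztRelP_blk221 : allRange (guard nn ztRelP) 6 (221 * 2 ^ 6) = true := by decide +kernel
theorem ztRelP_blk222 : allRange (guard nn ztRelP) 6 (222 * 2 ^ 6) = true := by decide +kernel
theorem ztRelP_blk223 : allRange (guard nn ztRelP) 6 (223 * 2 ^ 6) = true := by decide +kernel
theorem ztRelP_blk224 : allRange (guard nn ztRelP) 6 (224 * 2 ^ 6) = true := by decide +kernel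
theorem ztRelP_blk225 : allRange (guard nn ztRelP) 6 (225 * 2 ^ 6) = true := by decide +kernel
theorem ztRelP_blk226 : allRange (guard nn ztRelP) 6 (226 * 2 ^ 6) = true := by decide +kernel
theorem ztRelP_blk227 : allRange (guard nn ztRelP) 6 (227 * 2 ^ 6) = true := by decide +kernel
theorem ztRelP_blk228 : allRange (guard nn ztRelP) 6 (228 * 2 ^ 6) = true := by decide +kernel
theorem ztRelP_blk229 : allRange (guard nn ztRelP) 6 (229 * 2 ^ 6) = true := by decide +kernel
theorem ztRelP_blk230 : allRange (guard nn ztRelP) 6 (230 * 2 ^ 6) = true := by decide +kernel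
theorem ztRelP_blk231 : allRange (guard nn ztRelP) 6 (231 * 2 ^ 6) = true := by decide +kernel
theorem ztRelP_blk232 : allRange (guard nn ztRelP) 6 (232 * 2 ^ 6) = true := by decide +kernel
theorem ztRelP_blk233 : allRange (guard nn ztRelP) 6 (233 * 2 ^ 6) = true := by decide +kernel
theorem ztRelP_blk234 : allRange (guard nn ztRelP) 6 (234 * 2 ^ 6) = true := by decide +kernel
theorem ztRelP_blk235 : allRange (guard nn ztRelP) 6 (235 * 2 ^ 6) = true := by decide +kernel
theorem ztRelP_blk236 : allRange (guard nn ztRelP) 6 (236 * 2 ^ 6) = true := by decide +kernel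
theorem ztRelP_blk237 : allRange (guard nn ztRelP) 6 (237 * 2 ^ 6) = true := by decide +kernel
theorem ztRelP_blk238 : allRange (guard nn ztRelP) 6 (238 * 2 ^ 6) = true := by decide +kernel
theorem ztRelP_blk239 : allRange (guard nn ztRelP) 6 (239 * 2 ^ 6) = true := by decide +kernel
theorem ztRelP_blk240 : allRange (guard nn ztRelP) 6 (240 * 2 ^ 6) = true := by decide +kernel
theorem ztRelP_blk241 : allRange (guard nn ztRelP) 6 (241 * 2 ^ 6) = true := by decide +kernel
theorem ztRelP_blk242 : allRange (guard nn ztRelP) 6 (242 * 2 ^ 6) = true := by decide +kernel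
theorem ztRelP_blk243 : allRange (guard nn ztRelP) 6 (243 * 2 ^ 6) = true := by decide +kernel
theorem ztRelP_blk244 : allRange (guard nn ztRelP) 6 (244 * 2 ^ 6) = true := by decide +kernel
theorem ztRelP_blk245 : allRange (guard nn ztRelP) 6 (245 * 2 ^ 6) = true := by decide +kernel
theorem ztRelP_blk246 : allRange (guard nn ztRelP) 6 (246 * 2 ^ 6) = true := by decide +kernel
theorem ztRelP_blk247 : allRange (guard nn ztRelP) 6 (247 * 2 ^ 6) = true := by decide +kernel
theorem ztRelP_blk248 : allRange (guard nn ztRelP) 6 (248 * 2 ^ 6) = true := by decide +kernel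
theorem ztRelP_blk249 : allRange (guard nn ztRelP) 6 (249 * 2 ^ 6) = true := by decide +kernel
theorem ztRelP_blk250 : allRange (guard nn ztRelP) 6 (250 * 2 ^ 6) = true := by decide +kernel
theorem ztRelP_blk251 : allRange (guard nn ztRelP) 6 (251 * 2 ^ 6) = true := by decide +kernel
theorem ztRelP_blk252 : allRange (guard nn ztRelP) 6 (252 * 2 ^ 6) = true := by decide +kernel
theorem ztRelP_blk253 : allRange (guard nn ztRelP) 6 (253 * 2 ^ 6) = true := by decide +kernel
theorem ztRelP_blk254 : allRange (guard nn ztRelP) 6 (254 * 2 ^ 6) = true := by decide +kernel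
theorem ztRelP_blk255 : allRange (guard nn ztRelP) 6 (255 * 2 ^ 6) = true := by decide +kernel
theorem ztRelP_blk256 : allRange (guard nn ztRelP) 6 (256 * 2 ^ 6) = true := by decide +kernel
theorem ztRelP_blk257 : allRange (guard nn ztRelP) 6 (257 * 2 ^ 6) = true := by decide +kernel
theorem ztRelP_blk258 : allRange (guard nn ztRelP) 6 (258 * 2 ^ 6) = true := by decide +kernel
theorem ztRelP_blk259 : allRange (guard nn ztRelP) 6 (259 * 2 ^ 6) = true := by decide +kernel
theorem ztRelP_blk260 : allRange (guard nn ztRelP) 6 (260 * 2 ^ 6) = true := by decide +kernel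
theorem ztRelP_blk261 : allRange (guard nn ztRelP) 6 (261 * 2 ^ 6) = true := by decide +kernel
theorem ztRelP_blk262 : allRange (guard nn ztRelP) 6 (262 * 2 ^ 6) = true := by decide +kernel
theorem ztRelP_blk263 : allRange (guard nn ztRelP) 6 (263 * 2 ^ 6) = true := by decide +kernel
theorem ztRelP_blk264 : allRange (guard nn ztRelP) 6 (264 * 2 ^ 6) = true := by decide +kernel
theorem ztRelP_blk265 : allRange (guard nn ztRelP) 6 (265 * 2 ^ 6) = true := by decide +kernel
theorem ztRelP_blk266 : allRange (guard nn ztRelP) 6 (266 * 2 ^ 6) = true := by decide +kernel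
theorem ztRelP_blk267 : allRange (guard nn ztRelP) 6 (267 * 2 ^ 6) = true := by decide +kernel
theorem ztRelP_blk268 : allRange (guard nn ztRelP) 6 (268 * 2 ^ 6) = true := by decide +kernel
theorem ztRelP_blk269 : allRange (guard nn ztRelP) 6 (269 * 2 ^ 6) = true := by decide +kernel
theorem ztRelP_blk270 : allRange (guard nn ztRelP) 6 (270 * 2 ^ 6) = true := by decide +kernel
theorem ztRelP_blk271 : allRange (guard nn ztRelP) 6 (271 * 2 ^ 6) = true := by decide +kernel
theorem ztRelP_blk272 : allRange (guard nn ztRelP) 6 (272 * 2 ^ 6) = true := by decide +kernel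
theorem ztRelP_blk273 : allRange (guard nn ztRelP) 6 (273 * 2 ^ 6) = true := by decide +kernel
theorem ztRelP_blk274 : allRange (guard nn ztRelP) 6 (274 * 2 ^ 6) = true := by decide +kernel
theorem ztRelP_blk275 : allRange (guard nn ztRelP) 6 (275 * 2 ^ 6) = true := by decide +kernel
theorem ztRelP_blk276 : allRange (guard nn ztRelP) 6 (276 * 2 ^ 6) = true := by decide +kernel
theorem ztRelP_blk277 : allRange (guard nn ztRelP) 6 (277 * 2 ^ 6) = true := by decide +kernel
theorem ztRelP_blk278 : allRange (guard nn ztRelP) 6 (278 * 2 ^ 6) = true := by decide +kernel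
theorem ztRelP_blk279 : allRange (guard nn ztRelP) 6 (279 * 2 ^ 6) = true := by decide +kernel
theorem ztRelP_blk280 : allRange (guard nn ztRelP) 6 (280 * 2 ^ 6) = true := by decide +kernel
theorem ztRelP_blk281 : allRange (guard nn ztRelP) 6 (281 * 2 ^ 6) = true := by decide +kernel
theorem ztRelP_blk282 : allRange (guard nn ztRelP) 6 (282 * 2 ^ 6) = true := by decide +kernel
theorem ztRelP_blk283 : allRange (guard nn ztRelP) 6 (283 * 2 ^ 6) = true := by decide +kernel
theorem ztRelP_blk284 : allRange (guard nn ztRelP) 6 (284 * 2 ^ 6) = true := by decide +kernel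
theorem ztRelP_blk285 : allRange (guard nn ztRelP) 6 (285 * 2 ^ 6) = true := by decide +kernel
theorem ztRelP_blk286 : allRange (guard nn ztRelP) 6 (286 * 2 ^ 6) = true := by decide +kernel
theorem ztRelP_blk287 : allRange (guard nn ztRelP) 6 (287 * 2 ^ 6) = true := by decide +kernel
theorem ztRelP_blk288 : allRange (guard nn ztRelP) 6 (288 * 2 ^ 6) = true := by decide +kernel
theorem ztRelP_blk289 : allRange (guard nn ztRelP) 6 (289 * 2 ^ 6) = true := by decide +kernel
theorem ztRelP_blk290 : allRange (guard nn ztRelP) 6 (290 * 2 ^ 6) = true := by decide +kernel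
theorem ztRelP_blk291 : allRange (guard nn ztRelP) 6 (291 * 2 ^ 6) = true := by decide +kernel
theorem ztRelP_blk292 : allRange (guard nn ztRelP) 6 (292 * 2 ^ 6) = true := by decide +kernel
theorem ztRelP_blk293 : allRange (guard nn ztRelP) 6 (293 * 2 ^ 6) = true := by decide +kernel
theorem ztRelP_blk294 : allRange (guard nn ztRelP) 6 (294 * 2 ^ 6) = true := by decide +kernel
theorem ztRelP_blk295 : allRange (guard nn ztRelP) 6 (295 * 2 ^ 6) = true := by decide +kernel
theorem ztRelP_blk296 : allRange (guard nn ztRelP) 6 (296 * 2 ^ 6) = true := by decide +kernel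
theorem ztRelP_blk297 : allRange (guard nn ztRelP) 6 (297 * 2 ^ 6) = true := by decide +kernel
theorem ztRelP_blk298 : allRange (guard nn ztRelP) 6 (298 * 2 ^ 6) = true := by decide +kernel
theorem ztRelP_blk299 : allRange (guard nn ztRelP) 6 (299 * 2 ^ 6) = true := by decide +kernel
theorem ztRelP_blk300 : allRange (guard nn ztRelP) 6 (300 * 2 ^ 6) = true := by decide +kernel
theorem ztRelP_blk301 : allRange (guard nn ztRelP) 6 (301 * 2 ^ 6) = true := by decide +kernel
theorem ztRelP_blk302 : allRange (guard nn ztRelP) 6 (302 * 2 ^ 6) = true := by decide +kernel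
theorem ztRelP_blk303 : allRange (guard nn ztRelP) 6 (303 * 2 ^ 6) = true := by decide +kernel
theorem ztRelP_blk304 : allRange (guard nn ztRelP) 6 (304 * 2 ^ 6) = true := by decide +kernel
theorem ztRelP_blk305 : allRange (guard nn ztRelP) 6 (305 * 2 ^ 6) = true := by decide +kernel
theorem ztRelP_blk306 : allRange (guard nn ztRelP) 6 (306 * 2 ^ 6) = true := by decide +kernel
theorem ztRelP_blk307 : allRange (guard nn ztRelP) 6 (307 * 2 ^ 6) = true := by decide +kernel
theorem ztRelP_blk308 : allRange (guard nn ztRelP) 6 (308 * 2 ^ 6) = true := by decide +kernel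
theorem ztRelP_blk309 : allRange (guard nn ztRelP) 6 (309 * 2 ^ 6) = true := by decide +kernel
theorem ztRelP_blk310 : allRange (guard nn ztRelP) 6 (310 * 2 ^ 6) = true := by decide +kernel
theorem ztRelP_blk311 : allRange (guard nn ztRelP) 6 (311 * 2 ^ 6) = true := by decide +kernel
theorem ztRelP_blk312 : allRange (guard nn ztRelP) 6 (312 * 2 ^ 6) = true := by decide +kernel
theorem ztRelP_blk313 : allRange (guard nn ztRelP) 6 (313 * 2 ^ 6) = true := by decide +kernel
theorem ztRelP_blk314 : allRange (guard nn ztRelP) 6 (314 * 2 ^ 6) = true := by decide +kernel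
theorem ztRelP_blk315 : allRange (guard nn ztRelP) 6 (315 * 2 ^ 6) = true := by decide +kernel
theorem ztRelP_blk316 : allRange (guard nn ztRelP) 6 (316 * 2 ^ 6) = true := by decide +kernel
theorem ztRelP_blk317 : allRange (guard nn ztRelP) 6 (317 * 2 ^ 6) = true := by decide +kernel
theorem ztRelP_blk318 : allRange (guard nn ztRelP) 6 (318 * 2 ^ 6) = true := by decide +kernel
theorem ztRelP_blk319 : allRange (guard nn ztRelP) 6 (319 * 2 ^ 6) = true := by decide +kernel
theorem ztRelP_blk320 : allRange (guard nn ztRelP) 6 (320 * 2 ^ 6) = true := by decide +kernel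
theorem ztRelP_blk321 : allRange (guard nn ztRelP) 6 (321 * 2 ^ 6) = true := by decide +kernel
theorem ztRelP_blk322 : allRange (guard nn ztRelP) 6 (322 * 2 ^ 6) = true := by decide +kernel
theorem ztRelP_blk323 : allRange (guard nn ztRelP) 6 (323 * 2 ^ 6) = true := by decide +kernel
theorem ztRelP_blk324 : allRange (guard nn ztRelP) 6 (324 * 2 ^ 6) = true := by decide +kernel
theorem ztRelP_blk325 : allRange (guard nn ztRelP) 6 (325 * 2 ^ 6) = true := by decide +kernel
theorem ztRelP_blk326 : allRange (guard nn ztRelP) 6 (326 * 2 ^ 6) = true := by decide +kernel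
theorem ztRelP_blk327 : allRange (guard nn ztRelP) 6 (327 * 2 ^ 6) = true := by decide +kernel
theorem ztRelP_blk328 : allRange (guard nn ztRelP) 6 (328 * 2 ^ 6) = true := by decide +kernel
theorem ztRelP_blk329 : allRange (guard nn ztRelP) 6 (329 * 2 ^ 6) = true := by decide +kernel
theorem ztRelP_blk330 : allRange (guard nn ztRelP) 6 (330 * 2 ^ 6) = true := by decide +kernel
theorem ztRelP_blk331 : allRange (guard nn ztRelP) 6 (331 * 2 ^ 6) = true := by decide +kernel
theorem ztRelP_blk332 : allRange (guard nn ztRelP) 6 (332 * 2 ^ 6) = true := by decide +kernel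
theorem ztRelP_blk333 : allRange (guard nn ztRelP) 6 (333 * 2 ^ 6) = true := by decide +kernel
theorem ztRelP_blk334 : allRange (guard nn ztRelP) 6 (334 * 2 ^ 6) = true := by decide +kernel
theorem ztRelP_blk335 : allRange (guard nn ztRelP) 6 (335 * 2 ^ 6) = true := by decide +kernel
theorem ztRelP_blk336 : allRange (guard nn ztRelP) 6 (336 * 2 ^ 6) = true := by decide +kernel
theorem ztRelP_blk337 : allRange (guard nn ztRelP) 6 (337 * 2 ^ 6) = true := by decide +kernel
theorem ztRelP_blk338 : allRange (guard nn ztRelP) 6 (338 * 2 ^ 6) = true := by decide +kernel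
theorem ztRelP_blk339 : allRange (guard nn ztRelP) 6 (339 * 2 ^ 6) = true := by decide +kernel
theorem ztRelP_blk340 : allRange (guard nn ztRelP) 6 (340 * 2 ^ 6) = true := by decide +kernel
theorem ztRelP_blk341 : allRange (guard nn ztRelP) 6 (341 * 2 ^ 6) = true := by decide +kernel
theorem ztRelP_blk342 : allRange (guard nn ztRelP) 6 (342 * 2 ^ 6) = true := by decide +kernel
theorem ztRelP_blk343 : allRange (guard nn ztRelP) 6 (343 * 2 ^ 6) = true := by decide +kernel
theorem ztRelP_blk344 : allRange (guard nn ztRelP) 6 (344 * 2 ^ 6) = true := by decide +kernel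
theorem ztRelP_blk345 : allRange (guard nn ztRelP) 6 (345 * 2 ^ 6) = true := by decide +kernel
theorem ztRelP_blk346 : allRange (guard nn ztRelP) 6 (346 * 2 ^ 6) = true := by decide +kernel
theorem ztRelP_blk347 : allRange (guard nn ztRelP) 6 (347 * 2 ^ 6) = true := by decide +kernel
theorem ztRelP_blk348 : allRange (guard nn ztRelP) 6 (348 * 2 ^ 6) = true := by decide +kernel
theorem ztRelP_blk349 : allRange (guard nn ztRelP) 6 (349 * 2 ^ 6) = true := by decide +kernel
theorem ztRelP_blk350 : allRange (guard nn ztRelP) 6 (350 * 2 ^ 6) = true := by decide +kernel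
theorem ztRelP_blk351 : allRange (guard nn ztRelP) 6 (351 * 2 ^ 6) = true := by decide +kernel
theorem ztRelP_blk352 : allRange (guard nn ztRelP) 6 (352 * 2 ^ 6) = true := by decide +kernel
theorem ztRelP_blk353 : allRange (guard nn ztRelP) 6 (353 * 2 ^ 6) = true := by decide +kernel
theorem ztRelP_blk354 : allRange (guard nn ztRelP) 6 (354 * 2 ^ 6) = true := by decide +kernel
theorem ztRelP_blk355 : allRange (guard nn ztRelP) 6 (355 * 2 ^ 6) = true := by decide +kernel
theorem ztRelP_blk356 : allRange (guard nn ztRelP) 6 (356 * 2 ^ 6) = true := by decide +kernel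
theorem ztRelP_blk357 : allRange (guard nn ztRelP) 6 (357 * 2 ^ 6) = true := by decide +kernel
theorem ztRelP_blk358 : allRange (guard nn ztRelP) 6 (358 * 2 ^ 6) = true := by decide +kernel
theorem ztRelP_blk359 : allRange (guard nn ztRelP) 6 (359 * 2 ^ 6) = true := by decide +kernel
theorem ztRelP_blk360 : allRange (guard nn ztRelP) 6 (360 * 2 ^ 6) = true := by decide +kernel
theorem ztRelP_blk361 : allRange (guard nn ztRelP) 6 (361 * 2 ^ 6) = true := by decide +kernel
theorem ztRelP_blk362 : allRange (guard nn ztRelP) 6 (362 * 2 ^ 6) = true := by decide +kernel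
theorem ztRelP_blk363 : allRange (guard nn ztRelP) 6 (363 * 2 ^ 6) = true := by decide +kernel
theorem ztRelP_blk364 : allRange (guard nn ztRelP) 6 (364 * 2 ^ 6) = true := by decide +kernel
theorem ztRelP_blk365 : allRange (guard nn ztRelP) 6 (365 * 2 ^ 6) = true := by decide +kernel
theorem ztRelP_blk366 : allRange (guard nn ztRelP) 6 (366 * 2 ^ 6) = true := by decide +kernel
theorem ztRelP_blk367 : allRange (guard nn ztRelP) 6 (367 * 2 ^ 6) = true := by decide +kernel
theorem ztRelP_blk368 : allRange (guard nn ztRelP) 6 (368 * 2 ^ 6) = true := by decide +kernel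
theorem ztRelP_blk369 : allRange (guard nn ztRelP) 6 (369 * 2 ^ 6) = true := by decide +kernel
theorem ztRelP_blk370 : allRange (guard nn ztRelP) 6 (370 * 2 ^ 6) = true := by decide +kernel
theorem ztRelP_blk371 : allRange (guard nn ztRelP) 6 (371 * 2 ^ 6) = true := by decide +kernel
theorem ztRelP_blk372 : allRange (guard nn ztRelP) 6 (372 * 2 ^ 6) = true := by decide +kernel
theorem ztRelP_blk373 : allRange (guard nn ztRelP) 6 (373 * 2 ^ 6) = true := by decide +kernel
theorem ztRelP_blk374 : allRange (guard nn ztRelP) 6 (374 * 2 ^ 6) = true := by decide +kernel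
theorem ztRelP_blk375 : allRange (guard nn ztRelP) 6 (375 * 2 ^ 6) = true := by decide +kernel
theorem ztRelP_blk376 : allRange (guard nn ztRelP) 6 (376 * 2 ^ 6) = true := by decide +kernel
theorem ztRelP_blk377 : allRange (guard nn ztRelP) 6 (377 * 2 ^ 6) = true := by decide +kernel
theorem ztRelP_blk378 : allRange (guard nn ztRelP) 6 (378 * 2 ^ 6) = true := by decide +kernel
theorem ztRelP_blk379 : allRange (guard nn ztRelP) 6 (379 * 2 ^ 6) = true := by decide +kernel
theorem ztRelP_blk380 : allRange (guard nn ztRelP) 6 (380 * 2 ^ 6) = true := by decide +kernel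
theorem ztRelP_blk381 : allRange (guard nn ztRelP) 6 (381 * 2 ^ 6) = true := by decide +kernel
theorem ztRelP_blk382 : allRange (guard nn ztRelP) 6 (382 * 2 ^ 6) = true := by decide +kernel
theorem ztRelP_blk383 : allRange (guard nn ztRelP) 6 (383 * 2 ^ 6) = true := by decide +kernel
theorem ztRelP_blk384 : allRange (guard nn ztRelP) 6 (384 * 2 ^ 6) = true := by decide +kernel
theorem ztRelP_blk385 : allRange (guard nn ztRelP) 6 (385 * 2 ^ 6) = true := by decide +kernel
theorem ztRelP_blk386 : allRange (guard nn ztRelP) 6 (386 * 2 ^ 6) = true := by decide +kernel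
theorem ztRelP_blk387 : allRange (guard nn ztRelP) 6 (387 * 2 ^ 6) = true := by decide +kernel
theorem ztRelP_blk388 : allRange (guard nn ztRelP) 6 (388 * 2 ^ 6) = true := by decide +kernel
theorem ztRelP_blk389 : allRange (guard nn ztRelP) 6 (389 * 2 ^ 6) = true := by decide +kernel
theorem ztRelP_blk390 : allRange (guard nn ztRelP) 6 (390 * 2 ^ 6) = true := by decide +kernel
theorem ztRelP_blk391 : allRange (guard nn ztRelP) 6 (391 * 2 ^ 6) = true := by decide +kernel
theorem ztRelP_blk392 : allRange (guard nn ztRelP) 6 (392 * 2 ^ 6) = true := by decide +kernel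
theorem ztRelP_blk393 : allRange (guard nn ztRelP) 6 (393 * 2 ^ 6) = true := by decide +kernel
theorem ztRelP_blk394 : allRange (guard nn ztRelP) 6 (394 * 2 ^ 6) = true := by decide +kernel
theorem ztRelP_blk395 : allRange (guard nn ztRelP) 6 (395 * 2 ^ 6) = true := by decide +kernel
theorem ztRelP_blk396 : allRange (guard nn ztRelP) 6 (396 * 2 ^ 6) = true := by decide +kernel
theorem ztRelP_blk397 : allRange (guard nn ztRelP) 6 (397 * 2 ^ 6) = true := by decide +kernel
theorem ztRelP_blk398 : allRange (guard nn ztRelP) 6 (398 * 2 ^ 6) = true := by decide +kernel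
theorem ztRelP_blk399 : allRange (guard nn ztRelP) 6 (399 * 2 ^ 6) = true := by decide +kernel
theorem ztRelP_blk400 : allRange (guard nn ztRelP) 6 (400 * 2 ^ 6) = true := by decide +kernel
theorem ztRelP_blk401 : allRange (guard nn ztRelP) 6 (401 * 2 ^ 6) = true := by decide +kernel
theorem ztRelP_blk402 : allRange (guard nn ztRelP) 6 (402 * 2 ^ 6) = true := by decide +kernel
theorem ztRelP_blk403 : allRange (guard nn ztRelP) 6 (403 * 2 ^ 6) = true := by decide +kernel
theorem ztRelP_blk404 : allRange (guard nn ztRelP) 6 (404 * 2 ^ 6) = true := by decide +kernel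
theorem ztRelP_blk405 : allRange (guard nn ztRelP) 6 (405 * 2 ^ 6) = true := by decide +kernel
theorem ztRelP_blk406 : allRange (guard nn ztRelP) 6 (406 * 2 ^ 6) = true := by decide +kernel
theorem ztRelP_blk407 : allRange (guard nn ztRelP) 6 (407 * 2 ^ 6) = true := by decide +kernel
theorem ztRelP_blk408 : allRange (guard nn ztRelP) 6 (408 * 2 ^ 6) = true := by decide +kernel
theorem ztRelP_blk409 : allRange (guard nn ztRelP) 6 (409 * 2 ^ 6) = true := by decide +kernel
theorem ztRelP_blk410 : allRange (guard nn ztRelP) 6 (410 * 2 ^ 6) = true := by decide +kernel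
theorem ztRelP_blk411 : allRange (guard nn ztRelP) 6 (411 * 2 ^ 6) = true := by decide +kernel
theorem ztRelP_blk412 : allRange (guard nn ztRelP) 6 (412 * 2 ^ 6) = true := by decide +kernel
theorem ztRelP_blk413 : allRange (guard nn ztRelP) 6 (413 * 2 ^ 6) = true := by decide +kernel
theorem ztRelP_blk414 : allRange (guard nn ztRelP) 6 (414 * 2 ^ 6) = true := by decide +kernel
theorem ztRelP_blk415 : allRange (guard nn ztRelP) 6 (415 * 2 ^ 6) = true := by decide +kernel
theorem ztRelP_blk416 : allRange (guard nn ztRelP) 6 (416 * 2 ^ 6) = true := by decide +kernel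
theorem ztRelP_blk417 : allRange (guard nn ztRelP) 6 (417 * 2 ^ 6) = true := by decide +kernel
theorem ztRelP_blk418 : allRange (guard nn ztRelP) 6 (418 * 2 ^ 6) = true := by decide +kernel
theorem ztRelP_blk419 : allRange (guard nn ztRelP) 6 (419 * 2 ^ 6) = true := by decide +kernel
theorem ztRelP_blk420 : allRange (guard nn ztRelP) 6 (420 * 2 ^ 6) = true := by decide +kernel
theorem ztRelP_blk421 : allRange (guard nn ztRelP) 6 (421 * 2 ^ 6) = true := by decide +kernel
theorem ztRelP_blk422 : allRange (guard nn ztRelP) 6 (422 * 2 ^ 6) = true := by decide +kernel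
theorem ztRelP_blk423 : allRange (guard nn ztRelP) 6 (423 * 2 ^ 6) = true := by decide +kernel
theorem ztRelP_blk424 : allRange (guard nn ztRelP) 6 (424 * 2 ^ 6) = true := by decide +kernel
theorem ztRelP_blk425 : allRange (guard nn ztRelP) 6 (425 * 2 ^ 6) = true := by decide +kernel
theorem ztRelP_blk426 : allRange (guard nn ztRelP) 6 (426 * 2 ^ 6) = true := by decide +kernel
theorem ztRelP_blk427 : allRange (guard nn ztRelP) 6 (427 * 2 ^ 6) = true := by decide +kernel
theorem ztRelP_blk428 : allRange (guard nn ztRelP) 6 (428 * 2 ^ 6) = true := by decide +kernel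
theorem ztRelP_blk429 : allRange (guard nn ztRelP) 6 (429 * 2 ^ 6) = true := by decide +kernel
theorem ztRelP_blk430 : allRange (guard nn ztRelP) 6 (430 * 2 ^ 6) = true := by decide +kernel
theorem ztRelP_blk431 : allRange (guard nn ztRelP) 6 (431 * 2 ^ 6) = true := by decide +kernel
theorem ztRelP_blk432 : allRange (guard nn ztRelP) 6 (432 * 2 ^ 6) = true := by decide +kernel
theorem ztRelP_blk433 : allRange (guard nn ztRelP) 6 (433 * 2 ^ 6) = true := by decide +kernel
theorem ztRelP_blk434 : allRange (guard nn ztRelP) 6 (434 * 2 ^ 6) = true := by decide +kernel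
theorem ztRelP_blk435 : allRange (guard nn ztRelP) 6 (435 * 2 ^ 6) = true := by decide +kernel
theorem ztRelP_blk436 : allRange (guard nn ztRelP) 6 (436 * 2 ^ 6) = true := by decide +kernel
theorem ztRelP_blk437 : allRange (guard nn ztRelP) 6 (437 * 2 ^ 6) = true := by decide +kernel
theorem ztRelP_blk438 : allRange (guard nn ztRelP) 6 (438 * 2 ^ 6) = true := by decide +kernel
theorem ztRelP_blk439 : allRange (guard nn ztRelP) 6 (439 * 2 ^ 6) = true := by decide +kernel
theorem ztRelP_blk440 : allRange (guard nn ztRelP) 6 (440 * 2 ^ 6) = true := by decide +kernel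
theorem ztRelP_blk441 : allRange (guard nn ztRelP) 6 (441 * 2 ^ 6) = true := by decide +kernel
theorem ztRelP_blk442 : allRange (guard nn ztRelP) 6 (442 * 2 ^ 6) = true := by decide +kernel
theorem ztRelP_blk443 : allRange (guard nn ztRelP) 6 (443 * 2 ^ 6) = true := by decide +kernel
theorem ztRelP_blk444 : allRange (guard nn ztRelP) 6 (444 * 2 ^ 6) = true := by decide +kernel
theorem ztRelP_blk445 : allRange (guard nn ztRelP) 6 (445 * 2 ^ 6) = true := by decide +kernel
theorem ztRelP_blk446 : allRange (guard nn ztRelP) 6 (446 * 2 ^ 6) = true := by decide +kernel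
theorem ztRelP_blk447 : allRange (guard nn ztRelP) 6 (447 * 2 ^ 6) = true := by decide +kernel
theorem ztRelP_blk448 : allRange (guard nn ztRelP) 6 (448 * 2 ^ 6) = true := by decide +kernel
theorem ztRelP_blk449 : allRange (guard nn ztRelP) 6 (449 * 2 ^ 6) = true := by decide +kernel
theorem ztRelP_blk450 : allRange (guard nn ztRelP) 6 (450 * 2 ^ 6) = true := by decide +kernel
theorem ztRelP_blk451 : allRange (guard nn ztRelP) 6 (451 * 2 ^ 6) = true := by decide +kernel
theorem ztRelP_blk452 : allRange (guard nn ztRelP) 6 (452 * 2 ^ 6) = true := by decide +kernel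
theorem ztRelP_blk453 : allRange (guard nn ztRelP) 6 (453 * 2 ^ 6) = true := by decide +kernel
theorem ztRelP_blk454 : allRange (guard nn ztRelP) 6 (454 * 2 ^ 6) = true := by decide +kernel
theorem ztRelP_blk455 : allRange (guard nn ztRelP) 6 (455 * 2 ^ 6) = true := by decide +kernel
theorem ztRelP_blk456 : allRange (guard nn ztRelP) 6 (456 * 2 ^ 6) = true := by decide +kernel
theorem ztRelP_blk457 : allRange (guard nn ztRelP) 6 (457 * 2 ^ 6) = true := by decide +kernel
theorem ztRelP_blk458 : allRange (guard nn ztRelP) 6 (458 * 2 ^ 6) = true := by decide +kernel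
theorem ztRelP_blk459 : allRange (guard nn ztRelP) 6 (459 * 2 ^ 6) = true := by decide +kernel
theorem ztRelP_blk460 : allRange (guard nn ztRelP) 6 (460 * 2 ^ 6) = true := by decide +kernel
theorem ztRelP_blk461 : allRange (guard nn ztRelP) 6 (461 * 2 ^ 6) = true := by decide +kernel
theorem ztRelP_blk462 : allRange (guard nn ztRelP) 6 (462 * 2 ^ 6) = true := by decide +kernel
theorem ztRelP_blk463 : allRange (guard nn ztRelP) 6 (463 * 2 ^ 6) = true := by decide +kernel
theorem ztRelP_blk464 : allRange (guard nn ztRelP) 6 (464 * 2 ^ 6) = true := by decide +kernel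
theorem ztRelP_blk465 : allRange (guard nn ztRelP) 6 (465 * 2 ^ 6) = true := by decide +kernel
theorem ztRelP_blk466 : allRange (guard nn ztRelP) 6 (466 * 2 ^ 6) = true := by decide +kernel
theorem ztRelP_blk467 : allRange (guard nn ztRelP) 6 (467 * 2 ^ 6) = true := by decide +kernel
theorem ztRelP_blk468 : allRange (guard nn ztRelP) 6 (468 * 2 ^ 6) = true := by decide +kernel
theorem ztRelP_blk469 : allRange (guard nn ztRelP) 6 (469 * 2 ^ 6) = true := by decide +kernel
theorem ztRelP_blk470 : allRange (guard nn ztRelP) 6 (470 * 2 ^ 6) = true := by decide +kernel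
theorem ztRelP_blk471 : allRange (guard nn ztRelP) 6 (471 * 2 ^ 6) = true := by decide +kernel
theorem ztRelP_blk472 : allRange (guard nn ztRelP) 6 (472 * 2 ^ 6) = true := by decide +kernel
theorem ztRelP_blk473 : allRange (guard nn ztRelP) 6 (473 * 2 ^ 6) = true := by decide +kernel
theorem ztRelP_blk474 : allRange (guard nn ztRelP) 6 (474 * 2 ^ 6) = true := by decide +kernel
theorem ztRelP_blk475 : allRange (guard nn ztRelP) 6 (475 * 2 ^ 6) = true := by decide +kernel
theorem ztRelP_blk476 : allRange (guard nn ztRelP) 6 (476 * 2 ^ 6) = true := by decide +kernel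
theorem ztRelP_blk477 : allRange (guard nn ztRelP) 6 (477 * 2 ^ 6) = true := by decide +kernel
theorem ztRelP_blk478 : allRange (guard nn ztRelP) 6 (478 * 2 ^ 6) = true := by decide +kernel
theorem ztRelP_blk479 : allRange (guard nn ztRelP) 6 (479 * 2 ^ 6) = true := by decide +kernel
theorem ztRelP_blk480 : allRange (guard nn ztRelP) 6 (480 * 2 ^ 6) = true := by decide +kernel
theorem ztRelP_blk481 : allRange (guard nn ztRelP) 6 (481 * 2 ^ 6) = true := by decide +kernel
theorem ztRelP_blk482 : allRange (guard nn ztRelP) 6 (482 * 2 ^ 6) = true := by decide +kernel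
theorem ztRelP_blk483 : allRange (guard nn ztRelP) 6 (483 * 2 ^ 6) = true := by decide +kernel
theorem ztRelP_blk484 : allRange (guard nn ztRelP) 6 (484 * 2 ^ 6) = true := by decide +kernel
theorem ztRelP_blk485 : allRange (guard nn ztRelP) 6 (485 * 2 ^ 6) = true := by decide +kernel
theorem ztRelP_blk486 : allRange (guard nn ztRelP) 6 (486 * 2 ^ 6) = true := by decide +kernel
theorem ztRelP_blk487 : allRange (guard nn ztRelP) 6 (487 * 2 ^ 6) = true := by decide +kernel
theorem ztRelP_blk488 : allRange (guard nn ztRelP) 6 (488 * 2 ^ 6) = true := by decide +kernel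
theorem ztRelP_blk489 : allRange (guard nn ztRelP) 6 (489 * 2 ^ 6) = true := by decide +kernel
theorem ztRelP_blk490 : allRange (guard nn ztRelP) 6 (490 * 2 ^ 6) = true := by decide +kernel
theorem ztRelP_blk491 : allRange (guard nn ztRelP) 6 (491 * 2 ^ 6) = true := by decide +kernel
theorem ztRelP_blk492 : allRange (guard nn ztRelP) 6 (492 * 2 ^ 6) = true := by decide +kernel
theorem ztRelP_blk493 : allRange (guard nn ztRelP) 6 (493 * 2 ^ 6) = true := by decide +kernel
theorem ztRelP_blk494 : allRange (guard nn ztRelP) 6 (494 * 2 ^ 6) = true := by decide +kernel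
theorem ztRelP_all : ∀ i, i < nn → ztRelP i = true := by
  refine all_of_blocks nn ztRelP 6 495 (by decide) ?_
  intro k hk
  interval_cases k
  · exact ztRelP_blk0
  · exact ztRelP_blk1
  · exact ztRelP_blk2
  · exact ztRelP_blk3
  · exact ztRelP_blk4
  · exact ztRelP_blk5
  · exact ztRelP_blk6
  · exact ztRelP_blk7
  · exact ztRelP_blk8
  · exact ztRelP_blk9
  · exact ztRelP_blk10
  · exact ztRelP_blk11
  · exact ztRelP_blk12
  · exact ztRelP_blk13
  · exact ztRelP_blk14
  · exact ztRelP_blk15
  · exact ztRelP_blk16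
  · exact ztRelP_blk17
  · exact ztRelP_blk18
  · exact ztRelP_blk19
  · exact ztRelP_blk20
  · exact ztRelP_blk21
  · exact ztRelP_blk22
  · exact ztRelP_blk23
  · exact ztRelP_blk24
  · exact ztRelP_blk25
  · exact ztRelP_blk26
  · exact ztRelP_blk27
  · exact ztRelP_blk28
  · exact ztRelP_blk29
  · exact ztRelP_blk30
  · exact ztRelP_blk31
  · exact ztRelP_blk32
  · exact ztRelP_blk33
  · exact ztRelP_blk34
  · exact ztRelP_blk35
  · exact ztRelP_blk36
  · exact ztRelP_blk37
  · exact ztRelP_blk38
  · exact ztRelP_blk39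
  · exact ztRelP_blk40
  · exact ztRelP_blk41
  · exact ztRelP_blk42
  · exact ztRelP_blk43
  · exact ztRelP_blk44
  · exact ztRelP_blk45
  · exact ztRelP_blk46
  · exact ztRelP_blk47
  · exact ztRelP_blk48
  · exact ztRelP_blk49
  · exact ztRelP_blk50
  · exact ztRelP_blk51
  · exact ztRelP_blk52
  · exact ztRelP_blk53
  · exact ztRelP_blk54
  · exact ztRelP_blk55
  · exact ztRelP_blk56
  · exact ztRelP_blk57
  · exact ztRelP_blk58
  · exact ztRelP_blk59
  · exact ztRelP_blk60
  · exact ztRelP_blk61
  · exact ztRelP_blk62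
  · exact ztRelP_blk63
  · exact ztRelP_blk64
  · exact ztRelP_blk65
  · exact ztRelP_blk66
  · exact ztRelP_blk67
  · exact ztRelP_blk68
  · exact ztRelP_blk69
  · exact ztRelP_blk70
  · exact ztRelP_blk71
  · exact ztRelP_blk72
  · exact ztRelP_blk73
  · exact ztRelP_blk74
  · exact ztRelP_blk75
  · exact ztRelP_blk76
  · exact ztRelP_blk77
  · exact ztRelP_blk78
  · exact ztRelP_blk79
  · exact ztRelP_blk80
  · exact ztRelP_blk81
  · exact ztRelP_blk82
  · exact ztRelP_blk83
  · exact ztRelP_blk84
  · exact ztRelP_blk85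
  · exact ztRelP_blk86
  · exact ztRelP_blk87
  · exact ztRelP_blk88
  · exact ztRelP_blk89
  · exact ztRelP_blk90
  · exact ztRelP_blk91
  · exact ztRelP_blk92
  · exact ztRelP_blk93
  · exact ztRelP_blk94
  · exact ztRelP_blk95
  · exact ztRelP_blk96
  · exact ztRelP_blk97
  · exact ztRelP_blk98
  · exact ztRelP_blk99
  · exact ztRelP_blk100
  · exact ztRelP_blk101
  · exact ztRelP_blk102
  · exact ztRelP_blk103
  · exact ztRelP_blk104
  · exact ztRelP_blk105
  · exact ztRelP_blk106
  · exact ztRelP_blk107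
  · exact ztRelP_blk108
  · exact ztRelP_blk109
  · exact ztRelP_blk110
  · exact ztRelP_blk111
  · exact ztRelP_blk112
  · exact ztRelP_blk113
  · exact ztRelP_blk114
  · exact ztRelP_blk115
  · exact ztRelP_blk116
  · exact ztRelP_blk117
  · exact ztRelP_blk118
  · exact ztRelP_blk119
  · exact ztRelP_blk120
  · exact ztRelP_blk121
  · exact ztRelP_blk122
  · exact ztRelP_blk123
  · exact ztRelP_blk124
  · exact ztRelP_blk125
  · exact ztRelP_blk126
  · exact ztRelP_blk127
  · exact ztRelP_blk128
  · exact ztRelP_blk129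
  · exact ztRelP_blk130
  · exact ztRelP_blk131
  · exact ztRelP_blk132
  · exact ztRelP_blk133
  · exact ztRelP_blk134
  · exact ztRelP_blk135
  · exact ztRelP_blk136
  · exact ztRelP_blk137
  · exact ztRelP_blk138
  · exact ztRelP_blk139
  · exact ztRelP_blk140
  · exact ztRelP_blk141
  · exact ztRelP_blk142
  · exact ztRelP_blk143
  · exact ztRelP_blk144
  · exact ztRelP_blk145
  · exact ztRelP_blk146
  · exact ztRelP_blk147
  · exact ztRelP_blk148
  · exact ztRelP_blk149
  · exact ztRelP_blk150
  · exact ztRelP_blk151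
  · exact ztRelP_blk152
  · exact ztRelP_blk153
  · exact ztRelP_blk154
  · exact ztRelP_blk155
  · exact ztRelP_blk156
  · exact ztRelP_blk157
  · exact ztRelP_blk158
  · exact ztRelP_blk159
  · exact ztRelP_blk160
  · exact ztRelP_blk161
  · exact ztRelP_blk162
  · exact ztRelP_blk163
  · exact ztRelP_blk164
  · exact ztRelP_blk165
  · exact ztRelP_blk166
  · exact ztRelP_blk167
  · exact ztRelP_blk168
  · exact ztRelP_blk169
  · exact ztRelP_blk170
  · exact ztRelP_blk171
  · exact ztRelP_blk172
  · exact ztRelP_blk173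
  · exact ztRelP_blk174
  · exact ztRelP_blk175
  · exact ztRelP_blk176
  · exact ztRelP_blk177
  · exact ztRelP_blk178
  · exact ztRelP_blk179
  · exact ztRelP_blk180
  · exact ztRelP_blk181
  · exact ztRelP_blk182
  · exact ztRelP_blk183
  · exact ztRelP_blk184
  · exact ztRelP_blk185
  · exact ztRelP_blk186
  · exact ztRelP_blk187
  · exact ztRelP_blk188
  · exact ztRelP_blk189
  · exact ztRelP_blk190
  · exact ztRelP_blk191
  · exact ztRelP_blk192
  · exact ztRelP_blk193
  · exact ztRelP_blk194
  · exact ztRelP_blk195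
  · exact ztRelP_blk196
  · exact ztRelP_blk197
  · exact ztRelP_blk198
  · exact ztRelP_blk199
  · exact ztRelP_blk200
  · exact ztRelP_blk201
  · exact ztRelP_blk202
  · exact ztRelP_blk203
  · exact ztRelP_blk204
  · exact ztRelP_blk205
  · exact ztRelP_blk206
  · exact ztRelP_blk207
  · exact ztRelP_blk208
  · exact ztRelP_blk209
  · exact ztRelP_blk210
  · exact ztRelP_blk211
  · exact ztRelP_blk212
  · exact ztRelP_blk213
  · exact ztRelP_blk214
  · exact ztRelP_blk215
  · exact ztRelP_blk216
  · exact ztRelP_blk217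
  · exact ztRelP_blk218
  · exact ztRelP_blk219
  · exact ztRelP_blk220
  · exact ztRelP_blk221
  · exact ztRelP_blk222
  · exact ztRelP_blk223
  · exact ztRelP_blk224
  · exact ztRelP_blk225
  · exact ztRelP_blk226
  · exact ztRelP_blk227
  · exact ztRelP_blk228
  · exact ztRelP_blk229
  · exact ztRelP_blk230
  · exact ztRelP_blk231
  · exact ztRelP_blk232
  · exact ztRelP_blk233
  · exact ztRelP_blk234
  · exact ztRelP_blk235
  · exact ztRelP_blk236
  · exact ztRelP_blk237
  · exact ztRelP_blk238
  · exact ztRelP_blk239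
  · exact ztRelP_blk240
  · exact ztRelP_blk241
  · exact ztRelP_blk242
  · exact ztRelP_blk243
  · exact ztRelP_blk244
  · exact ztRelP_blk245
  · exact ztRelP_blk246
  · exact ztRelP_blk247
  · exact ztRelP_blk248
  · exact ztRelP_blk249
  · exact ztRelP_blk250
  · exact ztRelP_blk251
  · exact ztRelP_blk252
  · exact ztRelP_blk253
  · exact ztRelP_blk254
  · exact ztRelP_blk255
  · exact ztRelP_blk256
  · exact ztRelP_blk257
  · exact ztRelP_blk258
  · exact ztRelP_blk259
  · exact ztRelP_blk260
  · exact ztRelP_blk261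
  · exact ztRelP_blk262
  · exact ztRelP_blk263
  · exact ztRelP_blk264
  · exact ztRelP_blk265
  · exact ztRelP_blk266
  · exact ztRelP_blk267
  · exact ztRelP_blk268
  · exact ztRelP_blk269
  · exact ztRelP_blk270
  · exact ztRelP_blk271
  · exact ztRelP_blk272
  · exact ztRelP_blk273
  · exact ztRelP_blk274
  · exact ztRelP_blk275
  · exact ztRelP_blk276
  · exact ztRelP_blk277
  · exact ztRelP_blk278
  · exact ztRelP_blk279
  · exact ztRelP_blk280
  · exact ztRelP_blk281
  · exact ztRelP_blk282
  · exact ztRelP_blk283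
  · exact ztRelP_blk284
  · exact ztRelP_blk285
  · exact ztRelP_blk286
  · exact ztRelP_blk287
  · exact ztRelP_blk288
  · exact ztRelP_blk289
  · exact ztRelP_blk290
  · exact ztRelP_blk291
  · exact ztRelP_blk292
  · exact ztRelP_blk293
  · exact ztRelP_blk294
  · exact ztRelP_blk295
  · exact ztRelP_blk296
  · exact ztRelP_blk297
  · exact ztRelP_blk298
  · exact ztRelP_blk299
  · exact ztRelP_blk300
  · exact ztRelP_blk301
  · exact ztRelP_blk302
  · exact ztRelP_blk303
  · exact ztRelP_blk304
  · exact ztRelP_blk305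
  · exact ztRelP_blk306
  · exact ztRelP_blk307
  · exact ztRelP_blk308
  · exact ztRelP_blk309
  · exact ztRelP_blk310
  · exact ztRelP_blk311
  · exact ztRelP_blk312
  · exact ztRelP_blk313
  · exact ztRelP_blk314
  · exact ztRelP_blk315
  · exact ztRelP_blk316
  · exact ztRelP_blk317
  · exact ztRelP_blk318
  · exact ztRelP_blk319
  · exact ztRelP_blk320
  · exact ztRelP_blk321
  · exact ztRelP_blk322
  · exact ztRelP_blk323
  · exact ztRelP_blk324
  · exact ztRelP_blk325
  · exact ztRelP_blk326
  · exact ztRelP_blk327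
  · exact ztRelP_blk328
  · exact ztRelP_blk329
  · exact ztRelP_blk330
  · exact ztRelP_blk331
  · exact ztRelP_blk332
  · exact ztRelP_blk333
  · exact ztRelP_blk334
  · exact ztRelP_blk335
  · exact ztRelP_blk336
  · exact ztRelP_blk337
  · exact ztRelP_blk338
  · exact ztRelP_blk339
  · exact ztRelP_blk340
  · exact ztRelP_blk341
  · exact ztRelP_blk342
  · exact ztRelP_blk343
  · exact ztRelP_blk344
  · exact ztRelP_blk345
  · exact ztRelP_blk346
  · exact ztRelP_blk347
  · exact ztRelP_blk348
  · exact ztRelP_blk349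
  · exact ztRelP_blk350
  · exact ztRelP_blk351
  · exact ztRelP_blk352
  · exact ztRelP_blk353
  · exact ztRelP_blk354
  · exact ztRelP_blk355
  · exact ztRelP_blk356
  · exact ztRelP_blk357
  · exact ztRelP_blk358
  · exact ztRelP_blk359
  · exact ztRelP_blk360
  · exact ztRelP_blk361
  · exact ztRelP_blk362
  · exact ztRelP_blk363
  · exact ztRelP_blk364
  · exact ztRelP_blk365
  · exact ztRelP_blk366
  · exact ztRelP_blk367
  · exact ztRelP_blk368
  · exact ztRelP_blk369
  · exact ztRelP_blk370
  · exact ztRelP_blk371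
  · exact ztRelP_blk372
  · exact ztRelP_blk373
  · exact ztRelP_blk374
  · exact ztRelP_blk375
  · exact ztRelP_blk376
  · exact ztRelP_blk377
  · exact ztRelP_blk378
  · exact ztRelP_blk379
  · exact ztRelP_blk380
  · exact ztRelP_blk381
  · exact ztRelP_blk382
  · exact ztRelP_blk383
  · exact ztRelP_blk384
  · exact ztRelP_blk385
  · exact ztRelP_blk386
  · exact ztRelP_blk387
  · exact ztRelP_blk388
  · exact ztRelP_blk389
  · exact ztRelP_blk390
  · exact ztRelP_blk391
  · exact ztRelP_blk392
  · exact ztRelP_blk393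
  · exact ztRelP_blk394
  · exact ztRelP_blk395
  · exact ztRelP_blk396
  · exact ztRelP_blk397
  · exact ztRelP_blk398
  · exact ztRelP_blk399
  · exact ztRelP_blk400
  · exact ztRelP_blk401
  · exact ztRelP_blk402
  · exact ztRelP_blk403
  · exact ztRelP_blk404
  · exact ztRelP_blk405
  · exact ztRelP_blk406
  · exact ztRelP_blk407
  · exact ztRelP_blk408
  · exact ztRelP_blk409
  · exact ztRelP_blk410
  · exact ztRelP_blk411
  · exact ztRelP_blk412
  · exact ztRelP_blk413
  · exact ztRelP_blk414
  · exact ztRelP_blk415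
  · exact ztRelP_blk416
  · exact ztRelP_blk417
  · exact ztRelP_blk418
  · exact ztRelP_blk419
  · exact ztRelP_blk420
  · exact ztRelP_blk421
  · exact ztRelP_blk422
  · exact ztRelP_blk423
  · exact ztRelP_blk424
  · exact ztRelP_blk425
  · exact ztRelP_blk426
  · exact ztRelP_blk427
  · exact ztRelP_blk428
  · exact ztRelP_blk429
  · exact ztRelP_blk430
  · exact ztRelP_blk431
  · exact ztRelP_blk432
  · exact ztRelP_blk433
  · exact ztRelP_blk434
  · exact ztRelP_blk435
  · exact ztRelP_blk436
  · exact ztRelP_blk437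
  · exact ztRelP_blk438
  · exact ztRelP_blk439
  · exact ztRelP_blk440
  · exact ztRelP_blk441
  · exact ztRelP_blk442
  · exact ztRelP_blk443
  · exact ztRelP_blk444
  · exact ztRelP_blk445
  · exact ztRelP_blk446
  · exact ztRelP_blk447
  · exact ztRelP_blk448
  · exact ztRelP_blk449
  · exact ztRelP_blk450
  · exact ztRelP_blk451
  · exact ztRelP_blk452
  · exact ztRelP_blk453
  · exact ztRelP_blk454
  · exact ztRelP_blk455
  · exact ztRelP_blk456
  · exact ztRelP_blk457
  · exact ztRelP_blk458
  · exact ztRelP_blk459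
  · exact ztRelP_blk460
  · exact ztRelP_blk461
  · exact ztRelP_blk462
  · exact ztRelP_blk463
  · exact ztRelP_blk464
  · exact ztRelP_blk465
  · exact ztRelP_blk466
  · exact ztRelP_blk467
  · exact ztRelP_blk468
  · exact ztRelP_blk469
  · exact ztRelP_blk470
  · exact ztRelP_blk471
  · exact ztRelP_blk472
  · exact ztRelP_blk473
  · exact ztRelP_blk474
  · exact ztRelP_blk475
  · exact ztRelP_blk476
  · exact ztRelP_blk477
  · exact ztRelP_blk478
  · exact ztRelP_blk479
  · exact ztRelP_blk480
  · exact ztRelP_blk481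
  · exact ztRelP_blk482
  · exact ztRelP_blk483
  · exact ztRelP_blk484
  · exact ztRelP_blk485
  · exact ztRelP_blk486
  · exact ztRelP_blk487
  · exact ztRelP_blk488
  · exact ztRelP_blk489
  · exact ztRelP_blk490
  · exact ztRelP_blk491
  · exact ztRelP_blk492
  · exact ztRelP_blk493
  · exact ztRelP_blk494

end

end Cfsg.Agent.Lib.Helper28.Fi23x31671
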