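/-
In the presented Fischer group Fi₂₃ the subgroup `⟨a, …, i⟩` is a non-split double cover of the
presented Fischer group Fi₂₂.
-/
import Cfsg.Agent.Lib.Helper28.Fi23Ord.Simple
import Cfsg.Agent.Lib.Helper28.Fi22Ord.Simple
import Cfsg.Agent.Lib.Helper28.Fi23Ord.ZRel
import Cfsg.Agent.Lib.Helper28.CentralQuot
import Cfsg.Prelude.Def_SporadicB

set_option autoImplicit false

namespace Cfsg.Agent.Lib.Helper28.Fi23Ord

open Cfsg.Agent.Lib.Helper28.TC
open Cfsg.Agent.Lib.Helper28.Ord
open Cfsg.Agent.Lib.Helper28.CQ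
open Cfsg.Spor.Fi23 (Gen)

/-- the inclusion of the generators of Fi₂₂ into those of Fi₂₃ -/
def iota22 : Cfsg.Spor.Fi22.Gen → Gen
  | .a => .a
  | .b => .b
  | .c => .c
  | .d => .d
  | .e => .e
  | .f => .f
  | .g => .g
  | .h => .h
  | .i => .i

/-- the word of `(b c d e f g h)^9` -/
def zw : List Gen :=
  (List.replicate 9 [Gen.b, Gen.c, Gen.d, Gen.e, Gen.f, Gen.g, Gen.h]).flatten

theorem ztRel_eq : Fi23x31671.ztRel = [zw ++ tw] := by decide

theorem tF_sq : tF * tF = 1 := by
  have h : tF = (wval gv vw)⁻¹ * gv Gen.d * wval gv vw := by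
    rw [tF, tw, wval_append, wval_cons, wval_reverse gv Fi23x31671.hinv, mul_assoc]
  rw [h]
  have hd : gv Gen.d * gv Gen.d = 1 := sq Gen.d
  calc (wval gv vw)⁻¹ * gv Gen.d * wval gv vw * ((wval gv vw)⁻¹ * gv Gen.d * wval gv vw)
      = (wval gv vw)⁻¹ * (gv Gen.d * gv Gen.d) * wval gv vw := by group
    _ = 1 := by rw [hd]; group

/-- `(b c d e f g h)^9` is the central involution `t` -/
theorem wval_zw : wval gv zw = tF := by
  have h := wval_eq_one_of_fix (zw ++ tw) (fun i hi =>
    relRowOK_spec Fi23x31671.tf Fi23x31671.ztRel i (Fi23x31671.ztRelP_all i hi) _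
      (by rw [ztRel_eq]; exact List.mem_singleton.2 rfl))
  rw [wval_append] at h
  have h2 : wval gv zw = (wval gv tw)⁻¹ := eq_inv_of_mul_eq_one_left h
  rw [h2]
  exact inv_eq_of_mul_eq_one_left tF_sq

/-- the generators of `2·Fi₂₂` -/
noncomputable abbrev g22 (x : Cfsg.Spor.Fi22.Gen) : GF := gv (iota22 x)

theorem KF_eq_range : KF = Subgroup.closure (Set.range g22) := by
  rw [KF_eq_closure]
  congr 1
  ext y
  constructor
  · rintro ⟨s, hs, rfl⟩
    rcases hs with rfl | rfl | rfl | rfl | rfl | rfl | rfl | rfl | rfl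
    · exact ⟨.a, rfl⟩
    · exact ⟨.b, rfl⟩
    · exact ⟨.c, rfl⟩
    · exact ⟨.d, rfl⟩
    · exact ⟨.e, rfl⟩
    · exact ⟨.f, rfl⟩
    · exact ⟨.g, rfl⟩
    · exact ⟨.h, rfl⟩
    · exact ⟨.i, rfl⟩
  · rintro ⟨x, rfl⟩
    cases x
    · exact ⟨_, Or.inl rfl, rfl⟩
    · exact ⟨_, Or.inr (Or.inl rfl), rfl⟩
    · exact ⟨_, Or.inr (Or.inr (Or.inl rfl)), rfl⟩
    · exact ⟨_, Or.inr (Or.inr (Or.inr (Or.inl rfl))), rfl⟩
    · exact ⟨_, Or.inr (Or.inr (Or.inr (Or.inr (Or.inl rfl)))), rfl⟩
    · exact ⟨_, Or.inr (Or.inr (Or.inr (Or.inr (Or.inr (Or.inl rfl))))), rfl⟩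
    · exact ⟨_, Or.inr (Or.inr (Or.inr (Or.inr (Or.inr (Or.inr (Or.inl rfl)))))), rfl⟩
    · exact ⟨_, Or.inr (Or.inr (Or.inr (Or.inr (Or.inr (Or.inr (Or.inr (Or.inl rfl))))))), rfl⟩
    · exact ⟨_, Or.inr (Or.inr (Or.inr (Or.inr (Or.inr (Or.inr (Or.inr (Or.inr rfl))))))), rfl⟩

theorem g22_mem (x : Cfsg.Spor.Fi22.Gen) : g22 x ∈ KF := by
  rw [KF_eq_range]
  exact Subgroup.subset_closure ⟨x, rfl⟩

theorem wval_g22_mem (w : List Cfsg.Spor.Fi22.Gen) : wval g22 w ∈ KF := by
  induction w with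
  | nil => exact KF.one_mem
  | cons x w ih => rw [wval_cons]; exact KF.mul_mem (g22_mem x) ih

theorem tF_mem : tF ∈ KF := by
  have h : wval g22 ((List.replicate 9 [Cfsg.Spor.Fi22.Gen.b, .c, .d, .e, .f, .g, .h]).flatten) =
      wval gv zw := by
    rw [wval_comp gv iota22]
    rfl
  rw [← wval_zw, ← h]
  exact wval_g22_mem _

/-- `t` commutes with the generators of `2·Fi₂₂` -/
theorem t_comm (x : Cfsg.Spor.Fi22.Gen) : g22 x * tF = tF * g22 x := by
  have h : gv (iota22 x) * tF * (gv (iota22 x))⁻¹ = tF := by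
    apply conj_t
    rw [tRel_eq]
    cases x <;> simp [iota22]
  exact mul_inv_eq_iff_eq_mul.1 h

theorem t_central : ∀ k ∈ KF, k * tF = tF * k := by
  intro k hk
  have hle : KF ≤ Subgroup.centralizer {tF} := by
    rw [KF_eq_range, Subgroup.closure_le]
    rintro _ ⟨x, rfl⟩
    rw [SetLike.mem_coe, Subgroup.mem_centralizer_iff]
    intro y hy
    rw [Set.mem_singleton_iff.1 hy]
    exact (t_comm x).symm
  have := Subgroup.mem_centralizer_iff.1 (hle hk) tF (Set.mem_singleton _)
  exact this.symm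

/-- `t` as an element of `2·Fi₂₂` -/
noncomputable def tK : KF := ⟨tF, tF_mem⟩

theorem tK_val : (tK : GF) = tF := rfl

/-- the subgroup generated by the central involution -/
noncomputable def ZK : Subgroup KF := Subgroup.zpowers tK

theorem ZK_le_center : ZK ≤ Subgroup.center KF := by
  rw [ZK, Subgroup.zpowers_le]
  rw [Subgroup.mem_center_iff]
  rintro ⟨k, hk⟩
  exact Subtype.ext (t_central k hk)

instance : ZK.Normal := ⟨fun z hz g => by
  have h := Subgroup.mem_center_iff.1 (ZK_le_center hz) g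
  rw [h, mul_inv_cancel_right]
  exact hz⟩

theorem tF_ne_one : tF ≠ 1 := by
  intro h
  have h2 : Subgroup.normalClosure {tF} = ⊥ := by
    rw [h]
    exact Subgroup.normalClosure_eq_bot_iff.2 (by simp) 
  rw [normalClosure_t] at h2
  have := nontrivial_GF
  exact top_ne_bot h2

theorem card_ZK : Nat.card ZK = 2 := by
  rw [ZK, Nat.card_zpowers]
  apply orderOf_eq_prime
  · rw [pow_two]
    exact Subtype.ext tF_sq
  · intro h
    have h2 : (tK : GF) = ((1 : KF) : GF) := congrArg Subtype.val h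
    rw [tK_val, Subgroup.coe_one] at h2
    exact tF_ne_one h2

theorem tK_mem : tK ∈ ZK := Subgroup.mem_zpowers tK

/-! ### The homomorphism from Fi₂₂ -/

theorem g22_sq (x : Cfsg.Spor.Fi22.Gen) : g22 x * g22 x = 1 := sq (iota22 x)

theorem rel22_map1 : ∀ e ∈ coxE Cfsg.Spor.Fi22.edges,
    e.evalW.map iota22 ∈ Fi23x31671.relWords := by
  decide +kernel

theorem rel22_map2 : ∀ e ∈ Fi22x3510.extraE,
    e.evalW.map iota22 ∈ Fi23x31671.relWords ∨ e.evalW.map iota22 = zw := by
  decide +kernel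

theorem rel22_map : ∀ e ∈ coxE Cfsg.Spor.Fi22.edges ++ Fi22x3510.extraE,
    e.evalW.map iota22 ∈ Fi23x31671.relWords ∨ e.evalW.map iota22 = zw := by
  intro e he
  rcases List.mem_append.1 he with h | h
  · exact Or.inl (rel22_map1 e h)
  · exact rel22_map2 e h

theorem rel22_val (r : FreeGroup Cfsg.Spor.Fi22.Gen) (hr : r ∈ Fi22x3510.rels) :
    FreeGroup.lift g22 r = 1 ∨ FreeGroup.lift g22 r = tF := by
  obtain ⟨e, he, rfl⟩ := (Fi22x3510.rels_iff r).1 hr
  rw [WE.lift_evalF g22 g22_sq, wval_comp gv iota22]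
  rcases rel22_map e he with h | h
  · left; exact relWord_one _ h
  · right; rw [h]; exact wval_zw

theorem exists_hom22 : ∃ ψ : PresentedGroup Fi22x3510.rels →* (KF ⧸ ZK), Function.Surjective ψ ∧
    ∀ (x : Cfsg.Spor.Fi22.Gen) (hx : g22 x ∈ KF),
      ψ (PresentedGroup.of x) = QuotientGroup.mk ⟨g22 x, hx⟩ := by
  apply exists_surj_hom_quotient Fi22x3510.rels g22 KF KF_eq_range ZK
  intro r hr
  rcases rel22_val r hr with h | h
  · rw [h]; exact ⟨KF.one_mem, ZK.one_mem⟩
  · rw [h]; exact ⟨tF_mem, tK_mem⟩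

instance : Finite KF := inferInstance

theorem card_quot : Nat.card (KF ⧸ ZK) = 64561751654400 := by
  have h := Subgroup.card_eq_card_quotient_mul_card_subgroup ZK
  rw [card_KF, card_ZK] at h
  exact Nat.eq_of_mul_eq_mul_right (by norm_num : 0 < 2) (by rw [← h])

/-- the quotient of `2·Fi₂₂` by its central involution is the presented Fi₂₂ -/
theorem exists_iso22 : Nonempty ((KF ⧸ ZK) ≃* PresentedGroup Fi22x3510.rels) := by
  obtain ⟨ψ, hsurj, _⟩ := exists_hom22
  have := Fi22Ord.finite_Fi22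
  have hbij : Function.Bijective ψ := by
    apply Function.Surjective.bijective_of_nat_card_le hsurj
    rw [card_quot, Fi22Ord.card_Fi22]
  exact ⟨(MulEquiv.ofBijective ψ hbij).symm⟩

theorem center_quot : Subgroup.center (KF ⧸ ZK) = ⊥ := by
  obtain ⟨e⟩ := exists_iso22
  have := Fi22Ord.finite_Fi22
  have := Fi22Ord.isSimpleGroup_GF
  have hc : Subgroup.center (PresentedGroup Fi22x3510.rels) = ⊥ := by
    apply center_eq_bot_of_simple
    rw [Fi22Ord.card_Fi22]
    norm_num
  rw [Subgroup.eq_bot_iff_forall]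
  intro q hq
  have h1 : e q ∈ Subgroup.center (PresentedGroup Fi22x3510.rels) := by
    rw [Subgroup.mem_center_iff]
    intro p
    obtain ⟨q', rfl⟩ := e.surjective p
    rw [← map_mul, ← map_mul, Subgroup.mem_center_iff.1 hq q']
  rw [hc, Subgroup.mem_bot] at h1
  exact e.injective (h1.trans (map_one e).symm)

theorem center_KF : Subgroup.center KF = ZK :=
  center_eq_of_quotient ZK ZK_le_center center_quot

/-! ### Non-splitness -/

/-- the generators as elements of the subgroup -/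
noncomputable def gK (x : Cfsg.Spor.Fi22.Gen) : KF := ⟨g22 x, g22_mem x⟩

theorem closure_gK : Subgroup.closure (Set.range gK) = ⊤ :=
  closure_range_subtype_eq_top g22 KF KF_eq_range gK (fun _ => rfl)

theorem gK_sq (x : Cfsg.Spor.Fi22.Gen) : gK x * gK x = 1 := Subtype.ext (g22_sq x)

theorem gK_cube (x y : Cfsg.Spor.Fi22.Gen)
    (h : [iota22 x, iota22 y, iota22 x, iota22 y, iota22 x, iota22 y] ∈ Fi23x31671.relWords) :
    (gK x * gK y) ^ 3 = 1 := by
  apply Subtype.ext
  rw [Subgroup.coe_pow, Subgroup.coe_mul]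
  exact rel_cube (iota22 x) (iota22 y) h

theorem gK_e7 : (gK .a * gK .b * gK .c * gK .d * gK .e * gK .f * gK .h) ^ 9 = 1 := by
  apply Subtype.ext
  rw [Subgroup.coe_pow]
  simp only [Subgroup.coe_mul]
  exact rel_e7

/-- every homomorphism from `2·Fi₂₂` to a commutative group is trivial -/
theorem hom_KF_trivial {Q : Type*} [CommGroup Q] (π : KF →* Q) (k : KF) : π k = 1 := by
  have hsq : ∀ y, π (gK y) * π (gK y) = 1 := fun y => by rw [← map_mul, gK_sq, map_one]
  have step : ∀ x y : Cfsg.Spor.Fi22.Gen,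
      [iota22 x, iota22 y, iota22 x, iota22 y, iota22 x, iota22 y] ∈ Fi23x31671.relWords →
      π (gK x) = π (gK y) := by
    intro x y hxy
    have h := congrArg π (gK_cube x y hxy)
    rw [map_pow, map_mul, map_one] at h
    exact comm_eq_of_cube _ _ (hsq _) (hsq _) h
  have hb := step .a .b (by decide)
  have hc := step .b .c (by decide)
  have hd := step .c .d (by decide)
  have he := step .d .e (by decide)
  have hh := step .d .h (by decide)
  have hf := step .e .f (by decide)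
  have hg := step .f .g (by decide)
  have hi := step .h .i (by decide)
  have ha : π (gK .a) = 1 := by
    have h := congrArg π gK_e7
    rw [map_pow, map_mul, map_mul, map_mul, map_mul, map_mul, map_mul, map_one,
      ← hh, ← hf, ← he, ← hd, ← hc, ← hb] at h
    set A := π (gK .a) with hA
    have hA2 : A * A = 1 := hsq .a
    have h7 : A * A * A * A * A * A * A = A := by
      rw [hA2, one_mul, hA2, one_mul, hA2, one_mul]
    rw [h7] at h
    have h9 : A ^ 9 = A := by
      rw [show (9 : ℕ) = 2 * 4 + 1 from rfl, pow_succ, pow_mul, pow_two, hA2, one_pow, one_mul]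
    rw [h9] at h
    exact h
  have hall : ∀ x, π (gK x) = 1 := by
    intro x
    cases x
    · exact ha
    · rw [← hb, ha]
    · rw [← hc, ← hb, ha]
    · rw [← hd, ← hc, ← hb, ha]
    · rw [← he, ← hd, ← hc, ← hb, ha]
    · rw [← hf, ← he, ← hd, ← hc, ← hb, ha]
    · rw [← hg, ← hf, ← he, ← hd, ← hc, ← hb, ha]
    · rw [← hh, ← hd, ← hc, ← hb, ha]
    · rw [← hi, ← hh, ← hd, ← hc, ← hb, ha]
  have hker : Subgroup.closure (Set.range gK) ≤ π.ker := by
    rw [Subgroup.closure_le]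
    rintro _ ⟨x, rfl⟩
    exact hall x
  rw [closure_gK] at hker
  exact hker (Subgroup.mem_top k)

theorem no_index_two (L : Subgroup KF) : L.index ≠ 2 := by
  intro h
  have hn : L.Normal := Subgroup.normal_of_index_eq_two h
  have hcard : Nat.card (KF ⧸ L) = 2 := h
  have : Fact (Nat.Prime 2) := ⟨Nat.prime_two⟩
  have hcyc : IsCyclic (KF ⧸ L) := isCyclic_of_prime_card hcard
  let _ : CommGroup (KF ⧸ L) := IsCyclic.commGroup
  have htop : L = ⊤ := by
    rw [eq_top_iff]
    intro k _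
    have := hom_KF_trivial (QuotientGroup.mk' L) k
    exact (QuotientGroup.eq_one_iff k).1 this
  rw [htop, Subgroup.index_top] at h
  exact absurd h (by decide)

theorem no_complement (L : Subgroup KF) : ¬ (Subgroup.center KF).IsComplement' L := by
  intro hc
  apply no_index_two L
  rw [hc.index_eq_card, center_KF, card_ZK]

/-- `⟨a, …, i⟩` is a non-split double cover of the presented Fi₂₂ -/
theorem nonsplit_cover : Cfsg.IsNonsplitDoubleCover KF (PresentedGroup Fi22x3510.rels) := by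
  refine ⟨?_, ?_, no_complement⟩
  · rw [center_KF, card_ZK]
  · obtain ⟨e⟩ := exists_iso22
    exact ⟨(QuotientGroup.quotientMulEquivOfEq center_KF).trans e⟩

end Cfsg.Agent.Lib.Helper28.Fi23Ord
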