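import Cfsg.Agent.Lib.Helper28.Fi23Ord.TRelDefs

set_option autoImplicit false
set_option linter.unusedVariables false
set_option Elab.async false

namespace Cfsg.Agent.Lib.Helper28.Fi23x31671

open Cfsg.Spor.Fi23 (Gen)
open Cfsg.Agent.Lib.Helper28.TC

noncomputable section

theorem tRelP_blk0 : allRange (guard nn tRelP) 5 (0 * 2 ^ 5) = true := by decide +kernel
theorem tRelP_blk1 : allRange (guard nn tRelP) 5 (1 * 2 ^ 5) = true := by decide +kernel
theorem tRelP_blk2 : allRange (guard nn tRelP) 5 (2 * 2 ^ 5) = true := by decide +kernel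
theorem tRelP_blk3 : allRange (guard nn tRelP) 5 (3 * 2 ^ 5) = true := by decide +kernel
theorem tRelP_blk4 : allRange (guard nn tRelP) 5 (4 * 2 ^ 5) = true := by decide +kernel
theorem tRelP_blk5 : allRange (guard nn tRelP) 5 (5 * 2 ^ 5) = true := by decide +kernel
theorem tRelP_blk6 : allRange (guard nn tRelP) 5 (6 * 2 ^ 5) = true := by decide +kernel
theorem tRelP_blk7 : allRange (guard nn tRelP) 5 (7 * 2 ^ 5) = true := by decide +kernel
theorem tRelP_blk8 : allRange (guard nn tRelP) 5 (8 * 2 ^ 5) = true := by decide +kernel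
theorem tRelP_blk9 : allRange (guard nn tRelP) 5 (9 * 2 ^ 5) = true := by decide +kernel
theorem tRelP_blk10 : allRange (guard nn tRelP) 5 (10 * 2 ^ 5) = true := by decide +kernel
theorem tRelP_blk11 : allRange (guard nn tRelP) 5 (11 * 2 ^ 5) = true := by decide +kernel
theorem tRelP_blk12 : allRange (guard nn tRelP) 5 (12 * 2 ^ 5) = true := by decide +kernel
theorem tRelP_blk13 : allRange (guard nn tRelP) 5 (13 * 2 ^ 5) = true := by decide +kernel
theorem tRelP_blk14 : allRange (guard nn tRelP) 5 (14 * 2 ^ 5) = true := by decide +kernel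
theorem tRelP_blk15 : allRange (guard nn tRelP) 5 (15 * 2 ^ 5) = true := by decide +kernel
theorem tRelP_blk16 : allRange (guard nn tRelP) 5 (16 * 2 ^ 5) = true := by decide +kernel
theorem tRelP_blk17 : allRange (guard nn tRelP) 5 (17 * 2 ^ 5) = true := by decide +kernel
theorem tRelP_blk18 : allRange (guard nn tRelP) 5 (18 * 2 ^ 5) = true := by decide +kernel
theorem tRelP_blk19 : allRange (guard nn tRelP) 5 (19 * 2 ^ 5) = true := by decide +kernel
theorem tRelP_blk20 : allRange (guard nn tRelP) 5 (20 * 2 ^ 5) = true := by decide +kernel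
theorem tRelP_blk21 : allRange (guard nn tRelP) 5 (21 * 2 ^ 5) = true := by decide +kernel
theorem tRelP_blk22 : allRange (guard nn tRelP) 5 (22 * 2 ^ 5) = true := by decide +kernel
theorem tRelP_blk23 : allRange (guard nn tRelP) 5 (23 * 2 ^ 5) = true := by decide +kernel
theorem tRelP_blk24 : allRange (guard nn tRelP) 5 (24 * 2 ^ 5) = true := by decide +kernel
theorem tRelP_blk25 : allRange (guard nn tRelP) 5 (25 * 2 ^ 5) = true := by decide +kernel
theorem tRelP_blk26 : allRange (guard nn tRelP) 5 (26 * 2 ^ 5) = true := by decide +kernel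
theorem tRelP_blk27 : allRange (guard nn tRelP) 5 (27 * 2 ^ 5) = true := by decide +kernel
theorem tRelP_blk28 : allRange (guard nn tRelP) 5 (28 * 2 ^ 5) = true := by decide +kernel
theorem tRelP_blk29 : allRange (guard nn tRelP) 5 (29 * 2 ^ 5) = true := by decide +kernel
theorem tRelP_blk30 : allRange (guard nn tRelP) 5 (30 * 2 ^ 5) = true := by decide +kernel
theorem tRelP_blk31 : allRange (guard nn tRelP) 5 (31 * 2 ^ 5) = true := by decide +kernel
theorem tRelP_blk32 : allRange (guard nn tRelP) 5 (32 * 2 ^ 5) = true := by decide +kernel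
theorem tRelP_blk33 : allRange (guard nn tRelP) 5 (33 * 2 ^ 5) = true := by decide +kernel
theorem tRelP_blk34 : allRange (guard nn tRelP) 5 (34 * 2 ^ 5) = true := by decide +kernel
theorem tRelP_blk35 : allRange (guard nn tRelP) 5 (35 * 2 ^ 5) = true := by decide +kernel
theorem tRelP_blk36 : allRange (guard nn tRelP) 5 (36 * 2 ^ 5) = true := by decide +kernel
theorem tRelP_blk37 : allRange (guard nn tRelP) 5 (37 * 2 ^ 5) = true := by decide +kernel
theorem tRelP_blk38 : allRange (guard nn tRelP) 5 (38 * 2 ^ 5) = true := by decide +kernel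
theorem tRelP_blk39 : allRange (guard nn tRelP) 5 (39 * 2 ^ 5) = true := by decide +kernel
theorem tRelP_blk40 : allRange (guard nn tRelP) 5 (40 * 2 ^ 5) = true := by decide +kernel
theorem tRelP_blk41 : allRange (guard nn tRelP) 5 (41 * 2 ^ 5) = true := by decide +kernel
theorem tRelP_blk42 : allRange (guard nn tRelP) 5 (42 * 2 ^ 5) = true := by decide +kernel
theorem tRelP_blk43 : allRange (guard nn tRelP) 5 (43 * 2 ^ 5) = true := by decide +kernel
theorem tRelP_blk44 : allRange (guard nn tRelP) 5 (44 * 2 ^ 5) = true := by decide +kernel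
theorem tRelP_blk45 : allRange (guard nn tRelP) 5 (45 * 2 ^ 5) = true := by decide +kernel
theorem tRelP_blk46 : allRange (guard nn tRelP) 5 (46 * 2 ^ 5) = true := by decide +kernel
theorem tRelP_blk47 : allRange (guard nn tRelP) 5 (47 * 2 ^ 5) = true := by decide +kernel
theorem tRelP_blk48 : allRange (guard nn tRelP) 5 (48 * 2 ^ 5) = true := by decide +kernel
theorem tRelP_blk49 : allRange (guard nn tRelP) 5 (49 * 2 ^ 5) = true := by decide +kernel
theorem tRelP_blk50 : allRange (guard nn tRelP) 5 (50 * 2 ^ 5) = true := by decide +kernel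
theorem tRelP_blk51 : allRange (guard nn tRelP) 5 (51 * 2 ^ 5) = true := by decide +kernel
theorem tRelP_blk52 : allRange (guard nn tRelP) 5 (52 * 2 ^ 5) = true := by decide +kernel
theorem tRelP_blk53 : allRange (guard nn tRelP) 5 (53 * 2 ^ 5) = true := by decide +kernel
theorem tRelP_blk54 : allRange (guard nn tRelP) 5 (54 * 2 ^ 5) = true := by decide +kernel
theorem tRelP_blk55 : allRange (guard nn tRelP) 5 (55 * 2 ^ 5) = true := by decide +kernel
theorem tRelP_blk56 : allRange (guard nn tRelP) 5 (56 * 2 ^ 5) = true := by decide +kernel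
theorem tRelP_blk57 : allRange (guard nn tRelP) 5 (57 * 2 ^ 5) = true := by decide +kernel
theorem tRelP_blk58 : allRange (guard nn tRelP) 5 (58 * 2 ^ 5) = true := by decide +kernel
theorem tRelP_blk59 : allRange (guard nn tRelP) 5 (59 * 2 ^ 5) = true := by decide +kernel
theorem tRelP_blk60 : allRange (guard nn tRelP) 5 (60 * 2 ^ 5) = true := by decide +kernel
theorem tRelP_blk61 : allRange (guard nn tRelP) 5 (61 * 2 ^ 5) = true := by decide +kernel
theorem tRelP_blk62 : allRange (guard nn tRelP) 5 (62 * 2 ^ 5) = true := by decide +kernel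
theorem tRelP_blk63 : allRange (guard nn tRelP) 5 (63 * 2 ^ 5) = true := by decide +kernel
theorem tRelP_blk64 : allRange (guard nn tRelP) 5 (64 * 2 ^ 5) = true := by decide +kernel
theorem tRelP_blk65 : allRange (guard nn tRelP) 5 (65 * 2 ^ 5) = true := by decide +kernel
theorem tRelP_blk66 : allRange (guard nn tRelP) 5 (66 * 2 ^ 5) = true := by decide +kernel
theorem tRelP_blk67 : allRange (guard nn tRelP) 5 (67 * 2 ^ 5) = true := by decide +kernel
theorem tRelP_blk68 : allRange (guard nn tRelP) 5 (68 * 2 ^ 5) = true := by decide +kernel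
theorem tRelP_blk69 : allRange (guard nn tRelP) 5 (69 * 2 ^ 5) = true := by decide +kernel
theorem tRelP_blk70 : allRange (guard nn tRelP) 5 (70 * 2 ^ 5) = true := by decide +kernel
theorem tRelP_blk71 : allRange (guard nn tRelP) 5 (71 * 2 ^ 5) = true := by decide +kernel
theorem tRelP_blk72 : allRange (guard nn tRelP) 5 (72 * 2 ^ 5) = true := by decide +kernel
theorem tRelP_blk73 : allRange (guard nn tRelP) 5 (73 * 2 ^ 5) = true := by decide +kernel
theorem tRelP_blk74 : allRange (guard nn tRelP) 5 (74 * 2 ^ 5) = true := by decide +kernel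
theorem tRelP_blk75 : allRange (guard nn tRelP) 5 (75 * 2 ^ 5) = true := by decide +kernel
theorem tRelP_blk76 : allRange (guard nn tRelP) 5 (76 * 2 ^ 5) = true := by decide +kernel
theorem tRelP_blk77 : allRange (guard nn tRelP) 5 (77 * 2 ^ 5) = true := by decide +kernel
theorem tRelP_blk78 : allRange (guard nn tRelP) 5 (78 * 2 ^ 5) = true := by decide +kernel
theorem tRelP_blk79 : allRange (guard nn tRelP) 5 (79 * 2 ^ 5) = true := by decide +kernel
theorem tRelP_blk80 : allRange (guard nn tRelP) 5 (80 * 2 ^ 5) = true := by decide +kernel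
theorem tRelP_blk81 : allRange (guard nn tRelP) 5 (81 * 2 ^ 5) = true := by decide +kernel
theorem tRelP_blk82 : allRange (guard nn tRelP) 5 (82 * 2 ^ 5) = true := by decide +kernel
theorem tRelP_blk83 : allRange (guard nn tRelP) 5 (83 * 2 ^ 5) = true := by decide +kernel
theorem tRelP_blk84 : allRange (guard nn tRelP) 5 (84 * 2 ^ 5) = true := by decide +kernel
theorem tRelP_blk85 : allRange (guard nn tRelP) 5 (85 * 2 ^ 5) = true := by decide +kernel
theorem tRelP_blk86 : allRange (guard nn tRelP) 5 (86 * 2 ^ 5) = true := by decide +kernel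
theorem tRelP_blk87 : allRange (guard nn tRelP) 5 (87 * 2 ^ 5) = true := by decide +kernel
theorem tRelP_blk88 : allRange (guard nn tRelP) 5 (88 * 2 ^ 5) = true := by decide +kernel
theorem tRelP_blk89 : allRange (guard nn tRelP) 5 (89 * 2 ^ 5) = true := by decide +kernel
theorem tRelP_blk90 : allRange (guard nn tRelP) 5 (90 * 2 ^ 5) = true := by decide +kernel
theorem tRelP_blk91 : allRange (guard nn tRelP) 5 (91 * 2 ^ 5) = true := by decide +kernel
theorem tRelP_blk92 : allRange (guard nn tRelP) 5 (92 * 2 ^ 5) = true := by decide +kernel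
theorem tRelP_blk93 : allRange (guard nn tRelP) 5 (93 * 2 ^ 5) = true := by decide +kernel
theorem tRelP_blk94 : allRange (guard nn tRelP) 5 (94 * 2 ^ 5) = true := by decide +kernel
theorem tRelP_blk95 : allRange (guard nn tRelP) 5 (95 * 2 ^ 5) = true := by decide +kernel
theorem tRelP_blk96 : allRange (guard nn tRelP) 5 (96 * 2 ^ 5) = true := by decide +kernel
theorem tRelP_blk97 : allRange (guard nn tRelP) 5 (97 * 2 ^ 5) = true := by decide +kernel
theorem tRelP_blk98 : allRange (guard nn tRelP) 5 (98 * 2 ^ 5) = true := by decide +kernel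
theorem tRelP_blk99 : allRange (guard nn tRelP) 5 (99 * 2 ^ 5) = true := by decide +kernel
theorem tRelP_blk100 : allRange (guard nn tRelP) 5 (100 * 2 ^ 5) = true := by decide +kernel
theorem tRelP_blk101 : allRange (guard nn tRelP) 5 (101 * 2 ^ 5) = true := by decide +kernel
theorem tRelP_blk102 : allRange (guard nn tRelP) 5 (102 * 2 ^ 5) = true := by decide +kernel
theorem tRelP_blk103 : allRange (guard nn tRelP) 5 (103 * 2 ^ 5) = true := by decide +kernel
theorem tRelP_blk104 : allRange (guard nn tRelP) 5 (104 * 2 ^ 5) = true := by decide +kernel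
theorem tRelP_blk105 : allRange (guard nn tRelP) 5 (105 * 2 ^ 5) = true := by decide +kernel
theorem tRelP_blk106 : allRange (guard nn tRelP) 5 (106 * 2 ^ 5) = true := by decide +kernel
theorem tRelP_blk107 : allRange (guard nn tRelP) 5 (107 * 2 ^ 5) = true := by decide +kernel
theorem tRelP_blk108 : allRange (guard nn tRelP) 5 (108 * 2 ^ 5) = true := by decide +kernel
theorem tRelP_blk109 : allRange (guard nn tRelP) 5 (109 * 2 ^ 5) = true := by decide +kernel
theorem tRelP_blk110 : allRange (guard nn tRelP) 5 (110 * 2 ^ 5) = true := by decide +kernel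
theorem tRelP_blk111 : allRange (guard nn tRelP) 5 (111 * 2 ^ 5) = true := by decide +kernel
theorem tRelP_blk112 : allRange (guard nn tRelP) 5 (112 * 2 ^ 5) = true := by decide +kernel
theorem tRelP_blk113 : allRange (guard nn tRelP) 5 (113 * 2 ^ 5) = true := by decide +kernel
theorem tRelP_blk114 : allRange (guard nn tRelP) 5 (114 * 2 ^ 5) = true := by decide +kernel
theorem tRelP_blk115 : allRange (guard nn tRelP) 5 (115 * 2 ^ 5) = true := by decide +kernel
theorem tRelP_blk116 : allRange (guard nn tRelP) 5 (116 * 2 ^ 5) = true := by decide +kernel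
theorem tRelP_blk117 : allRange (guard nn tRelP) 5 (117 * 2 ^ 5) = true := by decide +kernel
theorem tRelP_blk118 : allRange (guard nn tRelP) 5 (118 * 2 ^ 5) = true := by decide +kernel
theorem tRelP_blk119 : allRange (guard nn tRelP) 5 (119 * 2 ^ 5) = true := by decide +kernel
theorem tRelP_blk120 : allRange (guard nn tRelP) 5 (120 * 2 ^ 5) = true := by decide +kernel
theorem tRelP_blk121 : allRange (guard nn tRelP) 5 (121 * 2 ^ 5) = true := by decide +kernel
theorem tRelP_blk122 : allRange (guard nn tRelP) 5 (122 * 2 ^ 5) = true := by decide +kernel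
theorem tRelP_blk123 : allRange (guard nn tRelP) 5 (123 * 2 ^ 5) = true := by decide +kernel

end

end Cfsg.Agent.Lib.Helper28.Fi23x31671
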