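import Cfsg.Agent.Lib.Helper28.Fi23x31671.Defs
import Cfsg.Agent.Lib.Helper28.TCOrbit

set_option autoImplicit false
set_option linter.unusedVariables false
set_option Elab.async false

namespace Cfsg.Agent.Lib.Helper28.Fi23x31671

open Cfsg.Spor.Fi23 (Gen)
open Cfsg.Agent.Lib.Helper28.TC

noncomputable section

theorem tr_nn_le_pow : nn ≤ 2 ^ 15 := by decide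

/-- further words that act trivially -/
def tRel : List (List Gen) := [
  [Gen.a, Gen.j, Gen.g, Gen.f, Gen.e, Gen.d, Gen.c, Gen.b, Gen.h, Gen.d, Gen.c, Gen.e, Gen.d, Gen.f, Gen.e, Gen.g, Gen.f, Gen.j, Gen.g, Gen.h, Gen.d, Gen.c, Gen.b, Gen.e, Gen.d, Gen.c, Gen.f, Gen.e, Gen.h, Gen.d, Gen.h, Gen.e, Gen.f, Gen.c, Gen.d, Gen.e, Gen.b, Gen.c, Gen.d, Gen.h, Gen.g, Gen.j, Gen.f, Gen.g, Gen.e, Gen.f, Gen.d, Gen.e, Gen.c, Gen.d, Gen.h, Gen.b, Gen.c, Gen.d, Gen.e, Gen.f, Gen.g, Gen.j, Gen.a, Gen.j, Gen.g, Gen.f, Gen.e, Gen.d, Gen.c, Gen.b, Gen.h, Gen.d, Gen.c, Gen.e, Gen.d, Gen.f, Gen.e, Gen.g, Gen.f, Gen.j, Gen.g, Gen.h, Gen.d, Gen.c, Gen.b, Gen.e, Gen.d, Gen.c, Gen.f, Gen.e, Gen.h, Gen.d, Gen.h, Gen.e, Gen.f, Gen.c,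 Gen.d, Gen.e, Gen.b, Gen.c, Gen.d, Gen.h, Gen.g, Gen.j, Gen.f, Gen.g, Gen.e, Gen.f, Gen.d, Gen.e, Gen.c, Gen.d, Gen.h, Gen.b, Gen.c, Gen.d, Gen.e, Gen.f, Gen.g, Gen.j],
  [Gen.b, Gen.j, Gen.g, Gen.f, Gen.e, Gen.d, Gen.c, Gen.b, Gen.h, Gen.d, Gen.c, Gen.e, Gen.d, Gen.f, Gen.e, Gen.g, Gen.f, Gen.j, Gen.g, Gen.h, Gen.d, Gen.c, Gen.b, Gen.e, Gen.d, Gen.c, Gen.f, Gen.e, Gen.h, Gen.d, Gen.h, Gen.e, Gen.f, Gen.c, Gen.d, Gen.e, Gen.b, Gen.c, Gen.d, Gen.h, Gen.g, Gen.j, Gen.f, Gen.g, Gen.e, Gen.f, Gen.d, Gen.e, Gen.c, Gen.d, Gen.h, Gen.b, Gen.c, Gen.d, Gen.e, Gen.f, Gen.g, Gen.j, Gen.b, Gen.j, Gen.g, Gen.f, Gen.e, Gen.d, Gen.c, Gen.b, Gen.h, Gen.d, Gen.c, Gen.e, Gen.d, Gen.f, Gen.e, Gen.g, Gen.f, Gen.j, Gen.g, Gen.h,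 Gen.d, Gen.c, Gen.b, Gen.e, Gen.d, Gen.c, Gen.f, Gen.e, Gen.h, Gen.d, Gen.h, Gen.e, Gen.f, Gen.c, Gen.d, Gen.e, Gen.b, Gen.c, Gen.d, Gen.h, Gen.g, Gen.j, Gen.f, Gen.g, Gen.e, Gen.f, Gen.d, Gen.e, Gen.c, Gen.d, Gen.h, Gen.b, Gen.c, Gen.d, Gen.e, Gen.f, Gen.g, Gen.j],
  [Gen.c, Gen.j, Gen.g, Gen.f, Gen.e, Gen.d, Gen.c, Gen.b, Gen.h, Gen.d, Gen.c, Gen.e, Gen.d, Gen.f, Gen.e, Gen.g, Gen.f, Gen.j, Gen.g, Gen.h, Gen.d, Gen.c, Gen.b, Gen.e, Gen.d, Gen.c, Gen.f, Gen.e, Gen.h, Gen.d, Gen.h, Gen.e, Gen.f, Gen.c, Gen.d, Gen.e, Gen.b, Gen.c, Gen.d, Gen.h, Gen.g, Gen.j, Gen.f, Gen.g, Gen.e, Gen.f, Gen.d, Gen.e, Gen.c, Gen.d, Gen.h, Gen.b, Gen.c, Gen.d, Gen.e, Gen.f, Gen.g, Gen.j, Gen.c, Gen.j, Gen.g, Gen.f, Gen.e, Gen.d,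 Gen.c, Gen.b, Gen.h, Gen.d, Gen.c, Gen.e, Gen.d, Gen.f, Gen.e, Gen.g, Gen.f, Gen.j, Gen.g, Gen.h, Gen.d, Gen.c, Gen.b, Gen.e, Gen.d, Gen.c, Gen.f, Gen.e, Gen.h, Gen.d, Gen.h, Gen.e, Gen.f, Gen.c, Gen.d, Gen.e, Gen.b, Gen.c, Gen.d, Gen.h, Gen.g, Gen.j, Gen.f, Gen.g, Gen.e, Gen.f, Gen.d, Gen.e, Gen.c, Gen.d, Gen.h, Gen.b, Gen.c, Gen.d, Gen.e, Gen.f, Gen.g, Gen.j],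
  [Gen.d, Gen.j, Gen.g, Gen.f, Gen.e, Gen.d, Gen.c, Gen.b, Gen.h, Gen.d, Gen.c, Gen.e, Gen.d, Gen.f, Gen.e, Gen.g, Gen.f, Gen.j, Gen.g, Gen.h, Gen.d, Gen.c, Gen.b, Gen.e, Gen.d, Gen.c, Gen.f, Gen.e, Gen.h, Gen.d, Gen.h, Gen.e, Gen.f, Gen.c, Gen.d, Gen.e, Gen.b, Gen.c, Gen.d, Gen.h, Gen.g, Gen.j, Gen.f, Gen.g, Gen.e, Gen.f, Gen.d, Gen.e, Gen.c, Gen.d, Gen.h, Gen.b, Gen.c, Gen.d, Gen.e, Gen.f, Gen.g, Gen.j, Gen.d, Gen.j, Gen.g, Gen.f, Gen.e, Gen.d, Gen.c, Gen.b, Gen.h, Gen.d, Gen.c, Gen.e, Gen.d, Gen.f, Gen.e, Gen.g, Gen.f, Gen.j, Gen.g, Gen.h, Gen.d, Gen.c, Gen.b, Gen.e, Gen.d, Gen.c, Gen.f, Gen.e, Gen.h, Gen.d, Gen.h, Gen.e, Gen.f, Gen.c, Gen.d, Gen.e, Gen.b, Gen.c, Gen.d, Gen.h, Gen.g, Gen.j, Gen.f, Gen.g,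 Gen.e, Gen.f, Gen.d, Gen.e, Gen.c, Gen.d, Gen.h, Gen.b, Gen.c, Gen.d, Gen.e, Gen.f, Gen.g, Gen.j],
  [Gen.e, Gen.j, Gen.g, Gen.f, Gen.e, Gen.d, Gen.c, Gen.b, Gen.h, Gen.d, Gen.c, Gen.e, Gen.d, Gen.f, Gen.e, Gen.g, Gen.f, Gen.j, Gen.g, Gen.h, Gen.d, Gen.c, Gen.b, Gen.e, Gen.d, Gen.c, Gen.f, Gen.e, Gen.h, Gen.d, Gen.h, Gen.e, Gen.f, Gen.c, Gen.d, Gen.e, Gen.b, Gen.c, Gen.d, Gen.h, Gen.g, Gen.j, Gen.f, Gen.g, Gen.e, Gen.f, Gen.d, Gen.e, Gen.c, Gen.d, Gen.h, Gen.b, Gen.c, Gen.d, Gen.e, Gen.f, Gen.g, Gen.j, Gen.e, Gen.j, Gen.g, Gen.f, Gen.e, Gen.d, Gen.c, Gen.b, Gen.h, Gen.d, Gen.c, Gen.e, Gen.d, Gen.f, Gen.e, Gen.g, Gen.f, Gen.j, Gen.g, Gen.h, Gen.d, Gen.c, Gen.b, Gen.e, Gen.d, Gen.c, Gen.f, Gen.e, Gen.h, Gen.d,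 Gen.h, Gen.e, Gen.f, Gen.c, Gen.d, Gen.e, Gen.b, Gen.c, Gen.d, Gen.h, Gen.g, Gen.j, Gen.f, Gen.g, Gen.e, Gen.f, Gen.d, Gen.e, Gen.c, Gen.d, Gen.h, Gen.b, Gen.c, Gen.d, Gen.e, Gen.f, Gen.g, Gen.j],
  [Gen.f, Gen.j, Gen.g, Gen.f, Gen.e, Gen.d, Gen.c, Gen.b, Gen.h, Gen.d, Gen.c, Gen.e, Gen.d, Gen.f, Gen.e, Gen.g, Gen.f, Gen.j, Gen.g, Gen.h, Gen.d, Gen.c, Gen.b, Gen.e, Gen.d, Gen.c, Gen.f, Gen.e, Gen.h, Gen.d, Gen.h, Gen.e, Gen.f, Gen.c, Gen.d, Gen.e, Gen.b, Gen.c, Gen.d, Gen.h, Gen.g, Gen.j, Gen.f, Gen.g, Gen.e, Gen.f, Gen.d, Gen.e, Gen.c, Gen.d, Gen.h, Gen.b, Gen.c, Gen.d, Gen.e, Gen.f, Gen.g, Gen.j, Gen.f, Gen.j, Gen.g, Gen.f, Gen.e, Gen.d, Gen.c, Gen.b, Gen.h, Gen.d, Gen.c, Gen.e, Gen.d, Gen.f, Gen.e, Gen.g,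 Gen.f, Gen.j, Gen.g, Gen.h, Gen.d, Gen.c, Gen.b, Gen.e, Gen.d, Gen.c, Gen.f, Gen.e, Gen.h, Gen.d, Gen.h, Gen.e, Gen.f, Gen.c, Gen.d, Gen.e, Gen.b, Gen.c, Gen.d, Gen.h, Gen.g, Gen.j, Gen.f, Gen.g, Gen.e, Gen.f, Gen.d, Gen.e, Gen.c, Gen.d, Gen.h, Gen.b, Gen.c, Gen.d, Gen.e, Gen.f, Gen.g, Gen.j],
  [Gen.g, Gen.j, Gen.g, Gen.f, Gen.e, Gen.d, Gen.c, Gen.b, Gen.h, Gen.d, Gen.c, Gen.e, Gen.d, Gen.f, Gen.e, Gen.g, Gen.f, Gen.j, Gen.g, Gen.h, Gen.d, Gen.c, Gen.b, Gen.e, Gen.d, Gen.c, Gen.f, Gen.e, Gen.h, Gen.d, Gen.h, Gen.e, Gen.f, Gen.c, Gen.d, Gen.e, Gen.b, Gen.c, Gen.d, Gen.h, Gen.g, Gen.j, Gen.f, Gen.g, Gen.e, Gen.f, Gen.d, Gen.e, Gen.c, Gen.d, Gen.h, Gen.b, Gen.c, Gen.d, Gen.e, Gen.f, Gen.g, Gen.j, Gen.g, Gen.j,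 Gen.g, Gen.f, Gen.e, Gen.d, Gen.c, Gen.b, Gen.h, Gen.d, Gen.c, Gen.e, Gen.d, Gen.f, Gen.e, Gen.g, Gen.f, Gen.j, Gen.g, Gen.h, Gen.d, Gen.c, Gen.b, Gen.e, Gen.d, Gen.c, Gen.f, Gen.e, Gen.h, Gen.d, Gen.h, Gen.e, Gen.f, Gen.c, Gen.d, Gen.e, Gen.b, Gen.c, Gen.d, Gen.h, Gen.g, Gen.j, Gen.f, Gen.g, Gen.e, Gen.f, Gen.d, Gen.e, Gen.c, Gen.d, Gen.h, Gen.b, Gen.c, Gen.d, Gen.e, Gen.f, Gen.g, Gen.j],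
  [Gen.h, Gen.j, Gen.g, Gen.f, Gen.e, Gen.d, Gen.c, Gen.b, Gen.h, Gen.d, Gen.c, Gen.e, Gen.d, Gen.f, Gen.e, Gen.g, Gen.f, Gen.j, Gen.g, Gen.h, Gen.d, Gen.c, Gen.b, Gen.e, Gen.d, Gen.c, Gen.f, Gen.e, Gen.h, Gen.d, Gen.h, Gen.e, Gen.f, Gen.c, Gen.d, Gen.e, Gen.b, Gen.c, Gen.d, Gen.h, Gen.g, Gen.j, Gen.f, Gen.g, Gen.e, Gen.f, Gen.d, Gen.e, Gen.c, Gen.d, Gen.h, Gen.b, Gen.c, Gen.d, Gen.e, Gen.f, Gen.g, Gen.j, Gen.h, Gen.j, Gen.g, Gen.f, Gen.e, Gen.d, Gen.c, Gen.b, Gen.h, Gen.d, Gen.c, Gen.e, Gen.d, Gen.f, Gen.e, Gen.g, Gen.f, Gen.j, Gen.g, Gen.h, Gen.d, Gen.c, Gen.b, Gen.e, Gen.d, Gen.c, Gen.f, Gen.e, Gen.h, Gen.d, Gen.h, Gen.e, Gen.f, Gen.c, Gen.d, Gen.e, Gen.b, Gen.c, Gen.d, Gen.h, Gen.g, Gen.j, Gen.f, Gen.g,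 Gen.e, Gen.f, Gen.d, Gen.e, Gen.c, Gen.d, Gen.h, Gen.b, Gen.c, Gen.d, Gen.e, Gen.f, Gen.g, Gen.j],
  [Gen.i, Gen.j, Gen.g, Gen.f, Gen.e, Gen.d, Gen.c, Gen.b, Gen.h, Gen.d, Gen.c, Gen.e, Gen.d, Gen.f, Gen.e, Gen.g, Gen.f, Gen.j, Gen.g, Gen.h, Gen.d, Gen.c, Gen.b, Gen.e, Gen.d, Gen.c, Gen.f, Gen.e, Gen.h, Gen.d, Gen.h, Gen.e, Gen.f, Gen.c, Gen.d, Gen.e, Gen.b, Gen.c, Gen.d, Gen.h, Gen.g, Gen.j, Gen.f, Gen.g, Gen.e, Gen.f, Gen.d, Gen.e, Gen.c, Gen.d, Gen.h, Gen.b, Gen.c, Gen.d, Gen.e, Gen.f, Gen.g, Gen.j, Gen.i, Gen.j, Gen.g, Gen.f, Gen.e, Gen.d, Gen.c, Gen.b, Gen.h, Gen.d, Gen.c, Gen.e, Gen.d, Gen.f, Gen.e, Gen.g, Gen.f, Gen.j, Gen.g, Gen.h, Gen.d, Gen.c, Gen.b, Gen.e, Gen.d, Gen.c, Gen.f, Gen.e, Gen.h, Gen.d,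 Gen.h, Gen.e, Gen.f, Gen.c, Gen.d, Gen.e, Gen.b, Gen.c, Gen.d, Gen.h, Gen.g, Gen.j, Gen.f, Gen.g, Gen.e, Gen.f, Gen.d, Gen.e, Gen.c, Gen.d, Gen.h, Gen.b, Gen.c, Gen.d, Gen.e, Gen.f, Gen.g, Gen.j]]
def tRelP (i : ℕ) : Bool := relRowOK tf tRel i

end

end Cfsg.Agent.Lib.Helper28.Fi23x31671
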